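import Groth.Agent.Lib.PBK5.Model
import Groth.Agent.Lib.Lambda.Apps
import Groth.Agent.Lib.Lambda.Positive
import Groth.Agent.Lib.Lambda.ExtFil
import Groth.Agent.Lib.KModel5.Main
import Groth.Agent.Lib.Wedge2.Props

/-! Pull-back is a homomorphism of lambda-rings with positive structure. -/

set_option autoImplicit false
set_option linter.style.haveILetI false
set_option backward.isDefEq.respectTransparency false
set_option backward.isDefEq.respectTransparency.types false

universe v w u

open CategoryTheory Limits AlgebraicGeometry LambdaRing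

noncomputable section

namespace Groth.Agent.PBK5

open Groth.Agent.ExtFil4 (cl)

attribute [local instance] ExtFil4.kvbRing

section Abstract

variable {A : Type v} {B : Type w} [CommRing A] [LambdaOps A] [CommRing B] [LambdaOps B]
  {PA : PosStructure A} {PB : PosStructure B}

/-- A map of lambda-rings compatible with the augmentations preserves the filtration. -/
theorem map_gammaFiltration (g : A →+* B) (hl : ∀ n x, g (LambdaOps.lam n x) = LambdaOps.lam n (g x))
    (ha : ∀ x, PB.aug (g x) = PA.aug x) (k : ℕ) {x : A} (hx : x ∈ gammaFiltration PA k) :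
    g x ∈ gammaFiltration PB k := by
  rcases Nat.eq_zero_or_pos k with rfl | hk
  · simp [gammaFiltration]
  rw [Lambda.gammaFiltration_eq PA k (by omega)] at hx
  rw [Lambda.gammaFiltration_eq PB k (by omega)]
  refine AddSubgroup.closure_induction (p := fun a _ => g a ∈ _) ?_ (by simp)
    (fun a b _ _ ha hb => by rw [map_add]; exact add_mem ha hb)
    (fun a _ ha => by rw [map_neg]; exact neg_mem ha) hx
  rintro _ ⟨l, hl', hs, rfl⟩
  rw [map_list_prod, List.map_map]
  refine AddSubgroup.subset_closure ⟨l.map fun p => (p.1, g p.2), ?_, ?_, ?_⟩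
  · intro p hp
    obtain ⟨q, hq, rfl⟩ := List.mem_map.1 hp
    rw [ha]; exact hl' q hq
  · simpa [List.map_map, Function.comp_def] using hs
  · rw [List.map_map]
    congr 1
    exact List.map_congr_left fun p _ => Lambda.gamma_map g hl p.1 p.2

end Abstract

variable {X Y : Scheme.{u}} {f : X ⟶ Y}
  {KY : Type v} [CommRing KY] [LambdaOps KY] {PY : PosStructure KY} {φY : SGA6.Kvb Y →+ KY}
  {KX : Type w} [CommRing KX] [LambdaOps KX] {PX : PosStructure KX} {φX : SGA6.Kvb X →+ KX}
  {g : KY →+ KX}

/-- The pull-back as a ring homomorphism. -/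
def pullRingHom (hY : KRR.IsModel Y KY PY φY) (hX : KRR.IsModel X KX PX φX) (hg : KRR.IsPull f φY φX g) :
    KY →+* KX where
  toFun := g
  map_zero' := map_zero g
  map_add' := map_add g
  map_one' := by
    rw [← map_one (modelHom hY), modelHom_apply, isPull_apply hg, map_one, ← modelHom_apply hX, map_one]
  map_mul' := fun a b => by
    obtain ⟨x, rfl⟩ := hY.bijective.2 a
    obtain ⟨y, rfl⟩ := hY.bijective.2 b
    rw [show φY x * φY y = φY (x * y) from (map_mul (modelHom hY) x y).symm, isPull_apply hg, isPull_apply hg,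
      isPull_apply hg, map_mul, ← modelHom_apply hX, map_mul, modelHom_apply, modelHom_apply]

variable (hY : KRR.IsModel Y KY PY φY) (hX : KRR.IsModel X KX PX φX) (hg : KRR.IsPull f φY φX g)

theorem pullRingHom_apply (x : KY) : pullRingHom hY hX hg x = g x := rfl

include hY hX hg

theorem pull_lam (i : ℕ) (x : KY) : g (LambdaOps.lam i x) = LambdaOps.lam i (g x) := by
  obtain ⟨a, rfl⟩ := hY.bijective.2 x
  revert i
  induction a using K0Cat.clSub_induction with
  | h0 =>
    intro i
    simp only [map_zero]
    rcases Nat.eq_zero_or_pos i with rfl | hi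
    · rw [LambdaOps.lam_zero, LambdaOps.lam_zero]; exact map_one (pullRingHom hY hX hg)
    · have h1 : LambdaOps.lam i (0 : KY) = 0 := by
        rw [← Lambda.coeff_lamSeries, Lambda.lamSeries_zero, PowerSeries.coeff_one, if_neg (by omega)]
      have h2 : LambdaOps.lam i (0 : KX) = 0 := by
        rw [← Lambda.coeff_lamSeries, Lambda.lamSeries_zero, PowerSeries.coeff_one, if_neg (by omega)]
      rw [h1, h2, map_zero]
  | hcl E hE =>
    intro i
    obtain ⟨L, hL, hLE⟩ := KModel5.hasExt Y i E hE
    change g (LambdaOps.lam i (φY (KRR.cl Y E))) = LambdaOps.lam i (g (φY (KRR.cl Y E)))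
    rw [hY.map_lam i E L hE hL hLE, hg E hE, hg L hL,
      hX.map_lam i _ _ (M2.isFinLocFree_pullback f hE) (M2.isFinLocFree_pullback f hL)
        (Wedge2.isExtPow_pullback' f (qcoh_of_vb hE) hLE)]
  | hadd a b ha hb =>
    intro i
    rw [map_add, map_add, LambdaOps.lam_add, LambdaOps.lam_add, map_sum]
    exact Finset.sum_congr rfl fun j _ => by
      rw [← pullRingHom_apply hY hX hg, map_mul, pullRingHom_apply, pullRingHom_apply, ha, hb]
  | hneg a ha =>
    intro i
    rw [map_neg]
    induction i using Nat.strong_induction_on with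
    | _ i ih =>
      rcases Nat.eq_zero_or_pos i with rfl | hi
      · rw [LambdaOps.lam_zero, LambdaOps.lam_zero]; exact map_one (pullRingHom hY hX hg)
      have h1 : LambdaOps.lam i (φY a + -φY a) = 0 := by
        rw [add_neg_cancel, ← Lambda.coeff_lamSeries, Lambda.lamSeries_zero, PowerSeries.coeff_one,
          if_neg (by omega)]
      have h2 : LambdaOps.lam i (g (φY a) + -g (φY a)) = 0 := by
        rw [add_neg_cancel, ← Lambda.coeff_lamSeries, Lambda.lamSeries_zero, PowerSeries.coeff_one,
          if_neg (by omega)]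
      rw [LambdaOps.lam_add, Finset.sum_range_succ', LambdaOps.lam_zero, one_mul, Nat.sub_zero] at h1 h2
      rw [eq_neg_of_add_eq_zero_right h1, map_neg g (φY a), eq_neg_of_add_eq_zero_right h2, map_neg, map_sum]
      refine congrArg _ (Finset.sum_congr rfl fun j _ => ?_)
      rw [← pullRingHom_apply hY hX hg, map_mul, pullRingHom_apply, pullRingHom_apply, ha,
        ih _ (by omega), map_neg]

theorem pull_aug (x : KY) : PX.aug (g x) = PY.aug x := by
  obtain ⟨e, e', he, he', rfl⟩ := PY.exists_sub x
  suffices h : ∀ e ∈ PY.pos, PX.aug (g e) = PY.aug e by rw [map_sub, map_sub, map_sub, h e he, h e' he']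
  intro e he
  obtain ⟨n, E, -, hE, rfl⟩ := (hY.mem_pos_iff e).1 he
  rw [hg E (M2.isFinLocFree_of_ofRank hE), hY.aug_cl _ E hE, hX.aug_cl _ _ (M2.isFinLocFreeOfRank_pullback f hE)]

theorem pull_pos {x : KY} (hx : x ∈ PY.pos) : g x ∈ PX.pos := by
  obtain ⟨n, E, hn, hE, rfl⟩ := (hY.mem_pos_iff x).1 hx
  rw [hg E (M2.isFinLocFree_of_ofRank hE)]
  exact (hX.mem_pos_iff _).2 ⟨n, _, hn, M2.isFinLocFreeOfRank_pullback f hE, rfl⟩

theorem pull_filtration (k : ℕ) {x : KY} (hx : x ∈ gammaFiltration PY k) :
    g x ∈ gammaFiltration PX k :=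
  map_gammaFiltration (pullRingHom hY hX hg) (pull_lam hY hX hg) (pull_aug hY hX hg) k hx

end Groth.Agent.PBK5
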