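import Groth.Agent.Lib.PBK5.Hom
import Groth.Agent.Lib.RelAmple18.Generation
import Groth.Agent.Lib.AmpleElt5.Main
import Groth.Agent.Lib.Cyc26.SplitBase
import Groth.Agent.Lib.Lambda.Inv
import Mathlib.Topology.NoetherianSpace

/-! Products of more line classes minus one than the dimension vanish. -/

set_option autoImplicit false
set_option linter.style.haveILetI false
set_option backward.isDefEq.respectTransparency false
set_option backward.isDefEq.respectTransparency.types false

universe v u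

open CategoryTheory Limits AlgebraicGeometry TopologicalSpace LambdaRing

noncomputable section

namespace Groth.Agent.PBK5

open Groth.Agent.ExtFil4 (cl)
open Groth.Agent.Amp (gm Gen gval gen_tsec_iff mem_genLocus_iff exists_isGenerator gen_of_isGenerator gen_map_iso)

attribute [local instance] ExtFil4.kvbRing

variable {X : Scheme.{u}}

theorem surjective_of_gen {B N : X.Modules} (t : B ⟶ N) {x : X} {U : X.Opens} (hx : x ∈ U) (b : Γ(B, U))
    (h : Gen (gm N x hx (t.app U b))) : Function.Surjective ((M1.stalkAb x).map t) := fun y => by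
  obtain ⟨r, rfl⟩ := h.2 y
  obtain ⟨V, hV, r, rfl⟩ := X.presheaf.exists_germ_eq r
  refine ⟨gm B x (U := V ⊓ U) ⟨hV, hx⟩ (M1.ores (inf_le_left : V ⊓ U ≤ V) r • M1.mres B (inf_le_right : V ⊓ U ≤ U) b), ?_⟩
  show (M1.stalkAb x).map t (B.presheaf.germ _ x _ _) = _
  rw [M1.germ_naturality, Scheme.Modules.Hom.app_smul, M1.germ_smul, TopCat.Presheaf.germ_res_apply,
    M1.app_mres, M1.germ_mres]

/-- The dual of a section of an invertible module. -/
theorem exists_dual_map {A : X.Modules} (hA : PicF.IsInvertible A) (s : Coh.structureModule X ⟶ A) :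
    ∃ (D : X.Modules) (t : D ⟶ Coh.structureModule X), PicF.IsInvertible D ∧
      Nonempty (CohB1.tensorMod A D ≅ Coh.structureModule X) ∧
      ∀ x ∈ CohB1.genLocus A s, Function.Surjective ((M1.stalkAb x).map t) := by
  obtain ⟨D, hD, ⟨e⟩⟩ := M2.exists_inverse hA
  refine ⟨CohB1.tensorMod (Coh.structureModule X) D, M2.tensorMap s (𝟙 D) ≫ e.hom,
    M2.isInvertible_tensor (PicLoc.isInvertible_structureModule X) hD,
    ⟨M2.tensorIso (Iso.refl A) (M2.tensorLUnit D) ≪≫ e⟩, fun x hx => ?_⟩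
  obtain ⟨U, d, hxU, -, -, hd⟩ := exists_isGenerator hD (V := ⊤) (x := x) trivial
  refine surjective_of_gen _ hxU (M2.tsec _ D (M1.one U) d) ?_
  show Gen (gm _ x hxU (e.hom.app U ((M2.tensorMap s (𝟙 D)).app U _)))
  rw [gen_map_iso, M2.tensorMap_tsec, gen_tsec_iff hA hD]
  refine ⟨?_, gen_of_isGenerator hd hxU⟩
  rw [← Amp.res_gval s U, Amp.gm_res]
  exact (mem_genLocus_iff hA s).1 hx

section Koszul

variable [ConnectedSpace X] {K : Type v} [CommRing K] [LambdaOps K] {P : PosStructure K} {φ : SGA6.Kvb X →+ K}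

omit [ConnectedSpace X] in
theorem isLine_cl (hK : KRR.IsModel X K P φ) {M : X.Modules} (hM : PicF.IsInvertible M) :
    P.IsLine (φ (KRR.cl X M)) := by
  have h1 := (M2.isInvertible_iff_isFinLocFreeOfRank_one M).1 hM
  exact ⟨(hK.mem_pos_iff _).2 ⟨1, _, le_rfl, h1, rfl⟩, (hK.aug_cl 1 _ h1).trans Nat.cast_one⟩

omit [ConnectedSpace X] in
theorem exists_sum_map (hK : KRR.IsModel X K P φ) : ∀ {n : ℕ} (D : Fin n → X.Modules)
    (t : ∀ k, D k ⟶ Coh.structureModule X), (∀ k, PicF.IsInvertible (D k)) →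
    ∃ (B : X.Modules) (T : B ⟶ Coh.structureModule X), FlatMod.IsFinLocFree B ∧
      φ (KRR.cl X B) = ∑ k, φ (KRR.cl X (D k)) ∧
      ∀ (x : X) k, Function.Surjective ((M1.stalkAb x).map (t k)) → Function.Surjective ((M1.stalkAb x).map T)
  | 0, _, _, _ => by
    have hZ := DPerf.isZero_freeMod_zero X
    refine ⟨FlatMod.freeMod X 0, 0, M2.isFinLocFree_of_ofRank (FormalH7.isFinLocFreeOfRank_freeMod X 0), ?_,
      fun x k => k.elim0⟩
    rw [show KRR.cl X (FlatMod.freeMod X 0) = 0 from K0Cat.clSub_of_isZero hZ (KFlat.Sch.isFinLocFree_of_isZero hZ)]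
    simp
  | n + 1, D, t, hD => by
    obtain ⟨B, T, hB, hcl, hT⟩ := exists_sum_map hK (fun k => D k.castSucc) (fun k => t k.castSucc) fun k => hD _
    have hl := M2.isFinLocFree_of_isInvertible (hD (Fin.last n))
    have hBD := KFlat.Sch.isFinLocFree_biprod hB hl
    refine ⟨B ⊞ D (Fin.last n), biprod.desc T (t (Fin.last n)), hBD, ?_, fun x k => ?_⟩
    · rw [AmpleElt5.cl_ses φ _ (ShortComplex.Splitting.ofHasBinaryBiproduct B (D (Fin.last n))).shortExact
        hB hBD hl, hcl, Fin.sum_univ_castSucc]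
    · refine Fin.lastCases (fun h y => ?_) (fun k h y => ?_) k
      · obtain ⟨z, rfl⟩ := h y
        refine ⟨(M1.stalkAb x).map biprod.inr z, ?_⟩
        rw [← ConcreteCategory.comp_apply, ← Functor.map_comp, biprod.inr_desc]
      · obtain ⟨z, rfl⟩ := hT x k h y
        refine ⟨(M1.stalkAb x).map biprod.inl z, ?_⟩
        rw [← ConcreteCategory.comp_apply, ← Functor.map_comp, biprod.inl_desc]

theorem lamAlt_one_add (q : K) (hP : ∀ i, 2 ≤ i → LambdaOps.lam i (1 : K) = 0) (m : ℕ)
    (hq : ∀ i, m < i → LambdaOps.lam i q = 0) :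
    ∑ i ∈ Finset.range (m + 2), (-1 : K) ^ i * LambdaOps.lam i (q + 1) = 0 := by
  have h : ∀ i, LambdaOps.lam (i + 1) (q + 1) = LambdaOps.lam (i + 1) q + LambdaOps.lam i q := by
    intro i
    rw [LambdaOps.lam_add, Finset.sum_range_succ, Finset.sum_range_succ, Finset.sum_eq_zero fun k hk => ?_]
    · simp [LambdaOps.lam_zero, LambdaOps.lam_one]; ring
    · rw [Finset.mem_range] at hk
      rw [hP _ (by omega), mul_zero]
  have hs : ∀ M, ∑ i ∈ Finset.range (M + 1), (-1 : K) ^ i * LambdaOps.lam i (q + 1) =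
      (-1) ^ M * LambdaOps.lam M q := by
    intro M
    induction M with
    | zero => simp [LambdaOps.lam_zero]
    | succ M ih => rw [Finset.sum_range_succ, ih, h, pow_succ]; ring
  rw [hs, hq _ (by omega), mul_zero]

/-- Sections of invertible modules without common zero. -/
theorem prod_one_sub_eq_zero (hK : KRR.IsModel X K P φ) {n : ℕ} (A : Fin n → X.Modules)
    (hA : ∀ k, PicF.IsInvertible (A k)) (s : ∀ k, Coh.structureModule X ⟶ A k)
    (hs : ∀ x : X, ∃ k, x ∈ CohB1.genLocus (A k) (s k)) : ∏ k, (1 - φ (KRR.cl X (A k))) = 0 := by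
  choose D t hD e ht using fun k => exists_dual_map (hA k) (s k)
  obtain ⟨B, T, hB, hcl, hT⟩ := exists_sum_map hK D t hD
  haveI : Epi T := (M1.epi_iff_stalk T).2 fun x => by
    obtain ⟨k, hk⟩ := hs x
    exact hT x k (ht k x hk)
  have hO : FlatMod.IsFinLocFree (Coh.structureModule X) :=
    M2.isFinLocFree_of_isInvertible (PicLoc.isInvertible_structureModule X)
  let S : ShortComplex X.Modules := ShortComplex.mk (kernel.ι T) T (kernel.condition T)
  have hS : S.ShortExact :=
    ShortComplex.ShortExact.mk' (S.exact_of_f_is_kernel (kernelIsKernel T)) inferInstance inferInstance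
  have hker : FlatMod.IsFinLocFree (kernel T) := DPerf.isFinLocFree_kernel _ _ _ hS hB hO
  obtain ⟨x₀⟩ := (inferInstance : Nonempty X)
  obtain ⟨m, hm⟩ : ∃ m, FlatMod.IsFinLocFreeOfRank m (kernel T) := ⟨_, KModel5.exists_rank x₀ hker⟩
  have hsum : ∑ k, φ (KRR.cl X (D k)) = φ (KRR.cl X (kernel T)) + 1 := by
    rw [← hcl, AmpleElt5.cl_ses φ S hS hker hB hO, hK.map_one]
  have hl := fun k => isLine_cl hK (hD k)
  have hn : n = m + 1 := by
    have h := congrArg P.aug hsum
    rw [map_sum, map_add, hK.aug_cl m _ hm, map_one, Finset.sum_congr rfl fun k _ => (hl k).2] at h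
    simp only [Finset.sum_const, Finset.card_univ, Fintype.card_fin, Int.nsmul_eq_mul, mul_one] at h
    omega
  have hq : ∀ i, m < i → LambdaOps.lam i (φ (KRR.cl X (kernel T))) = 0 := by
    intro i hi
    rcases Nat.eq_zero_or_pos m with rfl | hm0
    · rw [show KRR.cl X (kernel T) = 0 from K0Cat.clSub_of_isZero (AmpleElt5.isZero_of_rank_zero hm) hker, map_zero]
      rw [← Lambda.coeff_lamSeries, Lambda.lamSeries_zero, PowerSeries.coeff_one, if_neg (by omega)]
    · refine Lambda.lam_pos_eq_zero (P := P) ((hK.mem_pos_iff _).2 ⟨m, _, hm0, hm, rfl⟩) i ?_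
      rw [hK.aug_cl m _ hm, Int.toNat_natCast]
      exact hi
  have h0 : ∏ k, (1 - φ (KRR.cl X (D k))) = 0 := by
    rw [← Lambda.lamAlt_lines (P := P) (fun k => φ (KRR.cl X (D k))) hl, hsum]
    subst hn
    exact lamAlt_one_add _ (Lambda.pos_lam_one P) m hq
  have hab : ∀ k, φ (KRR.cl X (A k)) * φ (KRR.cl X (D k)) = 1 := fun k => by
    rw [hK.map_mul _ _ (M2.isFinLocFree_of_isInvertible (hA k)) (M2.isFinLocFree_of_isInvertible (hD k)),
      ← hK.map_one]
    exact congrArg φ (cl_congr (e k).some (M2.isFinLocFree_tensor (M2.isFinLocFree_of_isInvertible (hA k))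
      (M2.isFinLocFree_of_isInvertible (hD k))))
  rw [Finset.prod_congr rfl fun k _ => (show (1 - φ (KRR.cl X (A k))) =
      -φ (KRR.cl X (A k)) * (1 - φ (KRR.cl X (D k))) by linear_combination (-1 : K) * hab k),
    Finset.prod_mul_distrib, h0, mul_zero]

end Koszul

section Dim

/-- All chains of irreducible closed subsets of `Z` have fewer than `n` steps. -/
def DimLT (Z : Set X) (n : ℕ) : Prop :=
  ∀ s : LTSeries {C : IrreducibleCloseds X // (C : Set X) ⊆ Z}, s.length < n

theorem DimLT.eq_empty {Z : Set X} (hZ : IsClosed Z) (h : DimLT Z 0) : Z = ∅ := by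
  refine Set.eq_empty_of_forall_notMem fun x hx => ?_
  exact Nat.not_lt_zero _ (h (RelSeries.singleton _ ⟨⟨closure {x}, isIrreducible_singleton.closure,
    isClosed_closure⟩, closure_minimal (Set.singleton_subset_iff.2 hx) hZ⟩))

theorem dimLT_univ {d : ℕ} (hd : topologicalKrullDim X ≤ (d : WithBot ℕ∞)) : DimLT (Set.univ : Set X) (d + 1) := by
  intro s
  have h : (s.length : WithBot ℕ∞) ≤ d :=
    (Order.LTSeries.length_le_krullDim (s.map (fun C => C.1) fun _ _ h => h)).trans hd
  have : s.length ≤ d := by exact_mod_cast h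
  omega

/-- Finitely many points whose avoidance lowers the dimension. -/
theorem exists_finite_generic [NoetherianSpace X] {Z : Set X} (hZ : IsClosed Z) :
    ∃ T : Set X, T.Finite ∧ ∀ C : IrreducibleCloseds X, (C : Set X) ⊆ Z →
      ∃ ξ ∈ T, ξ ∈ Z ∧ (C : Set X) ⊆ closure {ξ} := by
  haveI : NoetherianSpace Z := NoetherianSpace.set Z
  haveI : QuasiSober Z := hZ.isClosedEmbedding_subtypeVal.quasiSober
  haveI := (NoetherianSpace.finite_irreducibleComponents (α := Z)).to_subtype
  refine ⟨Set.range fun W : irreducibleComponents Z => (W.2.1.genericPoint : Z).1, Set.finite_range _,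
    fun C hC => ?_⟩
  obtain ⟨η, hη⟩ : ∃ η, IsGenericPoint η (C : Set X) := QuasiSober.sober C.isIrreducible C.isClosed
  let w : Z := ⟨η, hC hη.mem⟩
  have hW := irreducibleComponent_mem_irreducibleComponents w
  refine ⟨_, ⟨⟨_, hW⟩, rfl⟩, Subtype.coe_prop _, ?_⟩
  have hsp : hW.1.genericPoint ⤳ w :=
    hW.1.isGenericPoint_genericPoint_closure.specializes (subset_closure mem_irreducibleComponent)
  rw [← hη.def]
  exact closure_minimal (Set.singleton_subset_iff.2 ((hsp.map continuous_subtype_val).mem_closure)) isClosed_closure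

theorem DimLT.of_avoid {Z Z' : Set X} {n : ℕ} (h : DimLT Z (n + 1)) (hle : Z' ⊆ Z) {T : Set X}
    (hT : ∀ C : IrreducibleCloseds X, (C : Set X) ⊆ Z → ∃ ξ ∈ T, ξ ∈ Z ∧ (C : Set X) ⊆ closure {ξ})
    (hZ : IsClosed Z) (havoid : ∀ ξ ∈ T, ξ ∉ Z') : DimLT Z' n := by
  intro s
  let s' : LTSeries {C : IrreducibleCloseds X // (C : Set X) ⊆ Z} :=
    s.map (fun C => ⟨C.1, C.2.trans hle⟩) fun _ _ h => h
  obtain ⟨ξ, hξT, hξZ, hξ⟩ := hT s'.last.1 s'.last.2
  let C' : {C : IrreducibleCloseds X // (C : Set X) ⊆ Z} :=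
    ⟨⟨closure {ξ}, isIrreducible_singleton.closure, isClosed_closure⟩,
      closure_minimal (Set.singleton_subset_iff.2 hξZ) hZ⟩
  have hlt : s'.last < C' := by
    refine lt_of_le_of_ne (show s'.last.1 ≤ C'.1 from hξ) fun heq => ?_
    refine havoid ξ hξT (s.last.2 ?_)
    have h2 : ξ ∈ (C'.1 : Set X) := subset_closure rfl
    rw [← heq] at h2
    exact h2
  have := h (s'.snoc C' hlt)
  simp only [RelSeries.snoc_length] at this
  show s.length < n
  have e : s'.length = s.length := rfl
  omega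

end Dim

section Vanish

variable [ConnectedSpace X] [IsNoetherian X] {L : X.Modules} {K : Type v} [CommRing K] [LambdaOps K]
  {P : PosStructure K} {φ : SGA6.Kvb X →+ K}

theorem prod_lines_aux (hL : CohB1.IsAmple L) (hK : KRR.IsModel X K P φ) :
    ∀ {m : ℕ} (M : Fin m → X.Modules), (∀ i, PicF.IsInvertible (M i)) →
    ∀ {k : ℕ} (A : Fin k → X.Modules) (s : ∀ i, Coh.structureModule X ⟶ A i), (∀ i, PicF.IsInvertible (A i)) →
      DimLT (X := X) {x | ∀ i, x ∉ CohB1.genLocus (A i) (s i)} m →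
      (∏ i, (1 - φ (KRR.cl X (A i)))) * ∏ i, (φ (KRR.cl X (M i)) - 1) = 0
  | 0, M, _, k, A, s, hA, hdim => by
    have hZ : IsClosed {x : X | ∀ i, x ∉ CohB1.genLocus (A i) (s i)} := by
      rw [show {x : X | ∀ i, x ∉ CohB1.genLocus (A i) (s i)} = ⋂ i, ((CohB1.genLocus (A i) (s i) : Set X))ᶜ from
        Set.ext fun x => by simp]
      exact isClosed_iInter fun i => (CohB1.genLocus (A i) (s i)).isOpen.isClosed_compl
    have h := hdim.eq_empty hZ
    rw [prod_one_sub_eq_zero hK A hA s fun x => by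
      by_contra hx
      exact Set.eq_empty_iff_forall_notMem.1 h x (not_exists.1 hx), zero_mul]
  | m + 1, M, hM, k, A, s, hA, hdim => by
    let Z : Set X := {x : X | ∀ i, x ∉ CohB1.genLocus (A i) (s i)}
    have hZ : IsClosed Z := by
      rw [show Z = ⋂ i, ((CohB1.genLocus (A i) (s i) : Set X))ᶜ from Set.ext fun x => by simp [Z]]
      exact isClosed_iInter fun i => (CohB1.genLocus (A i) (s i)).isOpen.isClosed_compl
    obtain ⟨T, hTf, hT⟩ := exists_finite_generic hZ
    obtain ⟨W₁, N₁, hW₁, h₁⟩ := RA.exists_gen_nhd_finite hL (PicLoc.isInvertible_structureModule X) hTf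
    obtain ⟨W₂, N₂, hW₂, h₂⟩ := RA.exists_gen_nhd_finite hL (hM (Fin.last m)) hTf
    let N := max N₁ N₂
    obtain ⟨t₁, ht₁⟩ := h₁ N (le_max_left _ _)
    obtain ⟨t₂, ht₂⟩ := h₂ N (le_max_right _ _)
    have hLN := Amp.isInvertible_tensorPow hL.1 N
    have key : ∀ (E : X.Modules) (hE : PicF.IsInvertible E) (t : Coh.structureModule X ⟶ E),
        T ⊆ CohB1.genLocus E t → (∏ i, (1 - φ (KRR.cl X (A i)))) * (1 - φ (KRR.cl X E)) *
          ∏ i : Fin m, (φ (KRR.cl X (M i.castSucc)) - 1) = 0 := by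
      intro E hE t ht
      let A' : Fin (k + 1) → X.Modules := Fin.snoc A E
      let s' : ∀ i, Coh.structureModule X ⟶ A' i := fun i => Fin.lastCases
        (t ≫ eqToHom (Fin.snoc_last (α := fun _ => X.Modules) E A).symm)
        (fun i => s i ≫ eqToHom (Fin.snoc_castSucc (α := fun _ => X.Modules) E A i).symm) i
      have hA' : ∀ i, PicF.IsInvertible (A' i) := fun i => by
        refine Fin.lastCases ?_ (fun i => ?_) i
        · simpa [A'] using hE
        · simpa [A'] using hA i
      have hloc : ∀ (i : Fin k), CohB1.genLocus (A' i.castSucc) (s' i.castSucc) = CohB1.genLocus (A i) (s i) :=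
        fun i => by
          simp only [s', Fin.lastCases_castSucc]
          exact Twist.genLocus_comp_iso (s i) (eqToIso (Fin.snoc_castSucc (α := fun _ => X.Modules) E A i).symm)
      have hlast : CohB1.genLocus (A' (Fin.last k)) (s' (Fin.last k)) = CohB1.genLocus E t := by
        simp only [s', Fin.lastCases_last]
        exact Twist.genLocus_comp_iso t (eqToIso (Fin.snoc_last (α := fun _ => X.Modules) E A).symm)
      have h := prod_lines_aux hL hK (fun i => M i.castSucc) (fun i => hM _) A' s' hA'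
        (hdim.of_avoid (fun x hx i => hloc i ▸ hx i.castSucc) hT hZ fun ξ hξ hξ' =>
          hξ' (Fin.last k) (hlast.symm ▸ ht hξ))
      rwa [Fin.prod_univ_castSucc, show ∏ i : Fin k, (1 - φ (KRR.cl X (A' i.castSucc))) =
        ∏ i, (1 - φ (KRR.cl X (A i))) by simp [A'], show A' (Fin.last k) = E by simp [A']] at h
    have k₁ := key _ (M2.isInvertible_tensor (PicLoc.isInvertible_structureModule X) hLN) t₁ (hW₁.trans ht₁)
    have k₂ := key _ (M2.isInvertible_tensor (hM (Fin.last m)) hLN) t₂ (hW₂.trans ht₂)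
    have f1 := M2.isFinLocFree_of_isInvertible hLN
    have e₁ : φ (KRR.cl X (CohB1.tensorMod (Coh.structureModule X) (CohB1.tensorPow L N))) =
        φ (KRR.cl X (CohB1.tensorPow L N)) := by
      refine (hK.map_mul _ _ (M2.isFinLocFree_of_isInvertible (PicLoc.isInvertible_structureModule X)) f1).symm.trans ?_
      rw [hK.map_one, one_mul]
    have e₂ : φ (KRR.cl X (CohB1.tensorMod (M (Fin.last m)) (CohB1.tensorPow L N))) =
        φ (KRR.cl X (M (Fin.last m))) * φ (KRR.cl X (CohB1.tensorPow L N)) :=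
      (hK.map_mul _ _ (M2.isFinLocFree_of_isInvertible (hM _)) f1).symm
    rw [e₁] at k₁
    rw [e₂] at k₂
    have hu : IsUnit (φ (KRR.cl X (CohB1.tensorPow L N))) := (isUnit_cl_inv hLN).map (modelHom hK)
    rw [Fin.prod_univ_castSucc]
    refine hu.mul_left_eq_zero.1 ?_
    linear_combination k₁ - k₂

/-- A product of more line classes minus one than the dimension is zero. -/
theorem prod_lines_eq_zero (hL : CohB1.IsAmple L) (hK : KRR.IsModel X K P φ) {d : ℕ}
    (hd : topologicalKrullDim X ≤ (d : WithBot ℕ∞)) {m : ℕ} (hm : d < m) (M : Fin m → X.Modules)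
    (hM : ∀ i, PicF.IsInvertible (M i)) : ∏ i, (φ (KRR.cl X (M i)) - 1) = 0 := by
  have h := prod_lines_aux hL hK M hM (Fin.elim0 : Fin 0 → X.Modules) (fun i => i.elim0) (fun i => i.elim0)
    fun s => lt_of_lt_of_le ((dimLT_univ hd) (s.map (fun C => ⟨C.1, Set.subset_univ _⟩) fun _ _ h => h)) hm
  simpa using h

end Vanish

end Groth.Agent.PBK5
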