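import Groth.Agent.Lib.ProjSpace.Basic
import Groth.Prelude.Def_KRR

/-! A section of projective space. -/

set_option autoImplicit false
set_option backward.isDefEq.respectTransparency false

universe u

open CategoryTheory Limits AlgebraicGeometry

namespace Groth.Agent.PBK5

theorem exists_section_PY (n : ℕ) (Y : Scheme.{u}) : ∃ s : Y ⟶ KRR.PY n Y, s ≫ KRR.pr n Y = 𝟙 Y := by
  let R := ULift.{u} ℤ
  let s0 : Spec (CommRingCat.of R) ⟶ CohB1.ProjSpace n R :=
    Spec.map (CommRingCat.ofHom (MvPolynomial.eval fun _ => (0 : R))) ≫ ProjSpace.chart n R 0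
  refine ⟨pullback.lift (specULiftZIsTerminal.from Y ≫ s0) (𝟙 Y) (specULiftZIsTerminal.hom_ext _ _),
    pullback.lift_snd _ _ _⟩

end Groth.Agent.PBK5
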