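import Groth.Agent.Lib.PBK5.ElemGen
import Groth.Agent.Lib.PBK5.Sect
import Groth.Agent.Lib.CMReg18.KvbFree
import Groth.Agent.Lib.CMReg18.KRRPushPF
import Groth.Agent.Lib.PicPn.OverPoint

/-! The K-ring of a relative projective space as an elementary extension. -/

set_option autoImplicit false
set_option linter.style.haveILetI false
set_option backward.isDefEq.respectTransparency false
set_option backward.isDefEq.respectTransparency.types false

universe v u

open CategoryTheory Limits AlgebraicGeometry LambdaRing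

noncomputable section

namespace Groth.Agent.PBK5

open Groth.Agent.ExtFil4 (cl)
open Groth.Agent.CMReg18 (overData bd)

attribute [local instance] ExtFil4.kvbRing

variable (n : ℕ) (Y : Scheme.{u})

theorem connectedSpace_PY [ConnectedSpace Y] : ConnectedSpace (KRR.PY n Y) := by
  have hb : Function.Bijective (KRR.pr n Y).appTop := PicPn.bijective_toBase_app n ⊤
  haveI : PreconnectedSpace (KRR.PY n Y) := preconnectedSpace_of_idem _ fun e he => by
    obtain ⟨e', rfl⟩ := hb.2 e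
    have : e' * e' = e' := hb.1 (by rw [map_mul]; exact he)
    rcases GlobFun18.idem_eq_zero_or_one (X := Y) (e := e') this with rfl | rfl
    · exact Or.inl (map_zero _)
    · exact Or.inr (map_one _)
  obtain ⟨s, -⟩ := exists_section_PY n Y
  obtain ⟨y⟩ := (inferInstance : Nonempty Y)
  exact { toNonempty := ⟨s y⟩ }

/-- The twists of projective space. -/
abbrev twPY : Tw (KRR.PY n Y) := twOf (overData n Y)

variable {n Y}

theorem bd_xi : ∀ (m : ℕ) (e : ℤ), bd m (fun x => cl ((overData n Y).tw (Coh.structureModule _) x)) e =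
    xi (twPY n Y) (e - m) * (xi (twPY n Y) 1 - 1) ^ m
  | 0, e => by
    rw [pow_zero, mul_one, Nat.cast_zero, sub_zero]
    exact cl_congr (M2.tensorLUnit _) (M2.isFinLocFree_tensor ExtFil4.isVB_one (vb_O (W := twPY n Y) e))
  | m + 1, e => by
    show bd m _ e - bd m _ (e - 1) = _
    rw [bd_xi m e, bd_xi m (e - 1), show e - (m : ℤ) = (e - 1 - (m : ℤ)) + 1 by ring, ← xi_add,
      show e - ((m + 1 : ℕ) : ℤ) = e - 1 - (m : ℤ) by push_cast; ring, pow_succ]
    ring

theorem xi_sub_one_pow : (xi (twPY n Y) 1 - 1) ^ (n + 1) = 0 := by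
  have h := CMReg18.bd_clP_eq_zero (n := n) (Y := Y) (Coh.structureModule _) ExtFil4.isVB_one ((n + 1 : ℕ) : ℤ)
  change bd (n + 1) (fun x => cl ((overData n Y).tw (Coh.structureModule _) x)) _ = 0 at h
  rwa [bd_xi, sub_self, xi_zero, one_mul] at h

variable {KY : Type v} [CommRing KY] [LambdaOps KY] {PY : PosStructure KY} {φY : SGA6.Kvb Y →+ KY}
  {KP : Type v} [CommRing KP] [LambdaOps KP] {PP : PosStructure KP} {φP : SGA6.Kvb (KRR.PY n Y) →+ KP}
  {q : KY →+ KP}

variable [CompactSpace Y]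

theorem bijective_PY (hY : KRR.IsModel Y KY PY φY) (hP : KRR.IsModel (KRR.PY n Y) KP PP φP)
    (hq : KRR.IsPull (KRR.pr n Y) φY φP q) :
    Function.Bijective fun a : Fin (n + 1) → KY =>
      ∑ i : Fin (n + 1), q (a i) * φP (cl ((overData n Y).O 1)) ^ (i : ℕ) := by
  let ψ := AddEquiv.ofBijective φY hY.bijective
  let G : Fin (n + 1) → (SGA6.Kvb Y →+ SGA6.Kvb (KRR.PY n Y)) := fun i =>
    (AddMonoidHom.mulRight (xi (twPY n Y) ((i : ℕ) : ℤ))).comp (pullHom (KRR.pr n Y)).toAddMonoidHom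
  have hG : ∀ (i : Fin (n + 1)) (N : Y.Modules), FlatMod.IsFinLocFree N →
      G i (KRR.cl Y N) = CMReg18.clTP ((i : ℕ) : ℤ) N := fun i N hN => by
    show pullHom (KRR.pr n Y) (cl N) * _ = _
    rw [pullHom_cl _ hN]
    exact cl_mul (M2.isFinLocFree_pullback _ hN) (vb_O _)
  have hpow : ∀ i : ℕ, φP (cl ((overData n Y).O 1)) ^ i = φP (xi (twPY n Y) (i : ℤ)) := by
    intro i
    induction i with
    | zero => rw [pow_zero, Nat.cast_zero, xi_zero]; exact (map_one (modelHom hP)).symm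
    | succ i ih =>
      rw [pow_succ, ih, Nat.cast_succ, ← xi_add]
      exact (map_mul (modelHom hP) _ _).symm
  have h2 : Function.Bijective (fun a : Fin (n + 1) → KY => fun i => ψ.symm (a i)) :=
    (Equiv.piCongrRight fun _ => ψ.symm.toEquiv).bijective
  convert hP.bijective.comp ((CMReg18.bijective_twists G hG).comp h2) using 1
  funext a
  simp only [Function.comp_apply, map_sum]
  refine Finset.sum_congr rfl fun i _ => ?_
  show q (a i) * _ = φP (pullHom _ (ψ.symm (a i)) * _)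
  rw [← modelHom_apply hP (_ * _), map_mul, modelHom_apply, modelHom_apply, ← isPull_apply hq, hpow]
  congr 2
  exact (ψ.apply_symm_apply (a i)).symm

omit [CompactSpace Y] in
theorem eval_PY [ConnectedSpace Y] {KY : Type (u + 1)} [CommRing KY] [LambdaOps KY] {PY : PosStructure KY}
    {φY : SGA6.Kvb Y →+ KY} {KP : Type (u + 1)} [CommRing KP] [LambdaOps KP] {PP : PosStructure KP}
    {φP : SGA6.Kvb (KRR.PY n Y) →+ KP} {q : KY →+ KP}
    (hY : KRR.IsModel Y KY PY φY) (hP : KRR.IsModel (KRR.PY n Y) KP PP φP)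
    (hq : KRR.IsPull (KRR.pr n Y) φY φP q) :
    (KRR.extPoly PY ((n + 1 : ℕ) : KY)).eval₂ (pullRingHom hY hP hq) (φP (cl ((overData n Y).O 1))) = 0 := by
  have hr : PY.aug ((n + 1 : ℕ) : KY) = n + 1 := by rw [map_natCast]; push_cast; rfl
  have hm : (PY.aug ((n + 1 : ℕ) : KY)).toNat = n + 1 := by omega
  have hlam : ∀ i, LambdaOps.lam i ((n + 1 : ℕ) : KY) = ((n + 1).choose i : ℕ) := fun i => by
    rw [← Lambda.coeff_lamSeries, Lambda.lamSeries_natCast (Lambda.pos_lam_one PY), ← Polynomial.coe_one, ← Polynomial.coe_X, ← Polynomial.coe_add, ← Polynomial.coe_pow,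
      Polynomial.coeff_coe, Polynomial.coeff_one_add_X_pow]
  have hz : (φP (cl ((overData n Y).O 1)) - 1) ^ (n + 1) = 0 := by
    have h0 : φP (cl ((overData n Y).O 1)) = modelHom hP (xi (twPY n Y) 1) := rfl
    rw [h0, ← map_one (modelHom hP), ← map_sub, ← map_pow, xi_sub_one_pow, map_zero]
  rw [KRR.extPoly, hm]
  simp only [Polynomial.eval₂_finsetSum, Polynomial.eval₂_mul, Polynomial.eval₂_C,
    Polynomial.eval₂_X_pow]
  simp only [hlam, map_mul, map_pow, map_neg, map_one, map_natCast]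
  rw [← hz, show φP (cl ((overData n Y).O 1)) - 1 = -1 + φP (cl ((overData n Y).O 1)) by ring, add_pow]
  exact Finset.sum_congr rfl fun i _ => by ring

omit [CompactSpace Y] in
theorem isLine_O1 {KP : Type v} [CommRing KP] [LambdaOps KP] {PP : PosStructure KP}
    {φP : SGA6.Kvb (KRR.PY n Y) →+ KP} (hP : KRR.IsModel (KRR.PY n Y) KP PP φP) :
    PP.IsLine (φP (cl ((overData n Y).O 1))) := by
  have h1 := (M2.isInvertible_iff_isFinLocFreeOfRank_one _).1 ((overData n Y).inv 1)
  exact ⟨(hP.mem_pos_iff _).2 ⟨1, _, le_rfl, h1, rfl⟩, by simpa using hP.aug_cl 1 _ h1⟩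

/-- The filtration, in the large universe. -/
theorem filtration_PY₁ {KY : Type (u + 1)} [CommRing KY] [LambdaOps KY] {PY : PosStructure KY}
    {φY : SGA6.Kvb Y →+ KY} {KP : Type (u + 1)} [CommRing KP] [LambdaOps KP] {PP : PosStructure KP}
    {φP : SGA6.Kvb (KRR.PY n Y) →+ KP} {q : KY →+ KP} [ConnectedSpace Y]
    (hY : KRR.IsModel Y KY PY φY) (hP : KRR.IsModel (KRR.PY n Y) KP PP φP)
    (hq : KRR.IsPull (KRR.pr n Y) φY φP q) (k : ℕ) (G : AddSubgroup KP)
    (hG : ∀ i, i ≤ n → ∀ a ∈ gammaFiltration PY (k - i), q a * (φP (cl ((overData n Y).O 1)) - 1) ^ i ∈ G)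
    {z : KP} (hz : z ∈ gammaFiltration PP k) : z ∈ G := by
  haveI := connectedSpace_PY n Y
  haveI : CompactSpace (KRR.PY n Y) :=
    QuasiCompact.compactSpace_of_compactSpace (CohB1.ProjSpaceOver.toBase n Y)
  have hℓ := isLine_O1 hP
  have he : ((n + 1 : ℕ) : KY) ∈ PY.pos := PY.natCast_mem _ (by omega)
  have hr : PY.aug ((n + 1 : ℕ) : KY) = n + 1 := by rw [map_natCast]; push_cast; rfl
  exact filtration_induction hY hP hq he hr hℓ (bijective_PY hY hP hq) (eval_PY hY hP hq) k G hG hz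

/-- The filtration of the K-ring of projective space. -/
theorem filtration_PY [ConnectedSpace Y] (hY : KRR.IsModel Y KY PY φY) (hP : KRR.IsModel (KRR.PY n Y) KP PP φP)
    (hq : KRR.IsPull (KRR.pr n Y) φY φP q) (k : ℕ) (G : AddSubgroup KP)
    (hG : ∀ i, i ≤ n → ∀ a ∈ gammaFiltration PY (k - i), q a * (φP (cl ((overData n Y).O 1)) - 1) ^ i ∈ G)
    {z : KP} (hz : z ∈ gammaFiltration PP k) : z ∈ G := by
  haveI := connectedSpace_PY n Y
  obtain ⟨KY₁, i1, i2, PY₁, φY₁, hY₁⟩ := KModel5.exists_model Y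
  obtain ⟨KP₁, j1, j2, PP₁, φP₁, hP₁⟩ := KModel5.exists_model (KRR.PY n Y)
  have hidY : Function.Injective (pullHom (𝟙 Y)) := fun x y h => by rwa [pullHom_id, pullHom_id] at h
  have hidP : Function.Injective (pullHom (𝟙 (KRR.PY n Y))) := fun x y h => by rwa [pullHom_id, pullHom_id] at h
  obtain ⟨y₁, hy₁, -⟩ := exists_pull (𝟙 Y) hidY hY₁ hY
  obtain ⟨p₁, hp₁, -⟩ := exists_pull (𝟙 (KRR.PY n Y)) hidP hP hP₁
  obtain ⟨p₂, hp₂, -⟩ := exists_pull (𝟙 (KRR.PY n Y)) hidP hP₁ hP
  obtain ⟨q₁, hq₁, -⟩ := CMReg18.existsUnique_isPull (KRR.pr n Y) φP₁ hY₁.bijective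
  have hinv : p₂ (p₁ z) = z := by
    obtain ⟨a, rfl⟩ := hP.bijective.2 z
    rw [isPull_apply hp₁, pullHom_id, isPull_apply hp₂, pullHom_id]
  have key := filtration_PY₁ hY₁ hP₁ hq₁ k (G.comap p₂) (fun i hi a ha => ?_) (z := p₁ z)
    (pull_filtration hP hP₁ hp₁ k hz)
  · rw [AddSubgroup.mem_comap, hinv] at key
    exact key
  · obtain ⟨b, rfl⟩ := hY₁.bijective.2 a
    have h0 := hG i hi _ (pull_filtration hY₁ hY hy₁ _ ha)
    show (pullRingHom hP₁ hP hp₂) (q₁ _ * _) ∈ G
    rw [map_mul, map_pow, map_sub, map_one, pullRingHom_apply, pullRingHom_apply, isPull_apply hq₁,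
      isPull_apply hp₂, pullHom_id, isPull_apply hp₂, pullHom_id, ← isPull_apply hq]
    rwa [isPull_apply hy₁, pullHom_id] at h0

end Groth.Agent.PBK5
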