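import Groth.Agent.Lib.PBK5.PushExt
import Groth.Agent.Lib.PBK5.PY
import Groth.Agent.Lib.CMReg18.RegBC
import Groth.Agent.Lib.RegImm26.Noeth
import Groth.Agent.S1676
import Groth.Agent.S2886

/-! Push-forward along sections and base changes of projective space. -/

set_option autoImplicit false
set_option linter.style.haveILetI false
set_option backward.isDefEq.respectTransparency false
set_option backward.isDefEq.respectTransparency.types false

universe v u

open CategoryTheory Limits AlgebraicGeometry Scheme.Modules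

noncomputable section

namespace Groth.Agent.PBK5

open Groth.Agent.ExtFil4 (cl)
open Groth.Agent.CMReg18 (overData kPush evalZero bd)
open Groth.Agent.LFResK5 (Bd kcl pushK)

attribute [local instance] ExtFil4.kvbRing

/-- An isomorphism is a regular closed immersion. -/
theorem isRegularClosedImmersion_of_isIso {A B : Scheme.{u}} (e : A ⟶ B) [IsIso e] :
    Mor2.IsRegularClosedImmersion e := by
  refine ⟨inferInstance, fun z => ?_⟩
  obtain ⟨U, hU, hzU, -⟩ := exists_isAffineOpen_mem_and_subset (X := B) (x := e z) (U := ⊤) trivial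
  haveI : Nonempty U := ⟨⟨e z, hzU⟩⟩
  haveI : Nontrivial Γ(B, U) := (Scheme.component_nontrivial B U)
  refine ⟨U, hU, hzU, [], RingTheory.Sequence.IsRegular.nil _ _, ?_⟩
  rw [Ideal.ofList_nil, show e.ker = ⊥ from Scheme.Hom.ker_eq_bot_of_isIso e]
  rfl

theorem xi_pow_nat {P : Scheme.{u}} (W : Tw P) (x : ℕ) : xi W 1 ^ x = xi W (x : ℤ) := by
  induction x with
  | zero => rw [pow_zero, Nat.cast_zero, xi_zero]
  | succ x ih => rw [pow_succ, ih, xi_add, Nat.cast_succ]

variable (n : ℕ) {X Y : Scheme.{u}}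

theorem isRegularClosedImmersion_section (s : Y ⟶ KRR.PY n Y) (hs : s ≫ KRR.pr n Y = 𝟙 Y) :
    Mor2.IsRegularClosedImmersion s := by
  haveI : Smooth (KRR.pr n Y) := inferInstanceAs (Smooth (CohB1.ProjSpaceOver.toBase n Y))
  haveI : IsProper (KRR.pr n Y) := inferInstanceAs (IsProper (CohB1.ProjSpaceOver.toBase n Y))
  haveI : IsClosedImmersion (s ≫ KRR.pr n Y) := by rw [hs]; infer_instance
  haveI : IsClosedImmersion s := IsClosedImmersion.of_comp s (KRR.pr n Y)
  exact Groth.Agent.S1676.result _ s hs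

theorem isRegularClosedImmersion_projMap (i : X ⟶ Y) (hi : Mor2.IsRegularClosedImmersion i)
    [IsLocallyNoetherian Y] :
    Mor2.IsRegularClosedImmersion (KRR.projSpaceMap n i) := by
  haveI : Smooth (CohB1.ProjSpaceOver.toBase n Y) := inferInstance
  have h := (CMReg18.isPullback_projMap n i).flip
  haveI : IsLocallyNoetherian (CohB1.ProjSpaceOver n Y) :=
    LocallyOfFiniteType.isLocallyNoetherian (CohB1.ProjSpaceOver.toBase n Y)
  show Mor2.IsRegularClosedImmersion (FGA.projMap n i)
  rw [← h.isoPullback_hom_snd]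
  exact RegImm26.regularClosedImmersion_comp _ _ (isRegularClosedImmersion_of_isIso _)
    (Groth.Agent.S2886.result i (CohB1.ProjSpaceOver.toBase n Y) hi)

variable {n}

theorem bd_pow {R : Type*} [CommRing R] (c : R) (l l' : R) (hl : l * l' = 1) (h : ℤ → R)
    (h0 : ∀ x : ℕ, h x = c * l ^ x) : ∀ (k : ℕ) (e : ℕ), k ≤ e → bd k h (e : ℤ) = c * l ^ (e - k) * (l - 1) ^ k
  | 0, e, _ => by rw [pow_zero, mul_one, Nat.sub_zero]; exact h0 e
  | k + 1, e, he => by
    show bd k h (e : ℤ) - bd k h ((e : ℤ) - 1) = _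
    rw [show (e : ℤ) - 1 = ((e - 1 : ℕ) : ℤ) by omega, bd_pow c l l' hl h h0 k e (by omega),
      bd_pow c l l' hl h h0 k (e - 1) (by omega), show e - k = (e - 1 - k) + 1 by omega,
      show e - (k + 1) = e - 1 - k by omega, pow_succ]
    ring

/-- Extrapolating a geometric sequence with unipotent ratio. -/
theorem evalZero_geom {R : Type*} [CommRing R] (c l l' : R) (hl : l * l' = 1) (m : ℕ) (hn : (l - 1) ^ (m + 1) = 0)
    (h : ℤ → R) (h0 : ∀ x : ℕ, h x = c * l ^ x) (d : ℕ) (hd : m ≤ d) : evalZero m h d = c := by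
  have e1 : evalZero m h d = ∑ k ∈ Finset.range (m + 1), (d.choose k : R) * (c * l ^ (d - k) * (1 - l) ^ k) := by
    refine Finset.sum_congr rfl fun k hk => ?_
    rw [Finset.mem_range] at hk
    rw [bd_pow c l l' hl h h0 k d (by omega), zsmul_eq_mul, show (1 - l) ^ k = (-1) ^ k * (l - 1) ^ k by
      rw [← mul_pow]; ring]
    push_cast
    ring
  have e2 := add_pow (1 - l) l d
  rw [sub_add_cancel, one_pow, ← Finset.sum_subset (s₁ := Finset.range (m + 1)) (Finset.range_mono (by omega))
    (fun k _ hk => ?_)] at e2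
  · rw [e1]
    conv_rhs => rw [← mul_one c, e2, Finset.mul_sum]
    exact Finset.sum_congr rfl fun k _ => by ring
  · rw [Finset.mem_range] at hk
    have hz : (1 - l) ^ k = 0 := by
      rw [show (1 - l) = -1 * (l - 1) by ring, mul_pow, pow_eq_zero_of_le (show m + 1 ≤ k by omega) hn, mul_zero]
    rw [hz, zero_mul, zero_mul]

variable [IsNoetherian X] [IsNoetherian Y]

/-- Push-forward of a section followed by the projection. -/
theorem kPush_pushK_section (hY : KRR.HasEnoughLocFree Y) (hP : KRR.HasEnoughLocFree (KRR.PY n Y))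
    [IsNoetherian (KRR.PY n Y)] (s : Y ⟶ KRR.PY n Y) [IsClosedImmersion s] (hs : s ≫ KRR.pr n Y = 𝟙 Y)
    {F : Y.Modules} (hF : FlatMod.IsFinLocFree F) :
    kPush n Y (pushK s (isRegularClosedImmersion_section n s hs) hP (KRR.cl Y F)) = KRR.cl Y F := by
  have hr := isRegularClosedImmersion_section n s hs
  rw [LFResK5.pushK_cl s hr hP hF]
  obtain ⟨N, hN⟩ := kPush_kcl hY hP (LFResK5.bd_push_of_finLocFree s hr hF)
  rw [hN (N + n) (by omega)]
  let l := pullHom s (xi (twPY n Y) 1)
  let l' := pullHom s (xi (twPY n Y) (-1))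
  refine evalZero_geom (cl F) l l' ?_ n ?_ _ (fun x => ?_) _ (by omega)
  · show pullHom s _ * pullHom s _ = 1
    rw [← map_mul, xi_add, add_neg_cancel, xi_zero, map_one]
  · show (pullHom s _ - 1) ^ (n + 1) = 0
    rw [← map_one (pullHom s), ← map_sub, ← map_pow, xi_sub_one_pow, map_zero]
  · have hO : FlatMod.IsFinLocFree ((overData n Y).O (x : ℤ)) := vb_O (W := twPY n Y) _
    have hG := M2.isFinLocFree_tensor hF (M2.isFinLocFree_pullback s hO)
    obtain ⟨e⟩ := CohFound.nonempty_push_tensor_iso s F (LFResK5.isCoh_of_isFinLocFree hF).1 ((overData n Y).O (x : ℤ))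
      (M2.isQCoh_of_isFinLocFree hO)
    let e' : (Scheme.Modules.pushforward (KRR.pr n Y)).obj ((overData n Y).tw ((Scheme.Modules.pushforward s).obj F) x) ≅
        CohB1.tensorMod F ((Scheme.Modules.pullback s).obj ((overData n Y).O (x : ℤ))) :=
      (Scheme.Modules.pushforward (KRR.pr n Y)).mapIso e.symm ≪≫ (pushforwardComp s (KRR.pr n Y)).app _ ≪≫
        (pushforwardCongr hs).app _ ≪≫ (pushforwardId _).app _
    have hp : pullHom s (xi (twPY n Y) (x : ℤ)) = l ^ x := by
      show pullHom s _ = pullHom s (xi (twPY n Y) 1) ^ x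
      rw [← map_pow, xi_pow_nat]
    rw [← hp, ← LFResK5.kcl_iso hY e'.symm (LFResK5.bd_of_isFinLocFree hG), LFResK5.kcl_of_isFinLocFree hY hG]
    rw [show pullHom s (xi (twPY n Y) (x : ℤ)) = cl ((Scheme.Modules.pullback s).obj ((overData n Y).O (x : ℤ))) from
      pullHom_cl s hO]
    exact (cl_mul hF (M2.isFinLocFree_pullback s hO)).symm

/-- Compatibility with a base change by a regular closed immersion. -/
theorem kPush_pushK_projMap (i : X ⟶ Y) [IsClosedImmersion i] (hi : Mor2.IsRegularClosedImmersion i)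
    (hY : KRR.HasEnoughLocFree Y) (hP : KRR.HasEnoughLocFree (KRR.PY n Y))
    [IsNoetherian (KRR.PY n Y)] [IsNoetherian (KRR.PY n X)] [IsClosedImmersion (KRR.projSpaceMap n i)]
    {G : (KRR.PY n X).Modules} (hG : FlatMod.IsFinLocFree G) :
    kPush n Y (pushK (KRR.projSpaceMap n i) (isRegularClosedImmersion_projMap n i hi) hP (KRR.cl _ G)) =
      pushK i hi hY (kPush n X (KRR.cl _ G)) := by
  let j := KRR.projSpaceMap n i
  have hj := isRegularClosedImmersion_projMap n i hi
  rw [LFResK5.pushK_cl j hj hP hG]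
  obtain ⟨N, hN⟩ := kPush_kcl hY hP (LFResK5.bd_push_of_finLocFree j hj hG)
  obtain ⟨N', hN'⟩ := CMReg18.exists_kPush_eq hG
  obtain ⟨N'', hN''⟩ := CMReg18.exists_acyc hG
  rw [hN (N + N' + N'' + n) (by omega), hN' (N + N' + N'' + n) (by omega), CMReg18.map_evalZero]
  refine CMReg18.evalZero_congr n _ fun x hx _ => ?_
  obtain ⟨eO⟩ := CMReg18.nonempty_pullback_twistOver n i x
  have hac := (hN'' x (by omega)).1
  show _ = pushK i hi hY (KRR.cl X _)
  rw [LFResK5.pushK_cl i hi hY hac.push]
  obtain ⟨e⟩ := CohFound.nonempty_push_tensor_iso j G (LFResK5.isCoh_of_isFinLocFree hG).1 ((overData n Y).O x)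
    (M2.isQCoh_of_isFinLocFree (vb_O (W := twPY n Y) x))
  have hsq : j ≫ KRR.pr n Y = KRR.pr n X ≫ i := (CMReg18.isPullback_projMap n i).w
  let e' : (Scheme.Modules.pushforward (KRR.pr n Y)).obj ((overData n Y).tw ((Scheme.Modules.pushforward j).obj G) x) ≅
      (Scheme.Modules.pushforward i).obj ((Scheme.Modules.pushforward (KRR.pr n X)).obj ((overData n X).tw G x)) :=
    (Scheme.Modules.pushforward (KRR.pr n Y)).mapIso e.symm ≪≫ (pushforwardComp j (KRR.pr n Y)).app _ ≪≫
      (pushforwardCongr hsq).app _ ≪≫ (pushforwardComp (KRR.pr n X) i).symm.app _ ≪≫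
      (Scheme.Modules.pushforward i).mapIso ((Scheme.Modules.pushforward (KRR.pr n X)).mapIso
        (M2.tensorIso (Iso.refl G) eO))
  exact (LFResK5.kcl_iso hY e'.symm (LFResK5.bd_push_of_finLocFree i hi hac.push)).symm

end Groth.Agent.PBK5
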