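import Groth.Agent.S9711
import Groth.Agent.S9371
import Groth.Agent.Lib.Euler2.Pn
import Groth.Agent.Lib.Omega12.BaseChange
import Groth.Agent.Lib.GrMap12.ConormalDiff
import Groth.Agent.Lib.EnriquesSeveri11.DualSeq
import Groth.Agent.Lib.AmpleElt5.Main
import Groth.Agent.Lib.CohMop.HomStalkDepth
import Groth.Agent.Lib.CMReg18.PullVb
import Groth.Agent.Lib.ExtFil4.Lambda
import Groth.Agent.Lib.LFResK5.Basic
import Groth.Agent.Lib.TensorMod.PullTensor
import Groth.Agent.Lib.PBK5.PushCl
import Groth.Agent.Lib.ProjSpace.Basic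
import Groth.Agent.Lib.CurveCoh17.TensorExact
import Groth.Agent.Lib.Twist.ProjSpace

/-! Classes of conormal and differential sheaves, and their duals. -/

set_option autoImplicit false
set_option linter.style.haveILetI false
set_option backward.isDefEq.respectTransparency false
set_option backward.isDefEq.respectTransparency.types false
set_option synthInstance.maxHeartbeats 400000
set_option maxHeartbeats 1600000

universe v u

open CategoryTheory Limits AlgebraicGeometry TopologicalSpace Opposite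

attribute [local instance] HasDerivedCategory.standard

noncomputable section

namespace Groth.Agent.PBK5.Tangent

open CohMop (dual ihom ihomNat)

variable {X : Scheme.{u}}

/-- The duality on classes of bundles. -/
def dualK (X : Scheme.{u}) : SGA6.Kvb X →+ SGA6.Kvb X :=
  K0Cat.liftSub (fun E : Subtype (KRR.vbP X) => KRR.cl X (dual E.1))
    fun S h₁ h₂ h₃ hS => (K0Cat.clSub_ses _ (ES11.shortExact_dual hS h₃) (CohMop.isFinLocFree_dual h₃)
      (CohMop.isFinLocFree_dual h₂) (CohMop.isFinLocFree_dual h₁)).trans (add_comm _ _)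

theorem dualK_cl {E : X.Modules} (hE : FlatMod.IsFinLocFree E) : dualK X (KRR.cl X E) = KRR.cl X (dual E) :=
  K0Cat.liftSub_clSub _ _ (show KRR.vbP X E from hE)

theorem dualK_one : dualK X (KRR.cl X (Coh.structureModule X)) = KRR.cl X (Coh.structureModule X) :=
  (dualK_cl ExtFil4.isVB_one).trans
    (ExtFil4.cl_iso (CohMop.ihomUnitIso _) (CohMop.isFinLocFree_dual ExtFil4.isVB_one))

variable (n : ℕ) (R : Type u) [CommRing R]

theorem isFinLocFree_omega {Ω : (CohB1.ProjSpace n R).Modules} {d : OmegaSh.Der (CohB1.ProjSpace.toSpec n R) Ω}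
    (hd : OmegaSh.IsUniversal d) : FlatMod.IsFinLocFree Ω := by
  obtain ⟨u, hu, ⟨α⟩⟩ := Euler2.exists_euler_projSpace n R hd
  have hO1 : PicF.IsInvertible (_root_.Twist.twistProjSpace n R 1) := Twist.isInvertible_twistProjSpace n R 1
  have hS : (ShortComplex.mk (kernel.ι u) u (kernel.condition u)).ShortExact :=
    ShortComplex.ShortExact.mk' (ShortComplex.exact_kernel u) inferInstance hu
  have hk : FlatMod.IsFinLocFree (kernel u) := DPerf.isFinLocFree_kernel _ _ (kernel.condition u) hS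
    (M2.isFinLocFree_pullback _ (Euler2.isFinLocFree_freeMod _ _)) (M2.isFinLocFree_of_isInvertible hO1)
  obtain ⟨L', hL', ⟨e⟩⟩ := M2.exists_inverse hO1
  exact M2.isFinLocFree_of_iso ((M2.tensorIso α.symm (Iso.refl L')) ≪≫ M2.tensorAssoc _ _ _ ≪≫
    M2.tensorIso (Iso.refl Ω) e ≪≫ M2.tensorRUnit Ω) (M2.isFinLocFree_tensor hk (M2.isFinLocFree_of_isInvertible hL'))

/-- The dual of the differentials of projective space, pulled back. -/
theorem dualK_omega {K : Type v} [CommRing K] [LambdaRing.LambdaOps K] {P : LambdaRing.PosStructure K}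
    {φ : SGA6.Kvb X →+ K} (hK : KRR.IsModel X K P φ) (g : X ⟶ CohB1.ProjSpace n R)
    {Ω : (CohB1.ProjSpace n R).Modules} {d : OmegaSh.Der (CohB1.ProjSpace.toSpec n R) Ω}
    (hd : OmegaSh.IsUniversal d) :
    φ (dualK X (KRR.cl X ((Scheme.Modules.pullback g).obj Ω))) + 1 =
      ((n + 1 : ℕ) : K) * φ (KRR.cl X ((Scheme.Modules.pullback g).obj (_root_.Twist.twistProjSpace n R 1))) := by
  obtain ⟨u, hu, ⟨α⟩⟩ := Euler2.exists_euler_projSpace n R hd
  let O1 := _root_.Twist.twistProjSpace n R 1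
  have hO1 : PicF.IsInvertible O1 := Twist.isInvertible_twistProjSpace n R 1
  let pb := Scheme.Modules.pullback g
  let F := FlatMod.freeMod X (n + 1)
  let A := pb.obj Ω
  let L := pb.obj O1
  have hA : FlatMod.IsFinLocFree A := M2.isFinLocFree_pullback g (isFinLocFree_omega n R hd)
  have hLi : PicF.IsInvertible L := Twist.isInvertible_pullback g hO1
  obtain ⟨L', hL'i, ⟨e⟩⟩ := M2.exists_inverse hLi
  have hL' := M2.isFinLocFree_of_isInvertible hL'i
  have hF : FlatMod.IsFinLocFree F := Euler2.isFinLocFree_freeMod _ _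
  have hS : (ShortComplex.mk (kernel.ι u) u (kernel.condition u)).ShortExact :=
    ShortComplex.ShortExact.mk' (ShortComplex.exact_kernel u) inferInstance hu
  have hS1 := CMReg18.shortExact_pullback g _ hS
    (KFlat.Sch.isFlat_of_isFinLocFree (M2.isFinLocFree_of_isInvertible hO1))
  have hS2 := CurveCoh17.shortExact_tensorR hS1 L' (ExtFil4.flat_stalk hL')
  let iK : CohB1.tensorMod (pb.obj (kernel u)) L' ≅ A :=
    M2.tensorIso (pb.mapIso α.symm ≪≫ M2.pullTensorIso g _ _) (Iso.refl L') ≪≫ M2.tensorAssoc _ _ _ ≪≫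
      M2.tensorIso (Iso.refl A) e ≪≫ M2.tensorRUnit A
  let iF : CohB1.tensorMod (pb.obj ((Scheme.Modules.pullback (CohB1.ProjSpace.toSpec n R)).obj
      (FlatMod.freeMod (Spec (CommRingCat.of R)) (n + 1)))) L' ≅ CohB1.tensorMod F L' :=
    M2.tensorIso ((Scheme.Modules.pullbackComp g _).app _ ≪≫ M2.freeModPullbackIso _ _) (Iso.refl L')
  have hFL := M2.isFinLocFree_tensor hF hL'
  have h2 : FlatMod.IsFinLocFree (CohB1.tensorMod L L') := M2.isFinLocFree_of_iso e.symm ExtFil4.isVB_one
  have key : KRR.cl X (CohB1.tensorMod F L') = KRR.cl X A + KRR.cl X (Coh.structureModule X) := by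
    refine ((ExtFil4.cl_iso iF.symm hFL).trans (K0Cat.clSub_ses _ hS2 (M2.isFinLocFree_of_iso iK.symm hA)
      (M2.isFinLocFree_of_iso iF.symm hFL) h2)).trans ?_
    exact congrArg₂ (· + ·) (ExtFil4.cl_iso iK (M2.isFinLocFree_of_iso iK.symm hA)) (ExtFil4.cl_iso e h2)
  have hcl : KRR.cl X (CohB1.tensorMod F L') = (n + 1) • KRR.cl X L' := by
    refine hK.bijective.1 ?_
    rw [map_nsmul, nsmul_eq_mul, ← AmpleElt5.cl_freeMod hK (n + 1), hK.map_mul F L' hF hL']
    rfl
  obtain ⟨j⟩ := ES11.nonempty_dual_iso_of_inverse hL'i (M2.tensorComm L' L ≪≫ e)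
  have := congrArg (fun a => φ (dualK X a)) (key.symm.trans hcl)
  simp only [map_add, map_nsmul, dualK_one, hK.map_one] at this
  rw [this, nsmul_eq_mul, dualK_cl hL']
  exact congrArg (fun a => _ * φ a) (ExtFil4.cl_iso j (CohMop.isFinLocFree_dual hL'))

variable {P P' : Scheme.{u}}

/-- Two factorisations through smooth projections differ by the differentials. -/
theorem cl_conormal [IsLocallyNoetherian X] (i : X ⟶ P) [IsClosedImmersion i] (p : P ⟶ P') [Smooth p]
    (q : P ⟶ CohB1.ProjSpace n R) (b : P' ⟶ Spec (CommRingCat.of R))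
    (hsq : IsPullback q p (CohB1.ProjSpace.toSpec n R) b) (j : X ⟶ P') [IsClosedImmersion j] (hij : i ≫ p = j)
    (hj : FlatMod.IsFinLocFree (Omega.conormal j)) (g : X ⟶ CohB1.ProjSpace n R) (hg : i ≫ q = g)
    {Ω : (CohB1.ProjSpace n R).Modules} {d : OmegaSh.Der (CohB1.ProjSpace.toSpec n R) Ω}
    (hd : OmegaSh.IsUniversal d) :
    KRR.cl X (Omega.conormal i) = KRR.cl X (Omega.conormal j) + KRR.cl X ((Scheme.Modules.pullback g).obj Ω) := by
  obtain ⟨Ω', d', hd'⟩ := Omega12.exists_isUniversal p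
  obtain ⟨c, hc, -⟩ := Omega12.existsUnique_diffCompat hsq.w.symm hd d'
  haveI := Omega12.isIso_diffCompat_of_isPullback hsq hd hd' c hc
  obtain ⟨ψ, hψ, -⟩ := S9371.result i j p (𝟙 X) (by rw [hij, Category.id_comp])
  obtain ⟨δ, hδ, -⟩ := GrMap12.existsUnique_conormalDiff i d'
  obtain ⟨w, hS⟩ := S9711.result p i j hij Ω' d' hd' ψ hψ δ hδ
  let iΩ : (Scheme.Modules.pullback i).obj Ω' ≅ (Scheme.Modules.pullback g).obj Ω :=
    (Scheme.Modules.pullback i).mapIso (asIso c).symm ≪≫ (Scheme.Modules.pullbackComp i q).app Ω ≪≫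
      (Scheme.Modules.pullbackCongr hg).app Ω
  let iC : (Scheme.Modules.pullback (𝟙 X)).obj (Omega.conormal j) ≅ Omega.conormal j :=
    (Scheme.Modules.pullbackId X).app _
  have hΩ := M2.isFinLocFree_pullback g (isFinLocFree_omega n R hd)
  have h1 := M2.isFinLocFree_of_iso iC.symm hj
  have h3 := M2.isFinLocFree_of_iso iΩ.symm hΩ
  refine (K0Cat.clSub_ses _ hS h1 (LFResK5.isFinLocFree_ext hS h1 h3) h3).trans ?_
  exact congrArg₂ (· + ·) (ExtFil4.cl_iso iC h1) (ExtFil4.cl_iso iΩ h3)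

end Groth.Agent.PBK5.Tangent
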