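import Groth.Prelude.Def_KDet
import Groth.Prelude.Def_RefHull
import Groth.Agent.S16492
import Groth.Agent.Lib.PBK5.Hom
import Groth.Agent.Lib.PBK5.LineVan
import Groth.Agent.Lib.PBK5.Tangent
import Groth.Agent.Lib.Cyc26.ChernDual
import Groth.Agent.Lib.Cyc26.SplitBase
import Groth.Agent.Lib.CohFound.RpushHc
import Groth.Agent.Lib.CohFound.AffMor

/-! Direct images of the powers of the tautological class of a projective bundle. -/

set_option autoImplicit false
set_option linter.style.haveILetI false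
set_option backward.isDefEq.respectTransparency false
set_option backward.isDefEq.respectTransparency.types false
set_option maxHeartbeats 800000
set_option synthInstance.maxHeartbeats 100000

universe u

open CategoryTheory Limits AlgebraicGeometry TopologicalSpace Opposite LambdaRing

noncomputable section

namespace Groth.Agent.PBK5.Segre

open Groth.Agent.ExtFil4 (cl)

attribute [local instance] ExtFil4.kvbRing

variable {X Y : Scheme.{u}} {π : X ⟶ Y}

/-- The two kinds of higher direct images vanish together. -/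
theorem isZero_rpush_of_ab [HasInjectiveResolutions X.Modules] {M : X.Modules} {p : ℕ}
    (h : IsZero ((Coh.RpushAb π p).obj (Coh.toAb M))) : IsZero ((Coh.Rpush π p).obj M) := by
  obtain ⟨a⟩ := CohFound.nonempty_abF_rpush_iso_shPre π M p
  obtain ⟨b⟩ := CohFound.nonempty_rpush_iso_shPre (π.base : CohFound.sp X ⟶ CohFound.sp Y)
    ((CohFound.abF X).obj M) p
  let c : (CohFound.abF Y).obj ((Coh.Rpush π p).obj M) ≅ (Coh.RpushAb π p).obj (Coh.toAb M) := a ≪≫ b.symm
  have h' : IsZero ((CohFound.abF Y).obj ((Coh.Rpush π p).obj M)) := h.of_iso c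
  haveI : (CohFound.abF Y).Faithful := inferInstanceAs (SheafOfModules.toSheaf Y.ringCatSheaf).Faithful
  rw [IsZero.iff_id_eq_zero] at h' ⊢
  refine (CohFound.abF Y).map_injective ?_
  rw [CategoryTheory.Functor.map_id, h']
  exact ((SheafOfModules.toSheaf Y.ringCatSheaf).map_zero _ _).symm

/-- A dual of a bundle has the same rank. -/
theorem rank_dual {n : ℕ} {E : X.Modules} (hE : FlatMod.IsFinLocFreeOfRank n E) :
    FlatMod.IsFinLocFreeOfRank n (CohMop.dual E) := fun x => by
  obtain ⟨U, hxU, ⟨e⟩⟩ := hE x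
  obtain ⟨e'⟩ := CohMop.nonempty_dual_freeMod (X := (U : Scheme.{u})) n
  exact ⟨U, hxU, ⟨(CohMop.restrictIhomIso U E).app (Coh.structureModule X) ≪≫
    ((CohMop.ihomIso e).app _) ≪≫ ((CohMop.ihom _).mapIso (Scheme.Modules.restrictUnitIso U.ι)) ≪≫ e'⟩⟩

/-- The dual of a bundle pulls back to the dual. -/
theorem nonempty_pullback_dual [IsNoetherian Y] {E : Y.Modules} (hE : FlatMod.IsFinLocFree E) :
    Nonempty ((Scheme.Modules.pullback π).obj (RefHull.dual E) ≅
      CohMop.dual ((Scheme.Modules.pullback π).obj E)) := by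
  haveI := HilbObs3.hasSheafHom E
  obtain ⟨e₁⟩ := S16492.Aux.dual_iso (A := E) (LFResK5.isCoh_of_isFinLocFree hE)
  obtain ⟨e⟩ := Cyc26A.nonempty_pullback_sheafHom_iso π hE
  exact ⟨(Scheme.Modules.pullback π).mapIso (e₁.symm ≪≫ ((Cyc26A.sheafHomIhomIso' E).app _).symm) ≪≫ e⟩

section Lambda

variable {K : Type u} [CommRing K] [LambdaOps K] (P : PosStructure K)

/-- The telescoping relation of an element that is a line plus an element of rank `n`. -/
theorem gamma_rel {u Q : K} (hu : P.IsLine u) (n : ℕ) (hQ : ∀ m, n < m → gamma m (Q - (n : K)) = 0) :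
    ∑ k ∈ Finset.range (n + 2), gamma (n + 1 - k) (u + Q - ((n + 1 : ℕ) : K)) * (1 - u) ^ k = 0 := by
  have key : ∀ m : ℕ, gamma (m + 1) (u + Q - ((n + 1 : ℕ) : K)) =
      gamma (m + 1) (Q - (n : K)) - (1 - u) * gamma m (Q - (n : K)) := by
    intro m
    rw [show u + Q - ((n + 1 : ℕ) : K) = (u - 1) + (Q - (n : K)) by push_cast; ring, Lambda.gamma_add,
      Finset.sum_range_succ', Finset.sum_range_succ', Lambda.gamma_zero, Lambda.gamma_one,
      Finset.sum_eq_zero fun i _ => ?_]
    · simp only [zero_add, Nat.sub_zero, one_mul, Nat.add_sub_cancel]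
      ring
    · rw [show i + 1 + 1 = (i + 1) + 1 from rfl, Lambda.gamma_line_sub_line P hu (Lambda.isLine_one P),
        sub_self, zero_pow (Nat.succ_ne_zero i), mul_zero, zero_mul]
  rw [Finset.sum_range_succ, Nat.sub_self, Lambda.gamma_zero, one_mul]
  have h : ∀ k ∈ Finset.range (n + 1), gamma (n + 1 - k) (u + Q - ((n + 1 : ℕ) : K)) * (1 - u) ^ k =
      gamma (n + 1 - k) (Q - (n : K)) * (1 - u) ^ k -
        gamma (n + 1 - (k + 1)) (Q - (n : K)) * (1 - u) ^ (k + 1) := by
    intro k hk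
    rw [Finset.mem_range] at hk
    rw [show n + 1 - k = (n - k) + 1 by omega, key, show n + 1 - (k + 1) = n - k by omega, pow_succ]
    ring
  rw [Finset.sum_congr rfl h, Finset.sum_range_sub' (fun k => gamma (n + 1 - k) (Q - (n : K)) * (1 - u) ^ k),
    Nat.sub_zero, hQ _ (Nat.lt_succ_self n), Nat.sub_self, Lambda.gamma_zero]
  ring

/-- The γ-operations beyond the rank vanish. -/
theorem gamma_eq_zero_of_pos {Q : K} (hQ : Q ∈ P.pos) {n : ℕ} (hn : P.aug Q = n) {m : ℕ} (hm : n < m) :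
    gamma m (Q - (n : K)) = 0 := by
  have h := Lambda.gamma_pos_sub_nat P hQ m
  rw [hn, Int.toNat_natCast] at h
  rw [h]
  refine Finset.sum_eq_zero fun i hi => ?_
  rw [Finset.mem_range] at hi
  rw [if_pos (by omega), Nat.choose_eq_zero_of_lt (by omega)]
  simp

end Lambda

variable {E : Y.Modules} {O1 Om : X.Modules} {q : (Scheme.Modules.pullback π).obj E ⟶ O1} {n : ℕ}
  {KX : Type u} [CommRing KX] [LambdaOps KX] {PX : PosStructure KX} {φX : SGA6.Kvb X →+ KX}
  {KY : Type u} [CommRing KY] [LambdaOps KY] {PY : PosStructure KY} {φY : SGA6.Kvb Y →+ KY}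
  {g : KX →+ KY}

/-- Twists with prescribed inverse, and the Koszul data with the determinant at the top. -/
theorem exists_setup (hP : KRR.IsProjBundle π E O1 q) (hE : FlatMod.IsFinLocFreeOfRank (n + 1) E)
    (hOOm : ClSub.IsInverseOf O1 Om) :
    ∃ W : Tw X, IsPB π W n ∧ Nonempty (W.O (-1) ≅ Om) ∧ Nonempty (W.O 1 ≅ O1) ∧
      ∃ K : KosData π W n, ExtPow.IsExtPow (n + 1) E (K.L (n + 1)) := by
  obtain ⟨e⟩ := hOOm
  obtain ⟨W, ⟨e₁⟩, -, hneg⟩ := exists_tw hP.invertible (L := Om) ⟨M2.tensorComm _ _ ≪≫ e⟩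
  obtain ⟨e₂⟩ := hneg 1
  obtain ⟨h, -⟩ := exists_data hP hE W e₁
  refine ⟨W, h, ⟨W.idx (by norm_num) ≪≫ e₂.symm ≪≫ M2.tensorLUnit _⟩, ⟨e₁⟩, ?_⟩
  haveI := hP.epi
  have hEl := M2.isFinLocFree_of_ofRank hE
  let q' := q ≫ e₁.inv
  haveI : Epi q' := epi_comp _ _
  let F := W.tw ((Scheme.Modules.pullback π).obj E) (-1)
  have hFl : FlatMod.IsFinLocFree F := isVB_tw (M2.isFinLocFree_pullback π hEl) _
  let e0 : CohB1.tensorMod (W.O 1) (W.O (-1)) ≅ Coh.structureModule X :=
    W.add 1 (-1) ≪≫ W.idx (by norm_num) ≪≫ W.zero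
  let s : F ⟶ Coh.structureModule X := M2.tensorMap q' (𝟙 (W.O (-1))) ≫ e0.hom
  haveI : Epi (M2.tensorMap q' (𝟙 (W.O (-1)))) := CohFound.epi_tensorMap q' _
  have hs : Epi s := epi_comp _ _
  obtain ⟨C⟩ := exists_cx hFl s
  choose L hL hLE using fun i => KModel5.hasExt Y i E hEl
  have hq : Coh.IsQCoh E := M1.isFP_isQCoh (M1.isFP_of_isFinLocFree hEl)
  have hterm : ∀ p, Nonempty (C.K.X p ≅ W.tw ((Scheme.Modules.pullback π).obj (L p)) (-(p : ℤ))) := fun p => by
    obtain ⟨i⟩ := KoszShH13.extPow_twist (L := W.O (-1)) (W.inv (-1)) p (C.isExtPow p)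
      (Wedge2.isExtPow_pullback' π hq (hLE p))
    obtain ⟨j⟩ := pow_iso (W := W) p
    exact ⟨i ≪≫ M2.tensorIso (Iso.refl _) j⟩
  refine ⟨⟨C.K, exactVia C hs, L, hL, hterm, fun p hp => ?_, ExtFil4.isoExtPow (hLE 0) (ExtFil4.isExtPow_zero E),
    Wedge2.isInvertible_top hE (hLE (n + 1))⟩, hLE (n + 1)⟩
  obtain ⟨i⟩ := hterm p
  refine IsZero.of_iso ((M2.tensorR (W.O (-(p : ℤ)))).map_isZero ((Scheme.Modules.pullback π).map_isZero ?_)) i
  exact DeRhamH7.isZero_extPow (hLE p) fun x => by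
    obtain ⟨D, e, hxD, he⟩ := P1Split.exists_isBas_nhd hE x
    exact ⟨n + 1, D, e, hxD, by omega, he⟩

variable (π) in
/-- The pull-back between the models. -/
def pl (hY : KRR.IsModel Y KY PY φY) (φX : SGA6.Kvb X →+ KX) : KY →+ KX :=
  (φX.comp (pullHom π).toAddMonoidHom).comp (AddEquiv.ofBijective φY hY.bijective).symm.toAddMonoidHom

theorem isPull_pl (hY : KRR.IsModel Y KY PY φY) : KRR.IsPull π φY φX (pl π hY φX) := fun E hE => by
  simp only [pl, AddMonoidHom.coe_comp, Function.comp_apply, AddEquiv.coe_toAddMonoidHom]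
  rw [show φY (KRR.cl Y E) = AddEquiv.ofBijective φY hY.bijective (KRR.cl Y E) from rfl, AddEquiv.symm_apply_apply]
  exact congrArg φX (pullHom_cl π hE)

variable [IsNoetherian X] [IsNoetherian Y] [HasInjectiveResolutions X.Modules]
  {W : Tw X}

/-- The push-forward on a good bundle. -/
theorem push_good (hg : KDet.IsPushF π (Coh.structureModule X) φX φY g) {M : X.Modules} (hM : Good π M) :
    g (φX (cl M)) = φY (pcl π M) := by
  let e : ((DCoh.tensorBi (X := X)).obj (Coh.structureModule X)).obj M ≅ M := M2.tensorLUnit M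
  refine (hg M hM.1 (fun p hp => ?_) (M2.isFinLocFree_of_iso ((Scheme.Modules.pushforward π).mapIso e.symm) hM.2.2)).trans ?_
  · exact (isZero_rpush_of_ab (hM.2.1 p hp)).of_iso ((Coh.Rpush π p).mapIso e)
  · exact congrArg φY (cl_congr ((Scheme.Modules.pushforward π).mapIso e)
      (M2.isFinLocFree_of_iso ((Scheme.Modules.pushforward π).mapIso e.symm) hM.2.2))

variable (hY : KRR.IsModel Y KY PY φY) (hX : KRR.IsModel X KX PX φX)
  (hg : KDet.IsPushF π (Coh.structureModule X) φX φY g) (h : IsPB π W n) (K : KosData π W n)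

include hY hg h K in
/-- The push-forward on the spanning elements. -/
theorem push_basis (a : SGA6.Kvb Y) {i : ℕ} (hi : i ≤ n) :
    g (φX (pullHom π a * xi W (-(i : ℤ)))) = if i = 0 then φY a else 0 := by
  induction a using K0Cat.clSub_induction with
  | h0 => simp
  | hneg b hb => rw [map_neg, neg_mul, map_neg, map_neg, hb]; split_ifs <;> simp
  | hadd b c hb hc => rw [map_add, add_mul, map_add, map_add, hb, hc]; split_ifs <;> simp
  | hcl N hN =>
    have hG : Good π (W.O (-(i : ℤ))) := good_O h K (by omega)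
    have h2 := Good.pull_tensor h hN hG
    change g (φX (pullHom π (cl N) * xi W (-(i : ℤ)))) = _
    rw [pullHom_cl π hN, xi, cl_mul (M2.isFinLocFree_pullback π hN) hG.1, push_good hg h2,
      pcl_pull_tensor hN hG]
    split_ifs with h0
    · subst h0
      simp only [Nat.cast_zero, neg_zero]
      rw [← hcl, hcl_zero h K, mul_one]
    · rw [← hcl, hcl_neg h (by omega) (by omega), mul_zero, map_zero]

include hY hX hg h K in
/-- The projection formula. -/
theorem push_pull_mul (b : KY) (x : KX) : g (pl π hY φX b * x) = b * g x := by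
  obtain ⟨c, rfl⟩ := hY.bijective.2 b
  obtain ⟨z, rfl⟩ := hX.bijective.2 x
  rw [isPull_apply (isPull_pl hY), ← modelHom_apply hX, ← modelHom_apply hX, ← map_mul, modelHom_apply hX,
    modelHom_apply hX]
  obtain ⟨a, rfl⟩ := mem_spanTw K h z
  rw [Finset.mul_sum, map_sum, map_sum, map_sum, map_sum, Finset.mul_sum]
  refine Finset.sum_congr rfl fun i _ => ?_
  rw [← mul_assoc, ← map_mul, push_basis hY hg h K _ (by omega), push_basis hY hg h K _ (by omega)]
  split_ifs with hi
  · rw [← modelHom_apply hY, map_mul, modelHom_apply, modelHom_apply]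
  · rw [mul_zero]

include hX in
/-- Powers of the class of `O(-1)`. -/
theorem cl_pow (e : W.O (-1) ≅ Om) (j : ℕ) : φX (KRR.cl X Om) ^ j = φX (xi W (-(j : ℤ))) := by
  induction j with
  | zero => rw [pow_zero, Nat.cast_zero, neg_zero, xi_zero]; exact (map_one (modelHom hX)).symm
  | succ j ih =>
    rw [pow_succ, ih, show KRR.cl X Om = xi W (-1) from (cl_congr e (vb_O (W := W) (-1))).symm,
      show (-((j + 1 : ℕ) : ℤ)) = -(j : ℤ) + -1 by push_cast; ring, ← xi_add]
    exact (map_mul (modelHom hX) _ _).symm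

include hY hX hg h K in
theorem push_cl_pow (e : W.O (-1) ≅ Om) {j : ℕ} (hj : j ≤ n) :
    g (φX (KRR.cl X Om) ^ j) = if j = 0 then 1 else 0 := by
  have := push_basis hY hg h K 1 hj
  rw [map_one, one_mul] at this
  rw [cl_pow hX e, this, show φY 1 = 1 from map_one (modelHom hY)]

include hY hX hg h in
/-- The top power gives the inverse of the determinant. -/
theorem push_cl_pow_top (e : W.O (-1) ≅ Om) {D D' : Y.Modules} (hD : ExtPow.IsExtPow (n + 1) E D)
    (hK : ExtPow.IsExtPow (n + 1) E (K.L (n + 1))) (hD'i : PicF.IsInvertible D') (hDD' : ClSub.IsInverseOf D D') :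
    g (φX (KRR.cl X Om) ^ (n + 1)) = (-1) ^ n * φY (KRR.cl Y D') := by
  obtain ⟨eD⟩ := ExtFil4.isoExtPow hK hD
  obtain ⟨eu⟩ := hDD'
  have hu : φY (cl (K.L (n + 1))) * φY (KRR.cl Y D') = 1 := by
    rw [← modelHom_apply hY, ← modelHom_apply hY, ← map_mul]
    refine (congrArg (modelHom hY) ?_).trans (map_one (modelHom hY))
    have hLf := K.hL (n + 1)
    have hD'f := M2.isFinLocFree_of_isInvertible hD'i
    refine ((cl_mul hLf hD'f).trans (cl_congr (M2.tensorIso eD (Iso.refl D') ≪≫ eu)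
      (M2.isFinLocFree_tensor hLf hD'f))).trans cl_one
  have h0 : cl (K.L 0) = 1 := (cl_congr K.low.some (K.hL 0)).trans cl_one
  have hr := congrArg (fun z => g (φX z)) K.xi_rel
  simp only [map_zero, map_sum, map_zsmul] at hr
  simp only [zsmul_eq_mul, Int.cast_pow, Int.cast_neg, Int.cast_one] at hr
  rw [Finset.sum_range_succ, Finset.sum_eq_single 0 (fun p hp hp0 => ?_) (by simp)] at hr
  · rw [push_basis hY hg h K _ (Nat.zero_le n), if_pos rfl, h0, show φY 1 = 1 from map_one (modelHom hY),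
      pow_zero, one_mul, show φX (pullHom π (cl (K.L (n + 1))) * xi W (-((n + 1 : ℕ) : ℤ))) =
        pl π hY φX (φY (cl (K.L (n + 1)))) * φX (KRR.cl X Om) ^ (n + 1) by
        rw [isPull_apply (isPull_pl hY), cl_pow hX e]; exact map_mul (modelHom hX) _ _,
      push_pull_mul hY hX hg h K] at hr
    have h1 : ((-1 : KY) ^ n) * (-1) ^ n = 1 := by rw [← mul_pow]; simp
    calc g (φX (KRR.cl X Om) ^ (n + 1))
        = φY (KRR.cl Y D') * ((-1) ^ n * (-1) ^ n * (φY (cl (K.L (n + 1))) * g (φX (KRR.cl X Om) ^ (n + 1)))) := by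
          rw [h1, one_mul, ← mul_assoc, mul_comm (φY (KRR.cl Y D')), hu, one_mul]
      _ = (-1) ^ n * φY (KRR.cl Y D') := by
          rw [pow_succ] at hr
          linear_combination (-(φY (KRR.cl Y D')) * (-1) ^ n) * hr
  · rw [Finset.mem_range] at hp
    rw [push_basis hY hg h K _ (by omega), if_neg hp0, mul_zero]

include hY hX hg h K in
/-- `π_* δ^l = 1` below the rank and `1 - det⁻¹` at the rank. -/
theorem push_delta_pow (e : W.O (-1) ≅ Om) {D D' : Y.Modules} (hD : ExtPow.IsExtPow (n + 1) E D)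
    (hK : ExtPow.IsExtPow (n + 1) E (K.L (n + 1))) (hD'i : PicF.IsInvertible D') (hDD' : ClSub.IsInverseOf D D') :
    (∀ l : ℕ, l < n + 1 → g ((1 - φX (KRR.cl X Om)) ^ l) = 1) ∧
      g ((1 - φX (KRR.cl X Om)) ^ (n + 1)) = 1 - φY (KRR.cl Y D') := by
  have hexp : ∀ l : ℕ, g ((1 - φX (KRR.cl X Om)) ^ l) =
      ∑ j ∈ Finset.range (l + 1), (((-1 : ℤ) ^ j * (l.choose j : ℤ)) • g (φX (KRR.cl X Om) ^ j)) := by
    intro l
    rw [show 1 - φX (KRR.cl X Om) = -φX (KRR.cl X Om) + 1 by ring, add_pow, map_sum]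
    refine Finset.sum_congr rfl fun j _ => ?_
    rw [← map_zsmul, zsmul_eq_mul]
    congr 1
    push_cast
    rw [neg_pow, one_pow]
    ring
  have hlow : ∀ l : ℕ, l ≤ n → ∀ j ∈ Finset.range (l + 1), j ≠ 0 →
      ((-1 : ℤ) ^ j * (l.choose j : ℤ)) • g (φX (KRR.cl X Om) ^ j) = 0 := by
    intro l hl j hj hj0
    rw [Finset.mem_range] at hj
    rw [push_cl_pow hY hX hg h K e (by omega), if_neg hj0, smul_zero]
  refine ⟨fun l hl => ?_, ?_⟩
  · rw [hexp, Finset.sum_eq_single 0 (hlow l (by omega)) (by simp),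
      push_cl_pow hY hX hg h K e (Nat.zero_le n)]
    simp
  · rw [hexp, Finset.sum_range_succ, Finset.sum_eq_single 0 (fun j hj hj0 => ?_) (by simp),
      push_cl_pow hY hX hg h K e (Nat.zero_le n), push_cl_pow_top hY hX hg h K e hD hK hD'i hDD']
    · simp only [if_true, pow_zero, Nat.choose_zero_right, Nat.choose_self, Nat.cast_one, mul_one, one_smul,
        zsmul_eq_mul, Int.cast_pow, Int.cast_neg, Int.cast_one]
      have h1 : ((-1 : KY) ^ n) * (-1) ^ n = 1 := by rw [← mul_pow]; simp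
      rw [pow_succ]
      linear_combination -(φY (KRR.cl Y D')) * h1
    · rw [Finset.mem_range] at hj
      rw [push_cl_pow hY hX hg h K e (by omega), if_neg hj0, smul_zero]

include hY hX in
/-- The pulled back dual is `O(-1)` plus a bundle of rank `n`. -/
theorem exists_dual_split (hP : KRR.IsProjBundle π E O1 q) (hE : FlatMod.IsFinLocFreeOfRank (n + 1) E)
    (hOm : PicF.IsInvertible Om) (hOOm : ClSub.IsInverseOf O1 Om) :
    ∃ Q : KX, pl π hY φX (φY (KRR.cl Y (RefHull.dual E))) = φX (KRR.cl X Om) + Q ∧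
      ∀ m, n < m → gamma m (Q - (n : KX)) = 0 := by
  have hEl := M2.isFinLocFree_of_ofRank hE
  haveI := hP.epi
  have hO1 := (M2.isInvertible_iff_isFinLocFreeOfRank_one _).2 hP.invertible
  have hS : (ShortComplex.mk (kernel.ι q) q (kernel.condition q)).ShortExact :=
    ShortComplex.ShortExact.mk' (ShortComplex.exact_kernel q) inferInstance hP.epi
  have hN : FlatMod.IsFinLocFreeOfRank n (kernel q) :=
    Cyc26Split.isFinLocFreeOfRank_kernel _ _ _ hS (M2.isFinLocFreeOfRank_pullback π hE) hP.invertible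
  have hNl := M2.isFinLocFree_of_ofRank hN
  have hO1l := M2.isFinLocFree_of_ofRank hP.invertible
  have hPl := M2.isFinLocFree_pullback π hEl
  refine ⟨φX (KRR.cl X (CohMop.dual (kernel q))), ?_, fun m hm => ?_⟩
  · obtain ⟨i⟩ := nonempty_pullback_dual (π := π) hEl
    have hdl : FlatMod.IsFinLocFree (RefHull.dual E) := LefFEt11.isFinLocFree_dual hEl
    rw [isPull_apply (isPull_pl hY), ← map_add]
    refine congrArg φX ?_
    rw [show KRR.cl Y (RefHull.dual E) = cl (RefHull.dual E) from rfl, pullHom_cl π hdl,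
      cl_congr i (M2.isFinLocFree_pullback π hdl)]
    have hd := ES11.shortExact_dual hS hO1l
    refine (cl_ses _ hd (CohMop.isFinLocFree_dual hO1l) (CohMop.isFinLocFree_dual hPl)
      (CohMop.isFinLocFree_dual hNl)).trans ?_
    refine congrArg (fun z => z + cl (CohMop.dual (kernel q))) ?_
    obtain ⟨j⟩ := ES11.nonempty_dual_iso_of_inverse hO1 hOOm.some
    exact cl_congr j (CohMop.isFinLocFree_dual hO1l)
  · rcases Nat.eq_zero_or_pos n with rfl | hn
    · have hz : IsZero (CohMop.dual (kernel q)) := AmpleElt5.isZero_of_rank_zero (rank_dual hN)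
      rw [show KRR.cl X (CohMop.dual (kernel q)) = 0 from cl_of_isZero hz, map_zero, Nat.cast_zero, sub_zero,
        Lambda.gamma_zero_right, if_neg (by omega)]
    · exact gamma_eq_zero_of_pos PX ((hX.mem_pos_iff _).2 ⟨n, _, hn, rank_dual hN, rfl⟩)
        (hX.aug_cl n _ (rank_dual hN)) hm

include hY hX hg h K in
/-- The Segre relation. -/
theorem segre_rel (hP : KRR.IsProjBundle π E O1 q) (hE : FlatMod.IsFinLocFreeOfRank (n + 1) E)
    (hOm : PicF.IsInvertible Om) (hOOm : ClSub.IsInverseOf O1 Om) (i : ℕ) :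
    ∑ k ∈ Finset.range (n + 2), gamma (n + 1 - k) (φY (KRR.cl Y (RefHull.dual E)) - ((n + 1 : ℕ) : KY)) *
      g ((1 - φX (KRR.cl X Om)) ^ (i + k)) = 0 := by
  obtain ⟨Q, hQ, hQ'⟩ := exists_dual_split hY hX hP hE hOm hOOm
  have hrel := gamma_rel PX (isLine_cl hX hOm) n hQ'
  let f := pullRingHom (f := π) hY hX (isPull_pl (π := π) hY)
  have hf : ∀ b, f b = pl π hY φX b := fun b => rfl
  have hgam : ∀ m, f (gamma m (φY (KRR.cl Y (RefHull.dual E)) - ((n + 1 : ℕ) : KY))) =
      gamma m (φX (KRR.cl X Om) + Q - ((n + 1 : ℕ) : KX)) := by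
    intro m
    rw [Lambda.gamma_map f (fun j x => pull_lam hY hX (isPull_pl hY) j x), map_sub, map_natCast, hf, hQ]
  rw [Finset.sum_congr rfl fun k _ => show _ = g (gamma (n + 1 - k) (φX (KRR.cl X Om) + Q - ((n + 1 : ℕ) : KX)) *
      (1 - φX (KRR.cl X Om)) ^ k * (1 - φX (KRR.cl X Om)) ^ i) from ?_]
  · rw [← map_sum, ← Finset.sum_mul, hrel, zero_mul, map_zero]
  · rw [← hgam, hf, mul_assoc, push_pull_mul hY hX hg h K, ← pow_add, add_comm k i]

omit [AlgebraicGeometry.IsNoetherian X] [AlgebraicGeometry.IsNoetherian Y] [HasInjectiveResolutions X.Modules] in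
/-- The bundle of the zero module has no model. -/
theorem rank_ne_zero (hP : KRR.IsProjBundle π E O1 q) (hE : FlatMod.IsFinLocFreeOfRank 0 E)
    (hX : KRR.IsModel X KX PX φX) : False := by
  haveI := subsingleton_kvb_of_rank_zero hE hP
  haveI : Subsingleton KX := hX.bijective.2.subsingleton
  have := congrArg PX.aug (Subsingleton.elim (1 : KX) 0)
  simp at this

end Groth.Agent.PBK5.Segre
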