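import Groth.Agent.Lib.PBK5.Basic
import Groth.Agent.S2331
import Groth.Agent.S4380
import Groth.Agent.S4381
import Groth.Agent.Lib.RelAmple18.Basic
import Groth.Agent.Lib.Twist.Ample
import Groth.Agent.Lib.VarDim.Top
import Mathlib.RingTheory.KrullDimension.Polynomial

/-! Dimension and ample modules on projective bundles. -/

set_option autoImplicit false
set_option linter.style.haveILetI false
set_option backward.isDefEq.respectTransparency false
set_option backward.isDefEq.respectTransparency.types false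

universe u

open CategoryTheory Limits AlgebraicGeometry TopologicalSpace

noncomputable section

namespace Groth.Agent.PBK5

variable {X P : Scheme.{u}} {E : X.Modules} {π : P ⟶ X} {O1 : P.Modules}
  {q : (Scheme.Modules.pullback π).obj E ⟶ O1} {n : ℕ}

/-- Dimension is local. -/
theorem topologicalKrullDim_le_of_cover {d : ℕ}
    (h : ∀ x : X, ∃ W : X.Opens, x ∈ W ∧ topologicalKrullDim (W : Scheme.{u}) ≤ (d : WithBot ℕ∞)) :
    topologicalKrullDim X ≤ (d : WithBot ℕ∞) := by
  rw [VarDim.scheme_dim_eq_iSup_height]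
  refine iSup_le fun x => ?_
  refine (WithBot.coe_le_coe (b := (d : ℕ∞))).2 (Order.height_le fun l hl => ?_)
  refine (WithBot.coe_le_coe (b := (d : ℕ∞))).1 ?_
  obtain ⟨W, hW, hd⟩ := h l.head
  refine le_trans ?_ hd
  have hmem : ∀ i, l i ∈ W := fun i =>
    (show l i ⤳ l.head from VarDim.le_iff_specializes'.1 (l.monotone (Fin.zero_le i))).mem_open W.2 hW
  let l' : LTSeries (W : Scheme.{u}) := LTSeries.mk l.length (fun i => ⟨l i, hmem i⟩) fun i j hij => by
    refine VarDim.lt_iff_specializes_and_ne.2 ⟨?_, fun e => ?_⟩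
    · exact subtype_specializes_iff _ _ |>.2 (VarDim.le_iff_specializes'.1 (l.monotone hij.le))
    · exact (l.strictMono hij).ne (congrArg Subtype.val e)
  rw [VarDim.scheme_dim_eq_iSup_height]
  refine le_trans ?_ (le_iSup (fun z : (W : Scheme.{u}) => ((Order.height z : ℕ∞) : WithBot ℕ∞)) l'.last)
  exact WithBot.coe_le_coe.2 (Order.length_le_height le_rfl)

/-- The dimension of a projective bundle. -/
theorem dim_projBundle_le [IsLocallyNoetherian X] (hP : KRR.IsProjBundle π E O1 q)
    (hE : FlatMod.IsFinLocFreeOfRank (n + 1) E) {d : ℕ} (hd : topologicalKrullDim X ≤ (d : WithBot ℕ∞)) :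
    topologicalKrullDim P ≤ ((d + n : ℕ) : WithBot ℕ∞) := by
  refine topologicalKrullDim_le_of_cover fun y => ?_
  obtain ⟨U, -, htU, hU, ⟨b⟩⟩ := exists_basis_nhd hE (π y) ⊤ trivial
  have hqc := M2.isQCoh_of_isFinLocFree (M2.isFinLocFree_of_ofRank hE)
  obtain ⟨k, hk⟩ := PBundle2.exists_mem_gl hP hqc hU b (show y ∈ π ⁻¹ᵁ U from htU)
  obtain ⟨hWa, hbij⟩ := PBundle2.chart hP hqc hU b k
  haveI : IsNoetherianRing Γ(X, U) := IsLocallyNoetherian.component_noetherian ⟨U, hU⟩
  refine ⟨_, hk, ?_⟩
  rw [IsHomeomorph.topologicalKrullDim_eq _ hWa.isoSpec.hom.homeomorph.isHomeomorph]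
  show topologicalKrullDim (PrimeSpectrum _) ≤ _
  rw [PrimeSpectrum.topologicalKrullDim_eq_ringKrullDim,
    ← ringKrullDim_eq_of_ringEquiv (RingEquiv.ofBijective _ hbij), MvPolynomial.ringKrullDim_of_isNoetherianRing]
  have hR : ringKrullDim Γ(X, U) ≤ (d : WithBot ℕ∞) := by
    refine le_trans (le_of_eq ?_) ((U.ι.isOpenEmbedding.isInducing.topologicalKrullDim_le).trans hd)
    rw [IsHomeomorph.topologicalKrullDim_eq _ hU.isoSpec.hom.homeomorph.isHomeomorph]
    exact (PrimeSpectrum.topologicalKrullDim_eq_ringKrullDim (R := Γ(X, U))).symm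
  rw [Nat.card_fin]
  push_cast
  exact add_le_add hR le_rfl

/-- The tautological module is relatively ample. -/
theorem isRelAmple_projBundle [QuasiCompact π] (hP : KRR.IsProjBundle π E O1 q)
    (hE : FlatMod.IsFinLocFreeOfRank (n + 1) E) : RelAmple.IsRelAmple π O1 := by
  choose U _ hxU hU b using fun x : X => exists_basis_nhd hE x ⊤ trivial
  refine (Groth.Agent.S4380.result π O1 U (eq_top_iff.2 fun x _ => Opens.mem_iSup.2 ⟨x, hxU x⟩)).2 fun x => ?_
  haveI : IsAffine (U x : Scheme.{u}) := hU x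
  haveI : QuasiCompact (π ∣_ U x) := MorphismProperty.of_isPullback (isPullback_morphismRestrict π (U x)).flip inferInstance
  refine (Groth.Agent.S4381.result _ _).2 ?_
  obtain ⟨φ, -, ⟨τ⟩⟩ := exists_chart_iso hP (M2.isQCoh_of_isFinLocFree (M2.isFinLocFree_of_ofRank hE)) (hU x)
    (b x).some
  refine Amp.isAmple_of_iso τ ?_
  rw [RA.isAmple_pullback_iso_iff]
  have := Groth.Agent.Twist.isAmple_twist (CohB1.polyGrading n Γ(X, U x)) (fun i => MvPolynomial.X i)
    (fun i => Groth.Agent.ProjSpace.X_mem' n _ i) (Groth.Agent.ProjSpace.irrelevant_le_span n _) (d := 1) one_pos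
  exact this

/-- Projective bundles over schemes with ample modules have ample modules. -/
theorem exists_ample_projBundle [CompactSpace X] [QuasiCompact π] (hP : KRR.IsProjBundle π E O1 q)
    (hE : FlatMod.IsFinLocFreeOfRank (n + 1) E) {L : X.Modules} (hL : CohB1.IsAmple L) :
    ∃ M : P.Modules, CohB1.IsAmple M := by
  let g := specULiftZIsTerminal.from X
  haveI : QuasiCompact g := (quasiCompact_iff_compactSpace g).2 inferInstance
  obtain ⟨n₀, -, h⟩ := Groth.Agent.S2331.result π g O1 L (isRelAmple_projBundle hP hE)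
    ((Groth.Agent.S4381.result g L).2 hL)
  exact ⟨_, (Groth.Agent.S4381.result (π ≫ g) _).1 (h n₀ le_rfl)⟩

end Groth.Agent.PBK5
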