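import Groth.Agent.Lib.PBK5.Conn
import Groth.Agent.Lib.PBK5.Hom

/-! The splitting principle for the K-ring of vector bundles. -/

set_option autoImplicit false
set_option linter.style.haveILetI false
set_option backward.isDefEq.respectTransparency false
set_option backward.isDefEq.respectTransparency.types false

universe v u

open CategoryTheory Limits AlgebraicGeometry LambdaRing

noncomputable section

namespace Groth.Agent.PBK5

open Groth.Agent.ExtFil4 (cl)

attribute [local instance] ExtFil4.kvbRing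

theorem pullHom_id (X : Scheme.{u}) (x : SGA6.Kvb X) : pullHom (𝟙 X) x = x := by
  induction x using K0Cat.clSub_induction with
  | h0 => exact map_zero _
  | hneg a ha => rw [map_neg, ha]
  | hadd a b ha hb => rw [map_add, ha, hb]
  | hcl E hE =>
    exact (pullHom_cl (𝟙 X) hE).trans
      (cl_congr ((Scheme.Modules.pullbackId X).app E) (M2.isFinLocFree_pullback _ hE))

theorem pullHom_comp {X Y Z : Scheme.{u}} (g : X ⟶ Y) (f : Y ⟶ Z) (x : SGA6.Kvb Z) :
    pullHom (g ≫ f) x = pullHom g (pullHom f x) := by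
  induction x using K0Cat.clSub_induction with
  | h0 => simp
  | hneg a ha => simp only [map_neg, ha]
  | hadd a b ha hb => simp only [map_add, ha, hb]
  | hcl E hE =>
    refine (pullHom_cl (g ≫ f) hE).trans ?_
    refine Eq.trans ?_ (congrArg (pullHom g) (pullHom_cl f hE)).symm
    refine Eq.trans ?_ (pullHom_cl g (M2.isFinLocFree_pullback f hE)).symm
    exact cl_congr ((Scheme.Modules.pullbackComp g f).app E).symm (M2.isFinLocFree_pullback _ hE)

/-- Pull-back to a bundle of projective spaces is injective. -/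
theorem injective_pullHom {T P : Scheme.{u}} {π : P ⟶ T} {W : Tw P} {n : ℕ} [CompactSpace T]
    (h : IsPB π W n) (K : KosData π W n) : Function.Injective (pullHom π) := by
  intro x y hxy
  have hkey : ∀ z : SGA6.Kvb T, ∑ i : Fin (n + 1), pullHom π ((Pi.single 0 z : Fin (n + 1) → SGA6.Kvb T) i) *
      xi W ((i : ℕ) : ℤ) = pullHom π z := fun z => by
    rw [Finset.sum_eq_single (0 : Fin (n + 1))]
    · simp [xi_zero]
    · intro b _ hb; simp [hb]
    · simp
  have h2 := (bijective_pos h K).1 (a₁ := Pi.single 0 x) (a₂ := Pi.single 0 y) (by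
    show ∑ i, _ = ∑ i, _
    rw [hkey, hkey, hxy])
  simpa using congrFun h2 0

/-- One step of the splitting: the tautological line bundle on the projective bundle. -/
theorem exists_step {X : Scheme.{u}} [ConnectedSpace X] [CompactSpace X] {m : ℕ} {E : X.Modules}
    (hE : FlatMod.IsFinLocFreeOfRank (m + 1) E) :
    ∃ (P : Scheme.{u}) (π : P ⟶ X), ConnectedSpace P ∧ CompactSpace P ∧ (IsNoetherian X → IsNoetherian P) ∧
      Function.Injective (pullHom π) ∧ ∃ (Q O1 : P.Modules) (q : (Scheme.Modules.pullback π).obj E ⟶ O1),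
        KRR.IsProjBundle π E O1 q ∧ FlatMod.IsFinLocFreeOfRank m Q ∧ FlatMod.IsFinLocFreeOfRank 1 O1 ∧
        pullHom π (cl E) = cl Q + cl O1 := by
  obtain ⟨P, π, O1, q, hPB, -, hprop, hker⟩ := Cyc26Split.exists_projBundle hE
  haveI := hprop
  haveI := hPB.epi
  obtain ⟨W, ⟨e⟩⟩ := exists_tw' hPB.invertible
  obtain ⟨h, ⟨K⟩⟩ := exists_data hPB hE W e
  haveI := h.connectedSpace
  haveI : CompactSpace P := QuasiCompact.compactSpace_of_compactSpace π
  refine ⟨P, π, inferInstance, inferInstance, fun hX => ?_, injective_pullHom h K, kernel q, O1, q, hPB, hker,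
    hPB.invertible, ?_⟩
  · haveI := hX
    haveI : IsLocallyNoetherian P := LocallyOfFiniteType.isLocallyNoetherian π
    exact {}
  · rw [pullHom_cl π (M2.isFinLocFree_of_ofRank hE)]
    exact cl_ses (ShortComplex.mk (kernel.ι q) q (kernel.condition q))
      (ShortComplex.ShortExact.mk' (ShortComplex.exact_kernel q) inferInstance inferInstance)
      (M2.isFinLocFree_of_ofRank hker) (M2.isFinLocFree_pullback π (M2.isFinLocFree_of_ofRank hE))
      (M2.isFinLocFree_of_ofRank hPB.invertible)

/-- The splitting principle. -/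
theorem exists_split : ∀ (m : ℕ) {X : Scheme.{u}} [ConnectedSpace X] [CompactSpace X] {E : X.Modules},
    FlatMod.IsFinLocFreeOfRank m E →
    ∃ (X' : Scheme.{u}) (f : X' ⟶ X), ConnectedSpace X' ∧ CompactSpace X' ∧ (IsNoetherian X → IsNoetherian X') ∧
      Function.Injective (pullHom f) ∧ ∃ L : Fin m → X'.Modules, (∀ j, FlatMod.IsFinLocFreeOfRank 1 (L j)) ∧
        pullHom f (cl E) = ∑ j, cl (L j)
  | 0, X, _, _, E, hE => by
    refine ⟨X, 𝟙 X, inferInstance, inferInstance, id, fun x y h => by rwa [pullHom_id, pullHom_id] at h,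
      Fin.elim0, fun j => j.elim0, ?_⟩
    rw [pullHom_id, cl_of_isZero (AmpleElt5.isZero_of_rank_zero hE)]
    simp
  | m + 1, X, _, _, E, hE => by
    obtain ⟨P, π, hPc, hPk, hPn, hπ, Q, O1, -, -, hQ, hO, hcl⟩ := exists_step hE
    obtain ⟨X', g, hc, hk, hn, hg, L, hL, hLs⟩ := exists_split m hQ
    refine ⟨X', g ≫ π, hc, hk, fun h => hn (hPn h), fun x y h => hπ (hg (by rwa [pullHom_comp, pullHom_comp] at h)),
      Fin.snoc L ((Scheme.Modules.pullback g).obj O1), fun j => ?_, ?_⟩
    · refine Fin.lastCases ?_ (fun i => ?_) j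
      · rw [Fin.snoc_last]; exact M2.isFinLocFreeOfRank_pullback g hO
      · rw [Fin.snoc_castSucc]; exact hL i
    · rw [pullHom_comp, hcl, map_add, hLs, pullHom_cl g (M2.isFinLocFree_of_ofRank hO), Fin.sum_univ_castSucc]
      simp

/-- The pull-back on models from an injective pull-back of classes. -/
theorem exists_pull {X Y : Scheme.{u}} (f : X ⟶ Y) (hf : Function.Injective (pullHom f))
    {KY : Type v} [CommRing KY] [LambdaOps KY] {PY : PosStructure KY} {φY : SGA6.Kvb Y →+ KY}
    (hY : KRR.IsModel Y KY PY φY) {w : Type*} [CommRing w] [LambdaOps w] {PX : PosStructure w}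
    {φX : SGA6.Kvb X →+ w} (hX : KRR.IsModel X w PX φX) :
    ∃ g : KY →+ w, KRR.IsPull f φY φX g ∧ Function.Injective g := by
  let ψ := AddEquiv.ofBijective φY hY.bijective
  let g : KY →+ w := φX.comp ((CMReg18.kPull f).comp ψ.symm.toAddMonoidHom)
  have hg : KRR.IsPull f φY φX g := fun E hE => by
    show φX (CMReg18.kPull f (ψ.symm (φY _))) = _
    rw [show ψ.symm (φY (KRR.cl Y E)) = KRR.cl Y E from ψ.symm_apply_apply _, CMReg18.kPull_cl f hE]
  refine ⟨g, hg, fun a b hab => ?_⟩
  obtain ⟨x, rfl⟩ := hY.bijective.2 a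
  obtain ⟨y, rfl⟩ := hY.bijective.2 b
  rw [isPull_apply hg, isPull_apply hg] at hab
  exact congrArg φY (hf (hX.bijective.1 hab))

end Groth.Agent.PBK5
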