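import Groth.Agent.Lib.PBK5.LineVan
import Groth.Agent.Lib.PBK5.BundleDim
import Groth.Agent.Lib.PBK5.Split

/-! The filtration vanishes above the dimension. -/

set_option autoImplicit false
set_option linter.style.haveILetI false
set_option backward.isDefEq.respectTransparency false
set_option backward.isDefEq.respectTransparency.types false

universe v u

open CategoryTheory Limits AlgebraicGeometry LambdaRing TopologicalSpace

noncomputable section

namespace Groth.Agent.PBK5

open Groth.Agent.ExtFil4 (cl)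

attribute [local instance] ExtFil4.kvbRing

/-- The ideal of line classes minus one. -/
def lineIdeal (X : Scheme.{u}) : Ideal (SGA6.Kvb X) :=
  Ideal.span (Set.range fun M : {M : X.Modules // PicF.IsInvertible M} => cl M.1 - 1)

variable {X Y : Scheme.{u}}

theorem cl_sub_one_mem {M : X.Modules} (hM : PicF.IsInvertible M) : cl M - 1 ∈ lineIdeal X :=
  Ideal.subset_span ⟨⟨M, hM⟩, rfl⟩

theorem map_lineIdeal_le (f : Y ⟶ X) : (lineIdeal X).map (pullHom f) ≤ lineIdeal Y := by
  rw [lineIdeal, Ideal.map_span, Ideal.span_le]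
  rintro _ ⟨_, ⟨M, rfl⟩, rfl⟩
  rw [map_sub, map_one, pullHom_cl f (M2.isFinLocFree_of_isInvertible M.2)]
  exact cl_sub_one_mem ((M2.isInvertible_iff_isFinLocFreeOfRank_one _).2
    (M2.isFinLocFreeOfRank_pullback f ((M2.isInvertible_iff_isFinLocFreeOfRank_one _).1 M.2)))

theorem pullHom_mem_pow (f : Y ⟶ X) {k : ℕ} {c : SGA6.Kvb X} (hc : c ∈ lineIdeal X ^ k) :
    pullHom f c ∈ lineIdeal Y ^ k := by
  have h := Ideal.mem_map_of_mem (pullHom f) hc
  rw [Ideal.map_pow] at h
  exact Ideal.pow_right_mono (map_lineIdeal_le f) k h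

/-- Powers of the line ideal above the dimension vanish. -/
theorem lineIdeal_pow_eq_bot [ConnectedSpace X] [IsNoetherian X] {L : X.Modules} (hL : CohB1.IsAmple L) {d : ℕ}
    (hd : topologicalKrullDim X ≤ (d : WithBot ℕ∞)) {k : ℕ} (hk : d < k) : lineIdeal X ^ k = ⊥ := by
  obtain ⟨K, i1, i2, P, φ, hK⟩ := KModel5.exists_model X
  rw [lineIdeal, Submodule.span_pow, Submodule.span_eq_bot]
  intro c hc
  obtain ⟨f, rfl⟩ := Set.mem_pow.1 hc
  choose M hM using fun i => (f i).2
  refine hK.bijective.1 ?_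
  rw [map_zero, List.prod_ofFn, ← modelHom_apply hK, map_prod]
  rw [← prod_lines_eq_zero hL hK hd hk (fun i => (M i).1) fun i => (M i).2]
  refine Finset.prod_congr rfl fun i _ => ?_
  rw [← hM i, map_sub, map_one]
  rfl

/-- Sums of classes of invertible modules. -/
def IsSumLines (c : SGA6.Kvb X) : Prop :=
  ∃ (m : ℕ) (L : Fin m → X.Modules), (∀ j, PicF.IsInvertible (L j)) ∧ c = ∑ j, cl (L j)

theorem IsSumLines.pull (f : Y ⟶ X) {c : SGA6.Kvb X} (hc : IsSumLines c) : IsSumLines (pullHom f c) := by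
  obtain ⟨m, L, hL, rfl⟩ := hc
  refine ⟨m, fun j => (Scheme.Modules.pullback f).obj (L j), fun j =>
    (M2.isInvertible_iff_isFinLocFreeOfRank_one _).2
      (M2.isFinLocFreeOfRank_pullback f ((M2.isInvertible_iff_isFinLocFreeOfRank_one _).1 (hL j))), ?_⟩
  rw [map_sum]
  exact Finset.sum_congr rfl fun j _ => pullHom_cl f (M2.isFinLocFree_of_isInvertible (hL j))

/-- A cover on which classes split, remembering the dimension. -/
structure TopSplit (X : Scheme.{u}) (d : ℕ) where
  Y : Scheme.{u}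
  f : Y ⟶ X
  conn : ConnectedSpace Y
  noeth : IsNoetherian Y
  L : Y.Modules
  ample : CohB1.IsAmple L
  D : ℕ
  dim : topologicalKrullDim Y ≤ ((d + D : ℕ) : WithBot ℕ∞)
  τ : SGA6.Kvb Y
  mem : τ ∈ lineIdeal Y ^ D
  inj : ∀ z, pullHom f z * τ = 0 → z = 0

theorem xi_one_pow {P : Scheme.{u}} (W : Tw P) (i : ℕ) : xi W 1 ^ i = xi W (i : ℤ) := by
  induction i with
  | zero => rw [pow_zero, Nat.cast_zero, xi_zero]
  | succ i ih => rw [pow_succ, ih, xi_add, Nat.cast_succ]

theorem inj_step {T P : Scheme.{u}} {π : P ⟶ T} {W : Tw P} {n : ℕ} [CompactSpace T] (h : IsPB π W n)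
    (K : KosData π W n) {z : SGA6.Kvb T} (hz : pullHom π z * (xi W 1 - 1) ^ n = 0) : z = 0 := by
  let a : Fin (n + 1) → SGA6.Kvb T := fun i => z * ((-1) ^ (n - (i : ℕ)) * (n.choose (i : ℕ) : SGA6.Kvb T))
  have h2 := (bijective_pos h K).1 (a₁ := a) (a₂ := 0) (by
    show ∑ i : Fin (n + 1), pullHom π (a i) * xi W ((i : ℕ) : ℤ) = ∑ i : Fin (n + 1), pullHom π 0 * _
    simp only [map_zero, zero_mul, Finset.sum_const_zero]
    rw [← hz, sub_eq_add_neg, add_pow, Finset.sum_range, Finset.mul_sum]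
    refine Finset.sum_congr rfl fun i _ => ?_
    simp only [a, map_mul, map_pow, map_neg, map_one, map_natCast, xi_one_pow]
    ring)
  simpa [a] using congrFun h2 (Fin.last n)

theorem exists_topSplit_one : ∀ (m : ℕ) {X : Scheme.{u}} [ConnectedSpace X] [IsNoetherian X] {L : X.Modules},
    CohB1.IsAmple L → ∀ (d : ℕ), topologicalKrullDim X ≤ (d : WithBot ℕ∞) → ∀ {E : X.Modules},
      FlatMod.IsFinLocFreeOfRank m E → ∃ S : TopSplit X d, IsSumLines (pullHom S.f (cl E))
  | 0, X, _, _, L, hL, d, hd, E, hE => by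
    refine ⟨⟨X, 𝟙 X, inferInstance, inferInstance, L, hL, 0, hd, 1, by simp, fun z hz => ?_⟩, 0, Fin.elim0,
      fun j => j.elim0, ?_⟩
    · rwa [mul_one, pullHom_id] at hz
    · rw [pullHom_id, cl_of_isZero (AmpleElt5.isZero_of_rank_zero hE)]
      simp
  | m + 1, X, _, _, L, hL, d, hd, E, hE => by
    obtain ⟨P, π, O1, q, hPB, -, hprop, hker⟩ := Cyc26Split.exists_projBundle hE
    haveI := hprop
    haveI := hPB.epi
    obtain ⟨W, ⟨e⟩⟩ := exists_tw' hPB.invertible
    obtain ⟨h, ⟨K⟩⟩ := exists_data hPB hE W e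
    haveI := h.connectedSpace
    haveI : CompactSpace P := QuasiCompact.compactSpace_of_compactSpace π
    haveI : IsLocallyNoetherian P := LocallyOfFiniteType.isLocallyNoetherian π
    haveI : IsNoetherian P := {}
    obtain ⟨LP, hLP⟩ := exists_ample_projBundle hPB hE hL
    obtain ⟨S, hS⟩ := exists_topSplit_one m hLP (d + m) (dim_projBundle_le hPB hE hd) hker
    have hO : PicF.IsInvertible O1 := (M2.isInvertible_iff_isFinLocFreeOfRank_one _).2 hPB.invertible
    have hxi : xi W 1 = cl O1 := cl_congr e (vb_O 1)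
    have hmem : pullHom S.f ((xi W 1 - 1) ^ m) * S.τ ∈ lineIdeal S.Y ^ (m + S.D) := by
      rw [pow_add (lineIdeal S.Y)]
      refine Ideal.mul_mem_mul (pullHom_mem_pow S.f (Ideal.pow_mem_pow ?_ m)) S.mem
      rw [hxi]; exact cl_sub_one_mem hO
    refine ⟨⟨S.Y, S.f ≫ π, S.conn, S.noeth, S.L, S.ample, m + S.D, by rw [← add_assoc]; exact S.dim, _, hmem,
      fun z hz => inj_step h K (S.inj _ ?_)⟩, ?_⟩
    · rw [pullHom_comp] at hz
      rw [map_mul, mul_assoc]
      exact hz
    · obtain ⟨k, M, hM, hsum⟩ := hS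
      refine ⟨k + 1, Fin.snoc M ((Scheme.Modules.pullback S.f).obj O1), fun j => ?_, ?_⟩
      · refine Fin.lastCases ?_ (fun i => ?_) j
        · rw [Fin.snoc_last]
          exact (M2.isInvertible_iff_isFinLocFreeOfRank_one _).2 (M2.isFinLocFreeOfRank_pullback _ hPB.invertible)
        · rw [Fin.snoc_castSucc]; exact hM i
      · show pullHom (S.f ≫ π) (cl E) = _
        rw [pullHom_comp, pullHom_cl π (M2.isFinLocFree_of_ofRank hE),
          cl_ses (ShortComplex.mk (kernel.ι q) q (kernel.condition q))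
            (ShortComplex.ShortExact.mk' (ShortComplex.exact_kernel q) inferInstance inferInstance)
            (M2.isFinLocFree_of_ofRank hker) (M2.isFinLocFree_pullback π (M2.isFinLocFree_of_ofRank hE))
            (M2.isFinLocFree_of_ofRank hPB.invertible),
          map_add, hsum, pullHom_cl S.f (M2.isFinLocFree_of_ofRank hPB.invertible), Fin.sum_univ_castSucc]
        simp

theorem exists_topSplit [ConnectedSpace X] [IsNoetherian X] {L : X.Modules} (hL : CohB1.IsAmple L) (d : ℕ)
    (hd : topologicalKrullDim X ≤ (d : WithBot ℕ∞)) : ∀ (k : ℕ) (E : Fin k → X.Modules),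
    (∀ j, FlatMod.IsFinLocFree (E j)) → ∃ S : TopSplit X d, ∀ j, IsSumLines (pullHom S.f (cl (E j)))
  | 0, _, _ => ⟨⟨X, 𝟙 X, inferInstance, inferInstance, L, hL, 0, hd, 1, by simp,
      fun z hz => by rwa [mul_one, pullHom_id] at hz⟩, fun j => j.elim0⟩
  | k + 1, E, hE => by
    obtain ⟨S, hS⟩ := exists_topSplit hL d hd k (fun j => E j.castSucc) fun j => hE _
    haveI := S.conn
    haveI := S.noeth
    obtain ⟨y⟩ := (inferInstance : Nonempty S.Y)
    have hp := M2.isFinLocFree_pullback S.f (hE (Fin.last k))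
    obtain ⟨S', hS'⟩ := exists_topSplit_one _ S.ample (d + S.D) S.dim (KModel5.exists_rank y hp)
    refine ⟨⟨S'.Y, S'.f ≫ S.f, S'.conn, S'.noeth, S'.L, S'.ample, S.D + S'.D,
      by rw [← add_assoc]; exact S'.dim, pullHom S'.f S.τ * S'.τ, ?_, fun z hz => S.inj z (S'.inj _ ?_)⟩,
      fun j => ?_⟩
    · rw [pow_add]; exact Ideal.mul_mem_mul (pullHom_mem_pow _ S.mem) S'.mem
    · rw [pullHom_comp] at hz
      rw [map_mul, mul_assoc]
      exact hz
    · show IsSumLines (pullHom (S'.f ≫ S.f) (cl (E j)))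
      rw [pullHom_comp]
      refine Fin.lastCases ?_ (fun i => (hS i).pull S'.f) j
      rw [pullHom_cl S.f (hE (Fin.last k))]
      exact hS'

section Gamma

variable {K : Type v} [CommRing K] [LambdaOps K] (P : PosStructure K)

theorem gamma_sum_sub_mem (J : Ideal K) : ∀ {m : ℕ} (u w : Fin m → K),
    (∀ a, P.IsLine (u a) ∧ u a - 1 ∈ J) → (∀ a, P.IsLine (w a) ∧ w a - 1 ∈ J) →
    ∀ i, gamma i (∑ a, u a - ∑ a, w a) ∈ J ^ i
  | 0, u, w, _, _, i => by
    rcases Nat.eq_zero_or_pos i with rfl | hi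
    · simp
    have h : LambdaRing.gamma i (0 : K) = 0 := by
      rw [LambdaRing.gamma, if_neg (by omega)]
      refine Finset.sum_eq_zero fun j _ => ?_
      split_ifs with hj
      · simp
      · rw [← Lambda.coeff_lamSeries, Lambda.lamSeries_zero, PowerSeries.coeff_one, if_neg hj, mul_zero]
    simp [h]
  | m + 1, u, w, hu, hw, i => by
    rw [Fin.sum_univ_castSucc, Fin.sum_univ_castSucc,
      show ∑ a : Fin m, u a.castSucc + u (Fin.last m) - (∑ a : Fin m, w a.castSucc + w (Fin.last m)) =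
        (∑ a : Fin m, u a.castSucc - ∑ a : Fin m, w a.castSucc) + (u (Fin.last m) - w (Fin.last m)) by ring,
      Lambda.gamma_add]
    refine Ideal.sum_mem _ fun l hl => ?_
    rw [Finset.mem_range] at hl
    conv => arg 1; rw [show i = l + (i - l) by omega]
    rw [pow_add]
    refine Ideal.mul_mem_mul (gamma_sum_sub_mem J _ _ (fun a => hu _) (fun a => hw _) l) ?_
    rcases hil : i - l with _ | k
    · simp
    rw [Lambda.gamma_line_sub_line P (hu _).1 (hw _).1, pow_succ']
    refine Ideal.mul_mem_mul ?_ (Ideal.pow_mem_pow ?_ k)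
    · rw [show u (Fin.last m) - w (Fin.last m) = (u (Fin.last m) - 1) - (w (Fin.last m) - 1) by ring]
      exact sub_mem (hu _).2 (hw _).2
    · rw [show (1 : K) - w (Fin.last m) = -(w (Fin.last m) - 1) by ring]
      exact neg_mem (hw _).2

end Gamma

/-- The filtration vanishes above the dimension. -/
theorem gammaFiltration_eq_bot [ConnectedSpace X] [IsNoetherian X] {L : X.Modules} (hL : CohB1.IsAmple L) {d : ℕ}
    (hd : topologicalKrullDim X ≤ (d : WithBot ℕ∞)) {K : Type v} [CommRing K] [LambdaOps K] {P : PosStructure K}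
    {φ : SGA6.Kvb X →+ K} (hK : KRR.IsModel X K P φ) : gammaFiltration P (d + 1) = ⊥ := by
  rw [Lambda.gammaFiltration_eq P (d + 1) (by omega), AddSubgroup.closure_eq_bot_iff]
  rintro z ⟨l, hl, hsum, rfl⟩
  rw [Set.mem_singleton_iff]
  have hd' : ∀ p : Fin l.length, ∃ e e' : K, e ∈ P.pos ∧ e' ∈ P.pos ∧ (l.get p).2 = e - e' := fun p => P.exists_sub _
  choose e e' he he' hee using hd'
  choose n E hn hE hEe using fun p => (hK.mem_pos_iff _).1 (he p)
  choose n' E' hn' hE' hEe' using fun p => (hK.mem_pos_iff _).1 (he' p)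
  obtain ⟨S, hS⟩ := exists_topSplit hL d hd (l.length + l.length) (Fin.append E E') fun j =>
    Fin.addCases (fun p => by rw [Fin.append_left]; exact M2.isFinLocFree_of_ofRank (hE p))
      (fun p => by rw [Fin.append_right]; exact M2.isFinLocFree_of_ofRank (hE' p)) j
  haveI := S.conn
  haveI := S.noeth
  obtain ⟨K', j1, j2, P', φ', hK'⟩ := KModel5.exists_model S.Y
  obtain ⟨g, hg, -⟩ : ∃ g : K →+ K', KRR.IsPull S.f φ φ' g ∧ True := by
    let ψ := AddEquiv.ofBijective φ hK.bijective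
    refine ⟨φ'.comp ((CMReg18.kPull S.f).comp ψ.symm.toAddMonoidHom), fun A hA => ?_, trivial⟩
    show φ' (CMReg18.kPull S.f (ψ.symm (φ _))) = _
    rw [show ψ.symm (φ (KRR.cl X A)) = KRR.cl X A from ψ.symm_apply_apply _, CMReg18.kPull_cl S.f hA]
  let G := pullRingHom hK hK' hg
  let J := (lineIdeal S.Y).map (modelHom hK')
  have hlines : ∀ (c : SGA6.Kvb X), IsSumLines (pullHom S.f c) → ∃ (m : ℕ) (u : Fin m → K'),
      (∀ a, P'.IsLine (u a) ∧ u a - 1 ∈ J) ∧ g (φ c) = ∑ a, u a := by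
    rintro c ⟨m, M, hM, hc⟩
    refine ⟨m, fun a => φ' (cl (M a)), fun a => ⟨isLine_cl hK' (hM a), ?_⟩, ?_⟩
    · have h := Ideal.mem_map_of_mem (modelHom hK') (cl_sub_one_mem (hM a))
      rwa [map_sub, map_one] at h
    · rw [isPull_apply hg, hc, map_sum]
  have hfac : ∀ p : Fin l.length, G (gamma (l.get p).1 (l.get p).2) ∈ J ^ (l.get p).1 := by
    intro p
    rw [Lambda.gamma_map G (pull_lam hK hK' hg)]
    obtain ⟨m, u, hu, hgu⟩ := hlines (KRR.cl X (E p)) (by
      have h := hS (Fin.castAdd _ p); rwa [Fin.append_left] at h)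
    obtain ⟨m', w, hw, hgw⟩ := hlines (KRR.cl X (E' p)) (by
      have h := hS (Fin.natAdd _ p); rwa [Fin.append_right] at h)
    rw [hEe] at hgu
    rw [hEe'] at hgw
    have hG : G (l.get p).2 = ∑ a, u a - ∑ a, w a := by
      rw [hee, map_sub, pullRingHom_apply, pullRingHom_apply, hgu, hgw]
    obtain rfl : m' = m := by
      have h0 : P'.aug (G (l.get p).2) = 0 := (pull_aug hK hK' hg _).trans (hl _ (List.get_mem l p))
      rw [hG, map_sub, map_sum, map_sum, Finset.sum_congr rfl fun a _ => (hu a).1.2,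
        Finset.sum_congr rfl fun a _ => (hw a).1.2] at h0
      simp at h0
      omega
    rw [hG]
    exact gamma_sum_sub_mem P' J u w hu hw _
  obtain ⟨a, ha⟩ := hK.bijective.2 (l.map fun p => gamma p.1 p.2).prod
  rw [← ha]
  suffices pullHom S.f a * S.τ = 0 by rw [S.inj a this, map_zero]
  refine hK'.bijective.1 ?_
  rw [map_zero, ← modelHom_apply hK', map_mul, modelHom_apply, ← isPull_apply hg, ha]
  have hG : g (l.map fun p => gamma p.1 p.2).prod ∈ J ^ (d + 1) := by
    rw [← pullRingHom_apply hK hK' hg, map_list_prod, List.map_map, ← List.ofFn_get l, List.map_ofFn,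
      List.prod_ofFn]
    refine Ideal.pow_le_pow_right ?_ ((Finset.prod_pow_eq_pow_sum Finset.univ (fun p => (l.get p).1) J) ▸
      Ideal.prod_mem_prod fun p _ => hfac p)
    refine hsum.trans (le_of_eq ?_)
    exact (Fin.sum_univ_fun_getElem l Prod.fst).symm
  have hτ : modelHom hK' S.τ ∈ J ^ S.D := by
    rw [← Ideal.map_pow]; exact Ideal.mem_map_of_mem _ S.mem
  have h := Ideal.mul_mem_mul hG hτ
  rw [← pow_add, ← Ideal.map_pow, lineIdeal_pow_eq_bot S.ample S.dim (by omega), Ideal.map_bot] at h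
  exact h

end Groth.Agent.PBK5
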