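import Groth.Agent.Lib.PBK5.Span
import Groth.Agent.Lib.AffGrp19.Basic

/-! The K-ring of a bundle of projective spaces is free on the first twists. -/

set_option autoImplicit false
set_option linter.style.haveILetI false
set_option backward.isDefEq.respectTransparency false
set_option backward.isDefEq.respectTransparency.types false
set_option maxHeartbeats 800000

universe u

open CategoryTheory Limits AlgebraicGeometry TopologicalSpace Opposite

noncomputable section

namespace Groth.Agent.PBK5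

open Groth.Agent.CMReg18
open Groth.Agent.ExtFil4 (cl kvbRing)

attribute [local instance] ExtFil4.kvbRing

variable {T P : Scheme.{u}} {π : P ⟶ T} {W : Tw P} {n : ℕ}

theorem qcoh_of_vb {X : Scheme.{u}} {A : X.Modules} (hA : FlatMod.IsFinLocFree A) : Coh.IsQCoh A :=
  M1.isFP_isQCoh (M1.isFP_of_isFinLocFree hA)

/-- A module with no sections over affines pushes forward to zero. -/
theorem IsPB.isZero_push (h : IsPB π W n) {M : P.Modules} (hq : Coh.IsQCoh M)
    (hz : IsZero ((Coh.RpushAb π 0).obj (Coh.toAb M))) : IsZero ((Scheme.Modules.pushforward π).obj M) := by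
  rw [IsZero.iff_id_eq_zero]
  refine StQC14.hom_eq_zero_of_affine _ fun U hU m => ?_
  letI := CBC10.overU π hU
  have h0 := h.van hq hz hU
  haveI : Subsingleton Γ(M.restrict (π ⁻¹ᵁ U).ι, ⊤) := (CurveCoh17.hh0 _).symm.toEquiv.subsingleton
  have key : ∀ V : P.Opens, (π ⁻¹ᵁ U).ι ''ᵁ ⊤ = V → ∀ z : Γ(M, V), z = 0 := by
    rintro V rfl z
    exact Subsingleton.elim (α := Γ(M.restrict (π ⁻¹ᵁ U).ι, ⊤)) z 0
  exact key _ (Scheme.Opens.ι_image_top _) m

/-- The direct image of the structure sheaf is the structure sheaf. -/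
theorem IsPB.push_one (h : IsPB π W n) :
    Nonempty ((Scheme.Modules.pushforward π).obj (Coh.structureModule P) ≅ Coh.structureModule T) := by
  have hsec : ∀ V : T.Opens, Function.Bijective (π.app V) := by
    intro V
    refine AffGrp19.bijective_app_of_isBasis π (J := {U : T.Opens // Function.Bijective (π.app U)})
      Subtype.val ?_ (fun U => U.2) V
    refine Opens.isBasis_iff_nbhd.2 fun {U x} hx => ?_
    obtain ⟨U', hle, hx', hc⟩ := h x U hx
    exact ⟨U', ⟨⟨U', hc.secs⟩, rfl⟩, hx', hle⟩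
  haveI := PushUnit3.isIso_unit π hsec (ExtFil4.isVB_one (X := T))
  exact ⟨((Scheme.Modules.pushforward π).mapIso (PicLoc.pullbackStructureIso π).symm) ≪≫
    (asIso ((Scheme.Modules.pullbackPushforwardAdjunction π).unit.app (Coh.structureModule T))).symm⟩

theorem acyc_O (h : IsPB π W n) {m : ℤ} (hm : -(n : ℤ) ≤ m) : Acyc π (W.O m) := fun q hq =>
  h.isZero_rpush (Twist.isQCoh_of_isInvertible (W.inv m)) q fun _ => ⟨⊤, trivial, fun U _ hc =>
    hc.van m q (by omega)⟩

theorem Good.biprod (h : IsPB π W n) {A B : P.Modules} (hA : Good π A) (hB : Good π B) : Good π (A ⊞ B) := by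
  have hv := KFlat.Sch.isFinLocFree_biprod hA.1 hB.1
  refine ⟨hv, fun q hq => ?_, ?_⟩
  · refine h.isZero_rpush (qcoh_of_vb hv) q fun _ => ⟨⊤, trivial, fun U _ hc => ?_⟩
    letI := CBC10.overU π hc.affine
    exact van₂ Γ(T, U) ((ShortComplex.Splitting.ofHasBinaryBiproduct A B).shortExact.map_of_exact
        (Scheme.Modules.restrictFunctor (π ⁻¹ᵁ U).ι))
      (h.van (qcoh_of_vb hA.1) (hA.2.1 q hq) hc.affine) (h.van (qcoh_of_vb hB.1) (hB.2.1 q hq) hc.affine)
  · haveI := (Scheme.Modules.pullbackPushforwardAdjunction π).right_adjoint_additive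
    haveI := preservesBinaryBiproducts_of_preservesBiproducts (Scheme.Modules.pushforward π)
    exact M2.isFinLocFree_of_iso ((Scheme.Modules.pushforward π).mapBiprod A B).symm
      (KFlat.Sch.isFinLocFree_biprod hA.2.2 hB.2.2)

/-- The class of a direct image. -/
def pcl (π : P ⟶ T) (M : P.Modules) : SGA6.Kvb T := cl ((Scheme.Modules.pushforward π).obj M)

theorem pcl_congr {M N : P.Modules} (e : M ≅ N) (hM : Good π M) : pcl π M = pcl π N :=
  cl_congr ((Scheme.Modules.pushforward π).mapIso e) hM.2.2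

theorem pcl_ses (h : IsPB π W n) (S : ShortComplex P.Modules) (hS : S.ShortExact) (h1 : Good π S.X₁)
    (h2 : Good π S.X₂) (h3 : Good π S.X₃) : pcl π S.X₂ = pcl π S.X₁ + pcl π S.X₃ := by
  haveI := h.isProper
  exact cl_ses _ (shortExact_push_of_isZero π hS (qcoh_of_vb h1.1) (h1.2.1 1 le_rfl)) h1.2.2 h2.2.2 h3.2.2

theorem pcl_pull_tensor {N : T.Modules} (hN : FlatMod.IsFinLocFree N) {G : P.Modules} (hG : Good π G) :
    pcl π (CohB1.tensorMod ((Scheme.Modules.pullback π).obj N) G) = cl N * pcl π G :=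
  (cl_congr (pushPullIso π hN G).symm (M2.isFinLocFree_tensor hN hG.2.2)).symm.trans (cl_mul hN hG.2.2).symm

variable [CompactSpace T]

theorem good_O (h : IsPB π W n) (K : KosData π W n) {m : ℤ} (hm : -(n : ℤ) ≤ m) : Good π (W.O m) := by
  have := K.vb_push h (M := Coh.structureModule P) ExtFil4.isVB_one (b := -(n : ℤ))
    (fun x hx => (acyc_O h hx).of_iso (M2.tensorLUnit _).symm) m hm
  exact this.of_iso (M2.tensorLUnit _)

variable (π W) in
/-- The class of the direct image of a twist. -/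
def hcl (m : ℤ) : SGA6.Kvb T := pcl π (W.O m)

theorem hcl_zero (h : IsPB π W n) (K : KosData π W n) : hcl π W 0 = 1 := by
  obtain ⟨e⟩ := h.push_one
  exact (cl_congr ((Scheme.Modules.pushforward π).mapIso W.zero ≪≫ e) (good_O h K (by omega)).2.2).trans cl_one

theorem hcl_neg (h : IsPB π W n) {m : ℤ} (hm : -(n : ℤ) ≤ m) (hm' : m < 0) : hcl π W m = 0 :=
  cl_of_isZero (h.isZero_push (Twist.isQCoh_of_isInvertible (W.inv m))
    (h.isZero_rpush (Twist.isQCoh_of_isInvertible (W.inv m)) 0 fun _ => ⟨⊤, trivial, fun U _ hc =>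
      hc.van m 0 (by omega)⟩))

/-- The relation of the direct images of twists. -/
theorem hcl_rel (h : IsPB π W n) (K : KosData π W n) {e : ℤ} (he : 1 ≤ e) :
    ∑ p ∈ Finset.range (n + 2), ((-1 : ℤ) ^ p) • (cl (K.L p) * hcl π W (e - p)) = 0 := by
  let M := Coh.structureModule P
  have hg : ∀ p : ℕ, p ≤ n + 1 → Good π (W.tw M (e - p)) := fun p hp =>
    (good_O h K (by omega)).of_iso (M2.tensorLUnit _).symm
  have hX : ∀ p, Good π (CohB1.tensorMod (K.C.X p) (W.tw M e)) := fun p => by
    by_cases hp : p ≤ n + 1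
    · exact (Good.pull_tensor h (K.hL p) (hg p hp)).of_iso (K.termIso p M e).symm
    · exact good_of_isZero h ((M2.tensorR _).map_isZero (K.high p (by omega)))
  refine Eq.trans (Finset.sum_congr rfl fun p hp => ?_)
    (K.rel (Q := Good π) (a := pcl π) (fun e h => h.of_iso e) (fun hz => good_of_isZero h hz)
      (fun ha hb => Good.biprod h ha hb) (pcl_ses h) (W.tw M e) (isVB_tw ExtFil4.isVB_one e) hX
      (fun j => K.good_bd h ExtFil4.isVB_one e (fun p hp => (hg p hp).2.1)
        (fun p hp => (hg p (by omega)).2.2) j))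
  have hp' : p ≤ n + 1 := by simp only [Finset.mem_range] at hp; omega
  refine congrArg _ ?_
  rw [pcl_congr (K.termIso p M e) (hX p), pcl_pull_tensor (K.hL p) (hg p hp')]
  exact congrArg _ (pcl_congr (M2.tensorLUnit _) (hg p hp')).symm

/-- The class of the direct image of a twist, on free generators. -/
def pushTw (π : P ⟶ T) (W : Tw P) (d : ℤ) : FreeAbelianGroup (Subtype (ExtFil4.VB P)) →+ SGA6.Kvb T :=
  FreeAbelianGroup.lift fun M => pcl π (W.tw M.1 d)

theorem exists_pushTw_eq_zero (h : IsPB π W n) {x : FreeAbelianGroup (Subtype (ExtFil4.VB P))}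
    (hx : x ∈ KZero.relSub (ExtFil4.VB P)) : ∃ N : ℕ, ∀ d : ℤ, (N : ℤ) ≤ d → pushTw π W d x = 0 := by
  induction hx using AddSubgroup.closure_induction with
  | zero => exact ⟨0, fun d _ => map_zero _⟩
  | add a b _ _ ha hb =>
    obtain ⟨A, hA⟩ := ha
    obtain ⟨B, hB⟩ := hb
    exact ⟨A + B, fun d hd => by rw [map_add, hA d (by omega), hB d (by omega), add_zero]⟩
  | neg a _ ha =>
    obtain ⟨A, hA⟩ := ha
    exact ⟨A, fun d hd => by rw [map_neg, hA d hd, neg_zero]⟩
  | mem x hmem =>
    obtain ⟨S, h₁, h₂, h₃, hS, rfl⟩ := hmem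
    have hg : ∀ {M : P.Modules}, FlatMod.IsFinLocFree M → ∃ N : ℕ, ∀ d : ℤ, (N : ℤ) ≤ d → Good π (W.tw M d) :=
      fun {M} hM => by
        obtain ⟨N, hN⟩ := h.exists_large hM
        exact ⟨N, fun d hd => ⟨isVB_tw hM d, (hN d hd).1.acyc h (qcoh_of_vb (isVB_tw hM d)), (hN d hd).2⟩⟩
    obtain ⟨a₁, ha₁⟩ := hg h₁
    obtain ⟨a₂, ha₂⟩ := hg h₂
    obtain ⟨a₃, ha₃⟩ := hg h₃
    refine ⟨a₁ + a₂ + a₃, fun d hd => ?_⟩
    have := pcl_ses h _ (shortExact_tw (W := W) hS d) (ha₁ d (by omega)) (ha₂ d (by omega)) (ha₃ d (by omega))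
    simp only [map_sub, pushTw, FreeAbelianGroup.lift_apply_of]
    rw [sub_sub, sub_eq_zero]
    exact this

theorem mk_of {X : Scheme.{u}} (N : Subtype (ExtFil4.VB X)) :
    (QuotientAddGroup.mk (FreeAbelianGroup.of N) : SGA6.Kvb X) = cl N.1 := by
  show _ = KZero.clSub _ N.1
  rw [KZero.clSub, dif_pos N.2]

/-- Multiplication by a twist after pull-back, on free generators. -/
def genTw (π : P ⟶ T) (W : Tw P) (i : ℕ) :
    FreeAbelianGroup (Subtype (ExtFil4.VB T)) →+ FreeAbelianGroup (Subtype (ExtFil4.VB P)) :=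
  FreeAbelianGroup.map fun N => ⟨W.tw ((Scheme.Modules.pullback π).obj N.1) (-(i : ℤ)),
    isVB_tw (M2.isFinLocFree_pullback π N.2) _⟩

theorem mk_genTw (i : ℕ) (z : FreeAbelianGroup (Subtype (ExtFil4.VB T))) :
    (QuotientAddGroup.mk (genTw π W i z) : SGA6.Kvb P) =
      pullHom π (QuotientAddGroup.mk z : SGA6.Kvb T) * xi W (-(i : ℤ)) := by
  induction z using FreeAbelianGroup.induction_on with
  | zero => simp
  | of N =>
    have h1 : (QuotientAddGroup.mk (FreeAbelianGroup.of N) : SGA6.Kvb T) = cl N.1 := mk_of N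
    rw [h1, pullHom_cl π N.2, ← cl_tw (M2.isFinLocFree_pullback π N.2)]
    simp only [genTw, FreeAbelianGroup.map_of_apply]
    exact mk_of _
  | neg N hN => simp only [map_neg, QuotientAddGroup.mk_neg, hN, neg_mul]
  | add a b ha hb => simp only [map_add, QuotientAddGroup.mk_add, ha, hb, add_mul]

theorem pushTw_genTw (h : IsPB π W n) (K : KosData π W n) (i : ℕ) {d : ℤ} (hd : -(n : ℤ) ≤ d - i)
    (z : FreeAbelianGroup (Subtype (ExtFil4.VB T))) :
    pushTw π W d (genTw π W i z) = (QuotientAddGroup.mk z : SGA6.Kvb T) * hcl π W (d - i) := by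
  induction z using FreeAbelianGroup.induction_on with
  | zero => simp
  | of N =>
    have h1 : (QuotientAddGroup.mk (FreeAbelianGroup.of N) : SGA6.Kvb T) = cl N.1 := mk_of N
    simp only [genTw, pushTw, FreeAbelianGroup.map_of_apply, FreeAbelianGroup.lift_apply_of, h1]
    let e : W.tw (W.tw ((Scheme.Modules.pullback π).obj N.1) (-(i : ℤ))) d ≅
        W.tw ((Scheme.Modules.pullback π).obj N.1) (d - i) := W.twTwist _ _ _ ≪≫ W.twIso _ (by ring)
    exact (pcl_congr e.symm (Good.pull_tensor h N.2 (good_O h K hd))).symm.trans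
      (pcl_pull_tensor N.2 (good_O h K hd))
  | neg N hN => simp only [map_neg, QuotientAddGroup.mk_neg, hN, neg_mul]
  | add a b ha hb => simp only [map_add, QuotientAddGroup.mk_add, ha, hb, add_mul]

/-- The twists are independent. -/
theorem eq_zero_of_sum (h : IsPB π W n) (K : KosData π W n) (a : Fin (n + 1) → SGA6.Kvb T)
    (ha : ∑ i : Fin (n + 1), pullHom π (a i) * xi W (-((i : ℕ) : ℤ)) = 0) : a = 0 := by
  choose z hz using fun i => QuotientAddGroup.mk_surjective (a i)
  have hrel : ∑ i : Fin (n + 1), genTw π W i (z i) ∈ KZero.relSub (ExtFil4.VB P) := by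
    rw [← QuotientAddGroup.eq_zero_iff, ← ha]
    exact (map_sum (QuotientAddGroup.mk' (KZero.relSub (ExtFil4.VB P))) (fun i : Fin (n + 1) => genTw π W i (z i))
      Finset.univ).trans
      (Finset.sum_congr rfl fun i _ => (mk_genTw i (z i)).trans (by rw [hz i]))
  obtain ⟨N, hN⟩ := exists_pushTw_eq_zero h hrel
  let f : ℤ → SGA6.Kvb T := fun d => ∑ i : Fin (n + 1), a i * hcl π W (d - ((i : ℕ) : ℤ))
  have hlarge : ∀ d : ℤ, (N : ℤ) ≤ d → f d = 0 := fun d hd => by
    rw [← hN d hd, map_sum]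
    exact Finset.sum_congr rfl fun i _ => by rw [pushTw_genTw h K i (by have := i.2; omega), hz i]
  have hstep : ∀ d : ℤ, (n : ℤ) + 1 ≤ d → ∑ p ∈ Finset.range (n + 2), ((-1 : ℤ) ^ p) • (cl (K.L p) * f (d - p)) = 0 :=
    fun d hd => by
      simp only [f, Finset.mul_sum, Finset.smul_sum]
      rw [Finset.sum_comm]
      refine Finset.sum_eq_zero fun i _ => ?_
      have := congrArg (fun x => a i * x) (hcl_rel h K (e := d - ((i : ℕ) : ℤ)) (by have := i.2; omega))
      simp only [mul_zero, Finset.mul_sum, mul_smul_comm] at this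
      refine Eq.trans (Finset.sum_congr rfl fun p _ => ?_) this
      rw [mul_left_comm, show d - (p : ℤ) - ((i : ℕ) : ℤ) = d - ((i : ℕ) : ℤ) - (p : ℤ) by ring]
  have hall : ∀ y : ℤ, 0 ≤ y → f y = 0 := by
    suffices H : ∀ (k : ℕ) (y : ℤ), 0 ≤ y → (N : ℤ) - y ≤ k → f y = 0 from fun y hy =>
      H ((N : ℤ) - y).toNat y hy (Int.self_le_toNat _)
    intro k
    induction k with
    | zero => exact fun y _ hk => hlarge y (by omega)
    | succ k ih =>
      intro y hy hk
      have h1 := hstep (y + ((n : ℤ) + 1)) (by omega)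
      rw [Finset.sum_range_succ, Finset.sum_eq_zero fun p hp => by
        have hp' : p ≤ n := by simp only [Finset.mem_range] at hp; omega
        rw [ih _ (by omega) (by omega), mul_zero, smul_zero], zero_add] at h1
      rw [show y + ((n : ℤ) + 1) - ((n + 1 : ℕ) : ℤ) = y by push_cast; ring] at h1
      have h2 := congrArg (fun x => ((-1 : ℤ) ^ (n + 1)) • x) h1
      rw [smul_smul, ← pow_add, ← two_mul, pow_mul, neg_one_sq, one_pow, one_smul, smul_zero] at h2
      exact (isUnit_cl_inv K.top).mul_right_eq_zero.1 h2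
  funext i
  obtain ⟨i, hi⟩ := i
  induction i using Nat.strong_induction_on with
  | _ i ih =>
    have hf := hall (i : ℤ) (by omega)
    simp only [f] at hf
    rw [Finset.sum_eq_single (⟨i, hi⟩ : Fin (n + 1))] at hf
    · simpa [hcl_zero h K] using hf
    · intro j _ hj
      rcases Nat.lt_or_ge (j : ℕ) i with hlt | hge
      · rw [ih j hlt j.2, Pi.zero_apply, zero_mul]
      · have hne : (j : ℕ) ≠ i := fun he => hj (Fin.ext he)
        rw [hcl_neg h (by have := j.2; omega) (by omega), mul_zero]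
    · exact fun hm => absurd (Finset.mem_univ _) hm

/-- The projective bundle theorem. -/
theorem bijective (h : IsPB π W n) (K : KosData π W n) :
    Function.Bijective (fun a : Fin (n + 1) → SGA6.Kvb T =>
      ∑ i : Fin (n + 1), pullHom π (a i) * xi W (-((i : ℕ) : ℤ))) := by
  refine ⟨fun a b hab => sub_eq_zero.1 (eq_zero_of_sum h K (a - b) ?_), mem_spanTw K h⟩
  simp only [Pi.sub_apply, map_sub, sub_mul, Finset.sum_sub_distrib, sub_eq_zero]
  exact hab

end Groth.Agent.PBK5
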