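import Groth.Agent.Lib.PBK5.Free
import Groth.Agent.Lib.GlobFun18.Sch
import Groth.Agent.Lib.Cyc26.SplitBase

/-! Projective bundles over connected bases are connected. -/

set_option autoImplicit false
set_option linter.style.haveILetI false
set_option backward.isDefEq.respectTransparency false
set_option backward.isDefEq.respectTransparency.types false

universe u

open CategoryTheory AlgebraicGeometry TopologicalSpace Opposite

namespace Groth.Agent.PBK5

theorem preconnectedSpace_of_idem (W : Scheme.{u}) (hid : ∀ e : Γ(W, ⊤), e * e = e → e = 0 ∨ e = 1) :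
    PreconnectedSpace W := by
  classical
  refine preconnectedSpace_iff_clopen.2 fun s hs => ?_
  let U : ULift.{u} Bool → W.Opens := fun b => if b.down then ⟨s, hs.isOpen⟩ else ⟨sᶜ, hs.compl.isOpen⟩
  let sf : ∀ b, Γ(W, U b) := fun b => if b.down then 1 else 0
  have hcover : (⊤ : W.Opens) ≤ iSup U := fun z _ => by
    rw [Opens.mem_iSup]
    by_cases hz : z ∈ s
    · exact ⟨⟨true⟩, hz⟩
    · exact ⟨⟨false⟩, hz⟩
  have hcompat : TopCat.Presheaf.IsCompatible W.sheaf.obj U sf := by
    intro b b'
    by_cases hbb : b = b'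
    · subst hbb; rfl
    · have hbot : U b ⊓ U b' = ⊥ := by
        ext z
        obtain ⟨b⟩ := b; obtain ⟨b'⟩ := b'
        cases b <;> cases b' <;> simp_all [U]
      haveI : Subsingleton Γ(W, U b ⊓ U b') := by rw [hbot]; infer_instance
      exact @Subsingleton.elim Γ(W, U b ⊓ U b') _ _ _
  obtain ⟨e', he, huniq⟩ := W.sheaf.existsUnique_gluing' U ⊤ (fun b => homOfLE le_top) hcover sf hcompat
  obtain ⟨e, rfl⟩ : ∃ e : Γ(W, ⊤), e = e' := ⟨e', rfl⟩
  have hr : ∀ b, (W.presheaf.map (homOfLE (le_top : U b ≤ ⊤)).op).hom e = sf b := he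
  have hee : e * e = e := huniq _ fun b => by
    show (W.presheaf.map (homOfLE (le_top : U b ≤ ⊤)).op).hom (e * e) = sf b
    rw [map_mul, hr]
    obtain ⟨b⟩ := b
    cases b <;> simp [sf]
  have key : ∀ b, U b ≠ ⊥ → (W.presheaf.map (homOfLE (le_top : U b ≤ ⊤)).op).hom e = sf b ∧
      Nontrivial Γ(W, U b) := fun b hb => by
    refine ⟨hr b, ?_⟩
    obtain ⟨z, hz⟩ : (U b : Set W).Nonempty := by
      rw [Set.nonempty_iff_ne_empty]; exact fun h => hb (Opens.ext h)
    exact RingHom.domain_nontrivial (W.presheaf.germ (U b) z hz).hom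
  rcases hid e hee with h0 | h1
  · left
    by_contra hne
    obtain ⟨h, hnt⟩ := key ⟨true⟩ (fun hb => hne (congrArg (fun O : W.Opens => (O : Set W)) hb))
    rw [h0, map_zero] at h
    exact zero_ne_one h
  · right
    by_contra hne
    obtain ⟨h, hnt⟩ := key ⟨false⟩ (fun hb => hne (Set.compl_empty_iff.1
      (congrArg (fun O : W.Opens => (O : Set W)) hb)))
    rw [h1, map_one] at h
    exact one_ne_zero h

/-- Sections of the bundle are those of the base. -/
theorem IsPB.bijective_app {T P : Scheme.{u}} {π : P ⟶ T} {W : Tw P} {n : ℕ} (h : IsPB π W n) (V : T.Opens) :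
    Function.Bijective (π.app V) := by
  refine AffGrp19.bijective_app_of_isBasis π (J := {U : T.Opens // Function.Bijective (π.app U)})
    Subtype.val ?_ (fun U => U.2) V
  refine Opens.isBasis_iff_nbhd.2 fun {U x} hx => ?_
  obtain ⟨U', hle, hx', hc⟩ := h x U hx
  exact ⟨U', ⟨⟨U', hc.secs⟩, rfl⟩, hx', hle⟩

theorem IsPB.connectedSpace {T P : Scheme.{u}} {π : P ⟶ T} {W : Tw P} {n : ℕ} (h : IsPB π W n)
    [ConnectedSpace T] : ConnectedSpace P := by
  have hb : Function.Bijective π.appTop := h.bijective_app ⊤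
  haveI : PreconnectedSpace P := preconnectedSpace_of_idem P fun e he => by
    obtain ⟨e', rfl⟩ := hb.2 e
    have : e' * e' = e' := hb.1 (by rw [map_mul]; exact he)
    rcases GlobFun18.idem_eq_zero_or_one (X := T) (e := e') this with rfl | rfl
    · exact Or.inl (map_zero _)
    · exact Or.inr (map_one _)
  haveI : Nonempty P := by
    by_contra hP
    rw [not_nonempty_iff] at hP
    obtain ⟨t⟩ := (inferInstance : Nonempty T)
    haveI : Subsingleton Γ(P, ⊤) := by
      have : (⊤ : P.Opens) = ⊥ := Opens.ext (Set.eq_empty_of_isEmpty _)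
      rw [this]; infer_instance
    haveI : Subsingleton Γ(T, ⊤) := hb.1.subsingleton
    haveI := RingHom.domain_nontrivial (T.presheaf.germ ⊤ t trivial).hom
    exact not_nontrivial Γ(T, ⊤) inferInstance
  exact { toNonempty := inferInstance }

end Groth.Agent.PBK5
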