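import Groth.Agent.Lib.PBundle2.Chart
import Groth.Agent.Lib.VeryAmple11.Ample
import Groth.Agent.Lib.AmpleFib.PnVA
import Groth.Agent.Lib.ProjSpace.Basic
import Groth.Agent.Lib.CBC10.RpushTilde
import Groth.Agent.S3572

/-! Over an affine open with free module a projective bundle is projective space. -/

set_option autoImplicit false
set_option linter.style.haveILetI false
set_option backward.isDefEq.respectTransparency false
set_option backward.isDefEq.respectTransparency.types false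
set_option maxHeartbeats 1000000

universe u

open CategoryTheory Limits AlgebraicGeometry TopologicalSpace Opposite

noncomputable section

namespace Groth.Agent.PBK5

open Groth.Agent.M1 (mres ores)

variable {X P : Scheme.{u}} {E : X.Modules} {π : P ⟶ X} {O1 : P.Modules}
  {q : (Scheme.Modules.pullback π).obj E ⟶ O1} {U : X.Opens} {n : ℕ}

/-- The preimage over `Spec Γ(X, U)`. -/
abbrev toSpecU (π : P ⟶ X) (hU : IsAffineOpen U) :
    (π ⁻¹ᵁ U : P.Opens).toScheme ⟶ Spec (CommRingCat.of Γ(X, U)) := π ∣_ U ≫ hU.isoSpec.hom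

theorem toGlobal_toSpecU (π : P ⟶ X) (hU : IsAffineOpen U) (c : Γ(X, U)) :
    ProjUP.toGlobal (toSpecU π hU) c = (π ⁻¹ᵁ U).topIso.inv (π.app U c) := by
  have h1 : hU.isoSpec.hom.appTop ((Scheme.ΓSpecIso (CommRingCat.of Γ(X, U))).inv c) = U.topIso.inv c := by
    rw [IsAffineOpen.isoSpec_hom_appTop]
    show X.presheaf.map _ ((Scheme.ΓSpecIso Γ(X, U)).hom ((Scheme.ΓSpecIso Γ(X, U)).inv c)) = _
    rw [← CommRingCat.comp_apply (Scheme.ΓSpecIso Γ(X, U)).inv, Iso.inv_hom_id]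
    rfl
  show (π ∣_ U ≫ hU.isoSpec.hom).appTop _ = _
  rw [Scheme.Hom.comp_appTop, ConcreteCategory.comp_apply, h1]
  have h2 := ConcreteCategory.congr_hom (morphismRestrict_appTop π U) (U.topIso.inv c)
  refine h2.trans ?_
  simp only [Scheme.Hom.app_eq_appLE, Scheme.Opens.topIso_inv, ← ConcreteCategory.comp_apply]
  refine ConcreteCategory.congr_hom ?_ c
  simp [Scheme.Hom.appLE_map, Scheme.Hom.map_appLE]

theorem restrictApp_mres {W₀ : P.Opens} (s : Γ(O1, W₀)) (V : (W₀ : Scheme.{u}).Opens) :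
    (O1.restrictAppIso W₀.ι V).hom (mres (O1.restrict W₀.ι) (le_top : V ≤ ⊤)
      (show Γ(O1.restrict W₀.ι, ⊤) from mres O1 (le_of_eq (Scheme.Opens.ι_image_top W₀)) s)) =
      mres O1 (W₀.ι_image_le V) s :=
  M1.mres_mres O1 (le_of_eq (Scheme.Opens.ι_image_top W₀)) (W₀.ι.image_mono (le_top : V ≤ ⊤)) s

variable (hP : KRR.IsProjBundle π E O1 q) (hE : Coh.IsQCoh E) (hU : IsAffineOpen U)
  (b : Module.Basis (Fin (n + 1)) Γ(X, U) Γ(E, U))

/-- The coordinate sections on the preimage. -/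
def csec (k : Fin (n + 1)) : ProjUP.Γm (O1.restrict (π ⁻¹ᵁ U).ι) :=
  mres O1 (le_of_eq (Scheme.Opens.ι_image_top (π ⁻¹ᵁ U))) (PBundle2.sg q (b k))

theorem gl_csec (k : Fin (n + 1)) :
    VA11.gl (csec (q := q) b k : Γ(O1.restrict (π ⁻¹ᵁ U).ι, ⊤)) =
      (π ⁻¹ᵁ U).ι ⁻¹ᵁ VA11.gl (PBundle2.sg q (b k)) :=
  VA11.gl_restrict _ _ rfl

include hP hE hU b in
/-- Over `U` the bundle is projective space, `O(1)` matching. -/
theorem exists_chart_iso :
    ∃ φ : (π ⁻¹ᵁ U : P.Opens).toScheme ≅ CohB1.ProjSpace n Γ(X, U),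
      φ.hom ≫ CohB1.ProjSpace.toSpec n Γ(X, U) = toSpecU π hU ∧
      Nonempty ((Scheme.Modules.pullback φ.hom).obj (_root_.Twist.twistProjSpace n Γ(X, U) 1) ≅
        O1.restrict (π ⁻¹ᵁ U).ι) := by
  let R := Γ(X, U)
  let Z : Scheme.{u} := (π ⁻¹ᵁ U : P.Opens)
  let L : Z.Modules := O1.restrict (π ⁻¹ᵁ U).ι
  have hO := PBundle2.invertible q hP
  have hL : PicF.IsInvertible L := M2.isInvertible_restrict hO _
  have hgen : ProjUP.GeneratedBy L (csec (q := q) b) := fun z => by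
    obtain ⟨k, hk⟩ := PBundle2.exists_mem_gl hP hE hU b z.2
    have hk' : z ∈ VA11.gl (csec (q := q) b k : Γ(L, ⊤)) := by rw [gl_csec]; exact hk
    rw [VA11.mem_gl_iff hL (Opens.mem_top z)] at hk'
    refine eq_top_iff.2 fun a _ => ?_
    obtain ⟨c, rfl⟩ := hk'.2 a
    exact Submodule.smul_mem _ c (Submodule.subset_span ⟨k, rfl⟩)
  obtain ⟨r, hr, τ, hτ⟩ := S3572.result n (toSpecU π hU) L hL (csec (q := q) b) hgen
  let 𝒜 := CohB1.polyGrading n R
  have hcs : ∀ i, AmpleFib.coordSec r τ i = csec (q := q) b i := fun i => hτ i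
  have hX : ∀ i, (MvPolynomial.X i : MvPolynomial (Fin (n + 1)) R) ∈ 𝒜 1 := AmpleFib.X_mem_one
  let D : Fin (n + 1) → (CohB1.ProjSpace n R).Opens := fun i => Proj.basicOpen 𝒜 (MvPolynomial.X i)
  suffices hiso : IsIso r from ⟨asIso r, hr, ⟨τ⟩⟩
  refine (IsZariskiLocalAtTarget.iff_of_iSup_eq_top (P := MorphismProperty.isomorphisms Scheme.{u}) D
    (ProjSpace.iSup_basicOpen n R)).2 fun k => ?_
  have hD : IsAffineOpen (D k) := Proj.isAffineOpen_basicOpen 𝒜 _ (hX k) one_pos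
  let G := VA11.gl (csec (q := q) b k : Γ(L, ⊤))
  have hpre : r ⁻¹ᵁ D k = G := by
    rw [← AmpleFib.gl_coordSec r τ hL k, hcs]
  have hchart := PBundle2.chart hP hE hU b k
  let W := VA11.gl (PBundle2.sg q (b k))
  have hWle : W ≤ π ⁻¹ᵁ U := PBundle2.gl_le_preimage b k
  have hG : G = (π ⁻¹ᵁ U).ι ⁻¹ᵁ W := gl_csec b k
  have hGim : (π ⁻¹ᵁ U).ι ''ᵁ G = W := by
    rw [hG, Scheme.Hom.image_preimage_eq_opensRange_inf, Scheme.Opens.opensRange_ι]
    exact inf_eq_right.2 hWle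
  have hGa : IsAffineOpen G := by
    rw [← Scheme.Hom.isAffineOpen_iff_of_isOpenImmersion (π ⁻¹ᵁ U).ι, hGim]
    exact hchart.1
  -- the dehomogenised coordinates generate the functions on the standard chart
  let e₀ : MvPolynomial (Fin (n + 1)) R →+* Γ(CohB1.ProjSpace n R, D k) :=
    (Proj.awayToSection 𝒜 (MvPolynomial.X k)).hom.comp (EGA2.dehom 𝒜 (hX k))
  let ψ : MvPolynomial (Fin n) R →+* Γ(CohB1.ProjSpace n R, D k) :=
    MvPolynomial.eval₂Hom (e₀.comp MvPolynomial.C) fun i => e₀ (MvPolynomial.X (k.succAbove i))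
  have he₀ : Function.Surjective e₀ := by
    intro z
    haveI : IsIso (Proj.awayToSection 𝒜 (MvPolynomial.X k : MvPolynomial (Fin (n + 1)) R)) := by
      rw [← Proj.basicOpenIsoAway_hom 𝒜 _ (hX k) Nat.one_pos]; infer_instance
    obtain ⟨w, hw⟩ := (ConcreteCategory.bijective_of_isIso
      (Proj.awayToSection 𝒜 (MvPolynomial.X k : MvPolynomial (Fin (n + 1)) R))).2 z
    obtain ⟨a, rfl⟩ := EGA2.dehom_surjective 𝒜 (hX k) w
    exact ⟨a, hw⟩
  have hψ : Function.Surjective ψ := by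
    let sub : MvPolynomial (Fin (n + 1)) R →+* MvPolynomial (Fin n) R :=
      MvPolynomial.eval₂Hom MvPolynomial.C (Fin.insertNth (α := fun _ => MvPolynomial (Fin n) R) k 1 MvPolynomial.X)
    have hsub : ψ.comp sub = e₀ := by
      refine MvPolynomial.ringHom_ext (fun c => ?_) fun i => ?_
      · simp [ψ, sub]
      · rcases Fin.eq_self_or_eq_succAbove k i with hk | ⟨j, rfl⟩
        · subst i
          simp only [ψ, sub, RingHom.comp_apply, MvPolynomial.eval₂Hom_X', Fin.insertNth_apply_same, map_one]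
          exact ((congrArg (Proj.awayToSection 𝒜 (MvPolynomial.X k)).hom (EGA2.dehom_self 𝒜 (hX k))).trans (map_one (Proj.awayToSection 𝒜 (MvPolynomial.X k)).hom)).symm
        · simp [ψ, sub]
    intro z
    obtain ⟨a, rfl⟩ := he₀ z
    exact ⟨sub a, (RingHom.congr_fun hsub a)⟩
  -- the composite with the pullback is the chart
  let iso : Γ(P, W) →+* Γ(Z, G) := ((π ⁻¹ᵁ U).ι.appLE W G hG.le).hom
  have hiso : Function.Bijective iso := by
    have e : (π ⁻¹ᵁ U).ι.appLE W G hG.le = P.presheaf.map (eqToHom hGim).op := by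
      rw [Scheme.Opens.ι_appLE]
      rfl
    show Function.Bijective ((π ⁻¹ᵁ U).ι.appLE W G hG.le)
    rw [e]
    exact ConcreteCategory.bijective_of_isIso _
  have hcomp : (r.appLE (D k) G hpre.ge).hom.comp ψ = iso.comp (PBundle2.chartHom (q := q) b k) := by
    have hev : ∀ a, r.appLE (D k) G hpre.ge (e₀ a) = ProjUP.ev 𝒜 (hX k) r G hpre.ge a := fun a => by
      rfl
    refine MvPolynomial.ringHom_ext (fun c => ?_) fun i => ?_
    · rw [RingHom.comp_apply, RingHom.comp_apply, PBundle2.chartHom, MvPolynomial.eval₂Hom_C,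
        MvPolynomial.eval₂Hom_C, RingHom.comp_apply, hev]
      refine (ProjUP.ev_algebraMap 𝒜 (hX k) r G hpre.ge c).trans ?_
      have h1 : (r ≫ ProjUP.toBase 𝒜).appTop ((Scheme.ΓSpecIso (CommRingCat.of R)).inv c) =
          ProjUP.toGlobal (toSpecU π hU) c :=
        congrArg (fun h : Z ⟶ Spec (CommRingCat.of R) => h.appTop ((Scheme.ΓSpecIso (CommRingCat.of R)).inv c)) hr
      rw [h1, toGlobal_toSpecU]
      show _ = ((π ⁻¹ᵁ U).ι.appLE W G hG.le) (π.appLE U W hWle c)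
      simp only [Scheme.Hom.app_eq_appLE, ← ConcreteCategory.comp_apply, Scheme.Opens.ι_appLE,
        Scheme.Opens.topIso_inv]
      refine ConcreteCategory.congr_hom ?_ c
      simp [Scheme.Hom.appLE_map]
    · rw [RingHom.comp_apply, RingHom.comp_apply, PBundle2.chartHom, MvPolynomial.eval₂Hom_X',
        MvPolynomial.eval₂Hom_X', hev]
      have hG' := VA11.isGen_gl (csec (q := q) b k : Γ(L, ⊤))
      have hres : ∀ z, τ.hom.app G (mres _ (le_top : G ≤ ⊤) z) = mres L le_top (τ.hom.app ⊤ z) :=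
        fun z => M1.app_mres τ.hom le_top z
      have h1 : mres L (le_top : G ≤ ⊤) (csec (q := q) b (k.succAbove i)) =
          ProjUP.ev 𝒜 (hX k) r G hpre.ge (MvPolynomial.X (k.succAbove i)) •
            mres L (le_top : G ≤ ⊤) (csec (q := q) b k) :=
        (congrArg (mres L (le_top : G ≤ ⊤)) (hτ (k.succAbove i))).symm.trans ((hres _).symm.trans
          (((congrArg (τ.hom.app G) (ProjUP.sec_eq_ev_smul 𝒜 r (hX k) (hX (k.succAbove i)) G hpre.ge)).trans
            (Scheme.Modules.Hom.app_smul τ.hom _ _)).trans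
              (congrArg (_ • ·) ((hres _).trans (congrArg (mres L (le_top : G ≤ ⊤)) (hτ k))))))
      refine (VA11.ores_cf_eq (L := L) le_rfl h1.symm).symm.trans ?_
      rw [M1.ores_id]
      symm
      refine VA11.ores_eq_cf ?_
      have h2 := congrArg (mres O1 (show (π ⁻¹ᵁ U).ι ''ᵁ G ≤ W from hGim.le))
        (VA11.cf_smul (PBundle2.sg q (b k)) (PBundle2.sg q (b (k.succAbove i))))
      rw [M1.mres_smul, M1.mres_mres, M1.mres_mres] at h2
      show ((π ⁻¹ᵁ U).ι.appLE W G hG.le (VA11.cf _ _)) • mres L (le_top : G ≤ ⊤) (csec (q := q) b k) =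
        mres L (le_top : G ≤ ⊤) (csec (q := q) b (k.succAbove i))
      refine (M1.restrict_ι_smul O1 (show Γ(P, (π ⁻¹ᵁ U).ι ''ᵁ G) from (π ⁻¹ᵁ U).ι.appLE W G hG.le (VA11.cf _ _)) _).trans ?_
      rw [Scheme.Opens.ι_appLE]
      refine Eq.trans (congrArg (_ • ·) (restrictApp_mres (PBundle2.sg q (b k)) G)) ?_
      refine Eq.trans ?_ (restrictApp_mres (PBundle2.sg q (b (k.succAbove i))) G).symm
      exact h2
  have hbij : Function.Bijective (r.appLE (D k) G hpre.ge) := by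
    have hb : Function.Bijective ((r.appLE (D k) G hpre.ge).hom ∘ ψ) := by
      rw [← RingHom.coe_comp, hcomp, RingHom.coe_comp]
      exact hiso.comp hchart.2
    refine ⟨fun a a' h => ?_, fun z => ?_⟩
    · obtain ⟨p, rfl⟩ := hψ a
      obtain ⟨p', rfl⟩ := hψ a'
      exact congrArg ψ (hb.1 h)
    · obtain ⟨p, hp⟩ := hb.2 z
      exact ⟨ψ p, hp⟩
  show IsIso (r ∣_ D k)
  haveI : IsAffine (D k : Scheme.{u}) := hD
  haveI : IsAffine (r ⁻¹ᵁ D k : Scheme.{u}) := by rw [hpre]; exact hGa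
  have happ : IsIso (r ∣_ D k).appTop := by
    rw [morphismRestrict_appTop, Scheme.Hom.app_eq_appLE, Scheme.Hom.appLE_map]
    have key : ∀ (U₀ : (CohB1.ProjSpace n R).Opens) (V₀ : Z.Opens) (h₀ : V₀ ≤ r ⁻¹ᵁ U₀),
        U₀ = D k → V₀ = G → IsIso (r.appLE U₀ V₀ h₀) := by
      rintro U₀ V₀ h₀ rfl rfl
      exact (ConcreteCategory.isIso_iff_bijective _).2 hbij
    exact key _ _ _ (Scheme.Opens.ι_image_top _) ((Scheme.Opens.ι_image_top _).trans hpre)
  have hfac : r ∣_ D k = (r ⁻¹ᵁ D k : Scheme.{u}).isoSpec.hom ≫ Spec.map (r ∣_ D k).appTop ≫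
      (D k : Scheme.{u}).isoSpec.inv := by
    rw [Scheme.isoSpec_hom_naturality_assoc, Iso.hom_inv_id, Category.comp_id]
  rw [hfac]
  infer_instance

end Groth.Agent.PBK5
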