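import Groth.Agent.Lib.PBK5.Reg
import Groth.Agent.Lib.CMReg18.PushKvb
import Groth.Agent.Lib.CMReg18.KRRPush
import Groth.Agent.Lib.ModM1.Push
import Groth.Agent.Lib.DPerf.RelAmp

/-! Large twists of bundles are regular with locally free direct image. -/

set_option autoImplicit false
set_option linter.style.haveILetI false
set_option backward.isDefEq.respectTransparency false
set_option backward.isDefEq.respectTransparency.types false
set_option maxHeartbeats 800000

universe u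

open CategoryTheory Limits AlgebraicGeometry TopologicalSpace Opposite

noncomputable section

namespace Groth.Agent.PBK5

open Groth.Agent.CMReg18

variable {T P : Scheme.{u}} {π : P ⟶ T} {W : Tw P} {n : ℕ}

/-- Vanishing on a whole affine base. -/
theorem subsingleton_HH_of_rpush {Z S : Scheme.{u}} [IsAffine S] (f : Z ⟶ S) [QuasiCompact f]
    [QuasiSeparated f] {G : Z.Modules} (hG : Coh.IsQCoh G) {p : ℕ}
    (h : IsZero ((Coh.RpushAb f p).obj (Coh.toAb G))) : Subsingleton (Coh.HH Z G p) := by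
  have h0 := (isZero_rpushAb_iff_affine f hG p).1 h ⊤ (isAffineOpen_top S)
  obtain ⟨e⟩ := CohFound.nonempty_hc_abF_restrict (f ⁻¹ᵁ ⊤).ι G p ⊤
  rw [Scheme.Opens.ι_image_top] at e
  refine (CohFound.subsingleton_HH_iff _ _).2 ?_
  exact @Equiv.subsingleton _ _ e.symm.toEquiv ((CohFound.subsingleton_HH_iff _ _).1 h0)

/-- On one chart. -/
theorem ChartAt.exists_large {U : T.Opens} (hc : ChartAt π W n U) {M : P.Modules}
    (hM : FlatMod.IsFinLocFree M) :
    ∃ N : ℕ, ∀ x : ℤ, (N : ℤ) ≤ x →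
      (∀ i : ℕ, 1 ≤ i → Subsingleton (Coh.HH (π ⁻¹ᵁ U : P.Opens).toScheme
        ((W.tw (W.tw M x) (-(i : ℤ))).restrict (π ⁻¹ᵁ U).ι) i)) ∧
      FlatMod.IsFinLocFree (((Scheme.Modules.pushforward π).obj (W.tw M x)).restrict U.ι) := by
  obtain ⟨D, -, hO, hA⟩ := hc.data
  let Z : Scheme.{u} := (π ⁻¹ᵁ U : P.Opens)
  let f : Z ⟶ (U : Scheme.{u}) := π ∣_ U
  haveI : IsAffine (U : Scheme.{u}) := hc.affine
  haveI : CompactSpace (U : Scheme.{u}) := inferInstance
  haveI : IsProper f := hc.proper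
  haveI : LocallyOfFinitePresentation f := hc.lfp
  haveI : Flat f := hc.flat
  letI := CBC10.overU π hc.affine
  let F := M.restrict (π ⁻¹ᵁ U).ι
  have hFv : FlatMod.IsFinLocFree F :=
    M2.isFinLocFree_of_iso ((Scheme.Modules.restrictFunctorIsoPullback _).app M).symm (M2.isFinLocFree_pullback _ hM)
  have hF : CohB1.IsFP F := M1.isFP_of_isFinLocFree hFv
  have hfl : FlatMod.IsFlatOver f F := DPerf.isFlatOver_of_isFlat _ (KFlat.Sch.isFlat_of_isFinLocFree hFv)
  obtain ⟨N, hN⟩ := exists_forall_vanishing (f := f) hF hfl D ((RA.isRelAmple_iff_isAmple f).2 hA)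
  have hfp : ∀ x, CohB1.IsFP (D.tw F x) := fun x => isFP_tensor_inv hF (D.inv x)
  have hflx : ∀ x, FlatMod.IsFlatOver f (D.tw F x) := fun x => FlatTwist13.isFlatOver_tensor _ hfl (D.inv x)
  refine ⟨N + n, fun x hx => ⟨fun i hi => ?_, ?_⟩⟩
  · have e : (W.tw (W.tw M x) (-(i : ℤ))).restrict (π ⁻¹ᵁ U).ι ≅ D.tw F (x + -(i : ℤ)) :=
      (Scheme.Modules.restrictFunctor _).mapIso (W.twTwist M _ _) ≪≫ chartTwIso D hO M _
    refine van_iso Γ(T, U) e.symm ?_
    by_cases hin : i ≤ n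
    · exact subsingleton_HH_of_rpush f (M1.isFP_isQCoh (hfp _))
        (isZero_rpushAb_of_fibres (f := f) (hfp _) (hflx _) i fun s => hN s _ (by omega) i hi)
    · exact hc.cohDim _ (M1.isFP_isQCoh (hfp _)) i (by omega)
  · have h1 := (isFinLocFree_push_of_vanishing (f := f) (hfp x) (hflx x) fun s p hp => hN s x (by omega) p hp).1
    exact M2.isFinLocFree_of_iso ((M1.pushRestrictIso (isPullback_morphismRestrict π U) (W.tw M x)) ≪≫
      (Scheme.Modules.pushforward f).mapIso (chartTwIso D hO M x)).symm h1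

/-- Large twists are regular and push forward to bundles. -/
theorem IsPB.exists_large (h : IsPB π W n) [CompactSpace T] {M : P.Modules} (hM : FlatMod.IsFinLocFree M) :
    ∃ N : ℕ, ∀ x : ℤ, (N : ℤ) ≤ x → Reg π W (W.tw M x) ∧
      FlatMod.IsFinLocFree ((Scheme.Modules.pushforward π).obj (W.tw M x)) := by
  classical
  choose U hUV htU hU using fun t : T => h t ⊤ trivial
  obtain ⟨s, hs⟩ := isCompact_univ.elim_finite_subcover (fun t => (U t : Set T)) (fun t => (U t).isOpen)
    fun t _ => Set.mem_iUnion.2 ⟨t, htU t⟩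
  choose N hN using fun t => (hU t).exists_large hM
  have hmem : ∀ y : T, ∃ t ∈ s, y ∈ U t := fun y => by
    obtain ⟨t, ht, hy⟩ := Set.mem_iUnion₂.1 (hs (Set.mem_univ y))
    exact ⟨t, ht, hy⟩
  choose c hcs hc using hmem
  have hle : ∀ y, ∀ x : ℤ, ((s.sup N : ℕ) : ℤ) ≤ x → (N (c y) : ℤ) ≤ x := fun y x hx =>
    le_trans (Int.ofNat_le.2 (Finset.le_sup (hcs y))) hx
  haveI := h.isProper
  refine ⟨s.sup N, fun x hx => ⟨fun i hi => ?_, ?_⟩⟩
  · exact CohFound.isZero_rpushAb_of_cover π _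
      (isQCoh_tw (isQCoh_tw (M1.isFP_isQCoh (M1.isFP_of_isFinLocFree hM)) _) _) (fun y => U (c y))
      (fun y => (hU _).affine) (fun y => ⟨y, hc y⟩) i
      fun y => (CohFound.subsingleton_HH_iff _ _).1 ((hN (c y) x (hle y x hx)).1 i hi)
  · refine DPerf.isFinLocFree_of_locally fun y => ⟨(U (c y)).toScheme, (U (c y)).ι, inferInstance, ?_,
      (hN (c y) x (hle y x hx)).2⟩
    rw [Scheme.Opens.range_ι]
    exact hc y

end Groth.Agent.PBK5
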