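import Groth.Agent.Lib.PBK5.PY
import Groth.Agent.Lib.Lambda.BottARR
import Groth.Agent.Lib.AmpleElt5.Main

/-! Adams Riemann-Roch for the projection of projective space. -/

set_option autoImplicit false
set_option linter.style.haveILetI false
set_option backward.isDefEq.respectTransparency false
set_option backward.isDefEq.respectTransparency.types false

universe v w u

open CategoryTheory Limits AlgebraicGeometry LambdaRing
open scoped TensorProduct

noncomputable section

namespace Groth.Agent.PBK5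

open Groth.Agent.ExtFil4 (cl)
open Groth.Agent.CMReg18 (overData)

attribute [local instance] ExtFil4.kvbRing

section Abstract

variable {A : Type v} {B : Type w} [CommRing A] [LambdaOps A] [CommRing B] [LambdaOps B]
  {PA : PosStructure A} {PB : PosStructure B}

theorem map_bott (f : A →+* B) (hl : ∀ n x, f (LambdaOps.lam n x) = LambdaOps.lam n (f x))
    (ha : ∀ x, PB.aug (f x) = PA.aug x) (j : ℕ) (x : A) : f (KRR.bott PA j x) = KRR.bott PB j (f x) := by
  rw [Lambda.bott_eq (P := PB) j (f x) (PA.aug x).toNat (by rw [ha]), KRR.bott, Lambda.aeval_int_comm]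
  exact Lambda.aeval_int_congr (fun i => hl _ _) _

theorem map_adams (f : A →+* B) (hl : ∀ n x, f (LambdaOps.lam n x) = LambdaOps.lam n (f x))
    {j : ℕ} (hj : 1 ≤ j) (x : A) : f (LambdaRing.adams PA j x) = LambdaRing.adams PB j (f x) := by
  rw [Lambda.adams_eq_adamsOp PA hj, Lambda.adams_eq_adamsOp PB hj, Lambda.adamsOp_map f hl]

end Abstract

section NatCast

variable {K : Type v} [CommRing K] [LambdaOps K] {P : PosStructure K}

theorem lam_natCast (P : PosStructure K) (m i : ℕ) : LambdaOps.lam i (m : K) = (m.choose i : ℕ) := by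
  rw [← Lambda.coeff_lamSeries, Lambda.lamSeries_natCast (Lambda.pos_lam_one P), ← Polynomial.coe_one,
    ← Polynomial.coe_X, ← Polynomial.coe_add, ← Polynomial.coe_pow, Polynomial.coeff_coe,
    Polynomial.coeff_one_add_X_pow]

theorem sigma_natCast (P : PosStructure K) (r i : ℕ) :
    KRR.sigma i ((r + 1 : ℕ) : K) = ((r + i).choose i : ℕ) := by
  have h1 : PowerSeries.rescale (-1 : K) (LambdaRing.lamSeries ((r + 1 : ℕ) : K)) = (1 - PowerSeries.X) ^ (r + 1) := by
    rw [Lambda.lamSeries_natCast (Lambda.pos_lam_one P), map_pow, map_add, map_one, PowerSeries.rescale_X,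
      map_neg, map_one, neg_one_mul, sub_eq_add_neg]
  have h2 : KRR.sigmaSeries ((r + 1 : ℕ) : K) = PowerSeries.mk fun n => ((r + n).choose r : K) := by
    have h0 : (PowerSeries.mk fun n => ((r + n).choose r : K)) * (1 - PowerSeries.X) ^ (r + 1) = 1 :=
      PowerSeries.mk_add_choose_mul_one_sub_pow_eq_one K r
    have h3 : (1 - PowerSeries.X : PowerSeries K) ^ (r + 1) * KRR.sigmaSeries ((r + 1 : ℕ) : K) = 1 := by
      rw [KRR.sigmaSeries, h1]
      exact PowerSeries.mul_invOfUnit _ _ (by simp)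
    exact (left_inv_eq_right_inv h0 h3).symm
  rw [KRR.sigma, h2, PowerSeries.coeff_mk, Nat.choose_symm_add]

theorem bott_natCast_mul_line (hK : HasSplitting K P) {u : K} (hu : P.IsLine u) (m j : ℕ) :
    KRR.bott P j ((m : K) * u) = (∑ k ∈ Finset.range j, u ^ k) ^ m := by
  let φ : MvPolynomial (Fin m) ℤ →+* K := MvPolynomial.eval₂Hom (Int.castRingHom _) fun _ => u
  have h := congrArg φ (Lambda.aeval_esymm_bottPoly j m)
  rw [Lambda.aeval_int_comm] at h
  rw [Lambda.bott_eq j _ m (by rw [map_mul, hu.2, map_natCast, mul_one, Int.toNat_natCast])]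
  refine (Lambda.aeval_int_congr (fun i => ?_) _).trans (h.trans ?_)
  · rw [Lambda.lam_mul_line (Lambda.isSpecial_of_hasSplitting hK) _ _ (Lambda.line_lam P hu), lam_natCast P,
      MvPolynomial.esymm, map_sum, Finset.sum_congr rfl fun t ht => (show φ (∏ a ∈ t, MvPolynomial.X a) = u ^ (i.1 + 1) by
        rw [map_prod]; simp [φ, (Finset.mem_powersetCard.1 ht).2])]
    simp
  · simp [φ, KRR.bottSym]

/-- The Bott class of a multiple of a unipotent line is invertible after inverting `j`. -/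
theorem isUnit_bott (hK : HasSplitting K P) {u : K} (hu : P.IsLine u) (hn : IsNilpotent (u - 1)) (m j : ℕ)
    (R : Type) [CommRing R] (hjR : IsUnit (j : R)) :
    IsUnit ((1 : R) ⊗ₜ[ℤ] KRR.bott P j ((m : K) * u)) := by
  let ι : K →+* R ⊗[ℤ] K := (Algebra.TensorProduct.includeRight : K →ₐ[ℤ] R ⊗[ℤ] K).toRingHom
  show IsUnit (ι _)
  rw [bott_natCast_mul_line hK hu, map_pow]
  refine IsUnit.pow _ ?_
  have h1 : ∑ k ∈ Finset.range j, u ^ k =
      (u - 1) * (∑ k ∈ Finset.range j, ∑ l ∈ Finset.range k, u ^ l) + (j : K) := by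
    rw [Finset.mul_sum, Finset.sum_congr rfl fun k _ => mul_geom_sum u k, Finset.sum_sub_distrib]
    simp
  rw [h1, map_add, map_natCast]
  have hju : IsUnit (j : R ⊗[ℤ] K) := by
    simpa using hjR.map (Algebra.TensorProduct.includeLeftRingHom : R →+* R ⊗[ℤ] K)
  exact IsNilpotent.isUnit_add_right_of_commute (((Commute.all _ _).isNilpotent_mul_right hn).map ι) hju
    (Commute.all _ _)

end NatCast

variable {n : ℕ} {Y : Scheme.{u}}

theorem isNilpotent_xi_neg_one_sub_one : IsNilpotent (xi (twPY n Y) (-1) - 1) := by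
  refine ⟨n + 1, ?_⟩
  have h : xi (twPY n Y) (-1) - 1 = -xi (twPY n Y) (-1) * (xi (twPY n Y) 1 - 1) := by
    rw [mul_sub, mul_one, neg_mul, xi_add, neg_add_cancel, xi_zero]; ring
  rw [h, mul_pow, xi_sub_one_pow, mul_zero]

variable {KY : Type v} [CommRing KY] [LambdaOps KY] {PY : PosStructure KY} {φY : SGA6.Kvb Y →+ KY}
  {KP : Type v} [CommRing KP] [LambdaOps KP] {PP : PosStructure KP} {φP : SGA6.Kvb (KRR.PY n Y) →+ KP}

theorem isLine_xi_neg_one (hP : KRR.IsModel (KRR.PY n Y) KP PP φP) : PP.IsLine (φP (xi (twPY n Y) (-1))) := by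
  have h1 := (M2.isInvertible_iff_isFinLocFreeOfRank_one _).1 ((twPY n Y).inv (-1))
  exact ⟨(hP.mem_pos_iff _).2 ⟨1, _, le_rfl, h1, rfl⟩, (hP.aug_cl 1 _ h1).trans Nat.cast_one⟩

/-- The class of the twisted trivial bundle. -/
theorem cl_twF_free (hY : KRR.IsModel Y KY PY φY) (hP : KRR.IsModel (KRR.PY n Y) KP PP φP) (m : ℕ) :
    φP (KRR.cl (KRR.PY n Y) (KRR.twF n Y (-1) ((Scheme.Modules.pullback (KRR.pr n Y)).obj (FlatMod.freeMod Y m)))) =
      (m : KP) * φP (xi (twPY n Y) (-1)) := by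
  have hf : FlatMod.IsFinLocFree (FlatMod.freeMod Y m) :=
    M2.isFinLocFree_of_ofRank (FormalH7.isFinLocFreeOfRank_freeMod Y m)
  obtain ⟨q, hq, -⟩ := CMReg18.existsUnique_isPull (KRR.pr n Y) φP hY.bijective
  have h1 : φP (KRR.cl _ ((Scheme.Modules.pullback (KRR.pr n Y)).obj (FlatMod.freeMod Y m))) = (m : KP) := by
    rw [← hq _ hf, AmpleElt5.cl_freeMod hY, ← pullRingHom_apply hY hP hq, map_natCast]
  rw [mul_comm, ← h1]
  exact (hP.map_mul _ _ (vb_O (W := twPY n Y) (-1)) (M2.isFinLocFree_pullback _ hf)).symm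

variable [CompactSpace Y]

theorem push_linear (hY : KRR.IsModel Y KY PY φY) (hP : KRR.IsModel (KRR.PY n Y) KP PP φP)
    {g : KP →+ KY} (hg : KRR.IsPushPr n Y φP φY g) {q : KY →+ KP} (hq : KRR.IsPull (KRR.pr n Y) φY φP q)
    (a : KY) (z : KP) : g (q a * z) = a * g z := by
  obtain ⟨b, rfl⟩ := hY.bijective.2 a
  obtain ⟨c, rfl⟩ := hP.bijective.2 z
  rw [isPull_apply hq]
  induction c using K0Cat.clSub_induction with
  | h0 => simp
  | hneg u hu => simp only [map_neg, mul_neg, hu]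
  | hadd u v hu hv => simp only [map_add, mul_add, hu, hv]
  | hcl M hM =>
    induction b using K0Cat.clSub_induction with
    | h0 => simp
    | hneg u hu => simp only [map_neg, neg_mul, hu]
    | hadd u v hu hv => simp only [map_add, add_mul, hu, hv]
    | hcl E hE =>
      rw [mul_comm (φP (pullHom _ _)), pullHom_cl _ hE, CMReg18.push_eq_kPush hg (KRR.cl _ M)]
      refine Eq.trans (congrArg g (hP.map_mul M _ hM (M2.isFinLocFree_pullback _ hE))) ?_
      rw [CMReg18.push_eq_kPush hg, mul_comm]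
      exact CMReg18.kPush_mul_pull hY hM hE

theorem push_xi_nat (hY : KRR.IsModel Y KY PY φY) {g : KP →+ KY} (hg : KRR.IsPushPr n Y φP φY g) (i : ℕ) :
    g (φP (xi (twPY n Y) (i : ℤ))) = ((n + i).choose i : ℕ) := by
  have h : xi (twPY n Y) (i : ℤ) = KRR.cl _ (KRR.twF n Y (i : ℤ) (Coh.structureModule (KRR.PY n Y))) :=
    (cl_congr (M2.tensorRUnit (Twist.twistOver n Y (i : ℤ))) (CMReg18.isFinLocFree_twF_unit (i : ℤ))).symm
  rw [CMReg18.push_eq_kPush hg, h, CMReg18.kPush_twF_unit (by omega), CMReg18.pushVb_twistOver_nat, map_nsmul,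
    hY.map_one, nsmul_one]

/-- Adams Riemann-Roch, in the large universe. -/
theorem adams_pushPr₁ [ConnectedSpace Y] {KY : Type (u + 1)} [CommRing KY] [LambdaOps KY] {PY : PosStructure KY}
    {φY : SGA6.Kvb Y →+ KY} {KP : Type (u + 1)} [CommRing KP] [LambdaOps KP] {PP : PosStructure KP}
    {φP : SGA6.Kvb (KRR.PY n Y) →+ KP}
    (hY : KRR.IsModel Y KY PY φY) (hP : KRR.IsModel (KRR.PY n Y) KP PP φP)
    {g : KP →+ KY} (hg : KRR.IsPushPr n Y φP φY g) (j : ℕ) (hj : 1 ≤ j)
    (R : Type) [CommRing R] [Module.Flat ℤ R] (hjR : IsUnit (j : R)) (aQ : R →+* ℚ)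
    (w : R ⊗[ℤ] KP) (hw : w * ((1 : R) ⊗ₜ[ℤ] KRR.bott PP j (((n + 1 : ℕ) : KP) * φP (xi (twPY n Y) (-1)))) = 1)
    (z : KP) :
    (1 : R) ⊗ₜ[ℤ] LambdaRing.adams PY j (g z) =
      LinearMap.lTensor R g.toIntLinearMap ((j : R ⊗[ℤ] KP) * ((1 : R) ⊗ₜ[ℤ] LambdaRing.adams PP j z) * w) := by
  haveI := connectedSpace_PY n Y
  haveI : CompactSpace (KRR.PY n Y) :=
    QuasiCompact.compactSpace_of_compactSpace (CohB1.ProjSpaceOver.toBase n Y)
  obtain ⟨q, hq, -⟩ := CMReg18.existsUnique_isPull (KRR.pr n Y) φP hY.bijective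
  have hr : PY.aug ((n + 1 : ℕ) : KY) = n + 1 := by rw [map_natCast]; push_cast; rfl
  obtain ⟨Φ, hΦof, hΦroot, hext, hline⟩ :=
    exists_elem hY hP hq hr (isLine_O1 hP) (bijective_PY hY hP hq) (eval_PY hY hP hq)
  let e : KY := ((n + 1 : ℕ) : KY)
  letI inst := pullOps Φ
  let PA := pullPos Φ PP
  have hsplit := hasSplitting (isModel_pull Φ hP)
  have hlin : ∀ (c : KY) (a : AdjoinRoot (KRR.extPoly PY e)), g (Φ (c • a)) = c * g (Φ a) := fun c a => by
    rw [← Lambda.of_mul_eq_smul (P := PY) (e := e), map_mul, hΦof, push_linear hY hP hg hq]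
  let fK : AdjoinRoot (KRR.extPoly PY e) →ₗ[KY] KY :=
    { toFun := fun a => g (Φ a)
      map_add' := fun a b => by simp
      map_smul' := hlin }
  have hfK : ∀ i : ℕ, i ≤ n → fK (AdjoinRoot.root (KRR.extPoly PY e) ^ i) = KRR.sigma i e := by
    intro i hi
    clear hi
    show g (Φ (_ ^ i)) = _
    rw [map_pow, hΦroot, sigma_natCast PY n i, ← push_xi_nat hY hg]
    congr 1
    induction i with
    | zero => rw [pow_zero, Nat.cast_zero, xi_zero]; exact (map_one (modelHom hP)).symm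
    | succ i ih =>
      rw [pow_succ, ih, Nat.cast_succ, ← xi_add]
      exact (map_mul (modelHom hP) _ _).symm
  let linv : AdjoinRoot (KRR.extPoly PY e) := Φ.symm (φP (xi (twPY n Y) (-1)))
  have hlinv : linv * AdjoinRoot.root _ = 1 := by
    apply Φ.injective
    rw [map_mul, map_one, RingEquiv.apply_symm_apply, hΦroot]
    show φP (xi (twPY n Y) (-1)) * φP (xi (twPY n Y) 1) = 1
    rw [← modelHom_apply hP, ← modelHom_apply hP, ← map_mul, xi_add, neg_add_cancel, xi_zero, map_one]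
  have hlΦ : ∀ (i : ℕ) (x : KP), Φ.symm.toRingHom (LambdaOps.lam i x) = LambdaOps.lam i (Φ.symm.toRingHom x) :=
    fun i x => by
      show Φ.symm _ = Φ.symm (LambdaOps.lam i (Φ (Φ.symm x)))
      rw [RingEquiv.apply_symm_apply]
  have haΦ : ∀ x : KP, PA.aug (Φ.symm.toRingHom x) = PP.aug x := fun x => by
    show PP.aug (Φ (Φ.symm x)) = _
    rw [RingEquiv.apply_symm_apply]
  let T : R ⊗[ℤ] KP →ₐ[ℤ] R ⊗[ℤ] AdjoinRoot (KRR.extPoly PY e) :=
    Algebra.TensorProduct.map (AlgHom.id ℤ R) Φ.symm.toRingHom.toIntAlgHom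
  have hT : ∀ (r : R) (x : KP), T (r ⊗ₜ[ℤ] x) = r ⊗ₜ[ℤ] Φ.symm x := fun r x => rfl
  have hq' : Φ.symm.toRingHom (((n + 1 : ℕ) : KP) * φP (xi (twPY n Y) (-1))) = AdjoinRoot.of _ e * linv := by
    show Φ.symm _ = _
    rw [map_mul, map_natCast, map_natCast]
  have hw' : T w * ((1 : R) ⊗ₜ[ℤ] KRR.bott PA j (AdjoinRoot.of (KRR.extPoly PY e) e * linv)) = 1 := by
    rw [← hq', ← map_bott Φ.symm.toRingHom hlΦ haΦ]
    show T w * T ((1 : R) ⊗ₜ[ℤ] KRR.bott PP j _) = 1
    rw [← map_mul, hw, map_one]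
  have key := Lambda.bott_arr (hasSplitting hY) e (PY.natCast_mem _ (by omega)) n hr inst PA hext
    (fun i hi => Lambda.line_lam PA hline i hi) hline hsplit fK hfK linv hlinv j hj R hjR aQ (T w) hw' (Φ.symm z)
  have hlT : ∀ t : R ⊗[ℤ] KP, LinearMap.lTensor R fK.toAddMonoidHom.toIntLinearMap (T t) =
      LinearMap.lTensor R g.toIntLinearMap t := fun t => by
    induction t using TensorProduct.induction_on with
    | zero => simp
    | add a b ha hb => simp only [map_add, ha, hb]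
    | tmul r x =>
      rw [hT]
      simp only [LinearMap.lTensor_tmul]
      congr 1
      show g (Φ (Φ.symm x)) = g x
      rw [RingEquiv.apply_symm_apply]
  have h1 : fK (Φ.symm z) = g z := congrArg g (Φ.apply_symm_apply z)
  rw [h1] at key
  rw [key, ← hlT]
  congr 1
  rw [map_mul T, map_mul T, map_natCast T, hT,
    show Φ.symm (LambdaRing.adams PP j z) = LambdaRing.adams PA j (Φ.symm z) from map_adams Φ.symm.toRingHom hlΦ hj z]
  ring

end Groth.Agent.PBK5
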