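import Groth.Agent.Lib.PBK5.TorAlg
import Groth.Agent.Lib.LFResK5.Mul
import Groth.Agent.Lib.FBase12.LengthBC
import Groth.Agent.Lib.CurveCoh17.Bases
import Groth.Agent.Lib.KFlat.PullbackKFlat
import Groth.Agent.Lib.SpecialTorsor21.Birational
import Groth.Agent.S0017
import Groth.Prelude.Def_Omega2

/-! Pull-back of the classes pushed forward along regular closed immersions. -/

set_option autoImplicit false
set_option linter.style.haveILetI false
set_option backward.isDefEq.respectTransparency false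
set_option backward.isDefEq.respectTransparency.types false
set_option maxHeartbeats 1600000

universe u

open CategoryTheory CategoryTheory.Limits AlgebraicGeometry RingTheory.Sequence TensorProduct MonoidalCategory

noncomputable section

namespace Groth.Agent.PBK5.BCCl

open KFlat.Sch
open Groth.Agent.LFResK5 (Bd BdP kcl kEquiv)

variable {P M : Scheme.{u}}

/-- Stalk data of a regular closed immersion. -/
theorem exists_seq [IsNoetherian P] [IsNoetherian M] (F : P ⟶ M) (hF : Mor2.IsRegularClosedImmersion F) (d : ℕ)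
    (hc : FlatMod.IsFinLocFreeOfRank d (Omega.conormal F)) (p : P) :
    ∃ rs : List (M.presheaf.stalk (F p)), IsRegular (M.presheaf.stalk (F p)) rs ∧
      Ideal.ofList rs = RingHom.ker (F.stalkMap p).hom ∧ rs.length ≤ d ∧
      (RingHom.ker (F.stalkMap p).hom).spanFinrank = d := by
  haveI := hF.1
  obtain ⟨U, hU, hxU, rs, hreg, hker⟩ := hF.2 p
  let A := M.presheaf.stalk (F p)
  let B := P.presheaf.stalk p
  letI : Algebra Γ(M, U) A := (M.presheaf.germ U (F p) hxU).hom.toAlgebra
  haveI : IsLocalization.AtPrime A (hU.primeIdealOf ⟨F p, hxU⟩).asIdeal := hU.isLocalization_stalk ⟨F p, hxU⟩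
  have hr : IsWeaklyRegular A (rs.map (algebraMap Γ(M, U) A)) :=
    hreg.toIsWeaklyRegular.of_isLocalization A (hU.primeIdealOf ⟨F p, hxU⟩).asIdeal.primeCompl
  have hk : RingHom.ker (F.stalkMap p).hom = Ideal.ofList (rs.map (algebraMap Γ(M, U) A)) := by
    rw [RegImm26.ker_stalkMap_eq F p hU hxU, ← Scheme.Hom.ker_apply F ⟨U, hU⟩, hker, Ideal.map_ofList]
    rfl
  have hR : IsRegular A (rs.map (algebraMap Γ(M, U) A)) := ⟨hr, fun htop => by
    rw [smul_eq_mul, Ideal.mul_top] at htop
    exact RingHom.ker_ne_top (F.stalkMap p).hom (hk.trans htop.symm)⟩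
  have hsp : (RingHom.ker (F.stalkMap p).hom).spanFinrank = d := by
    letI : Algebra A B := (F.stalkMap p).hom.toAlgebra
    let K : Ideal A := RingHom.ker (F.stalkMap p).hom
    let incl' : ((ClSub.idealMod F.ker).presheaf.stalk (F p) : Type u) ≃ₗ[A] K :=
      LinearEquiv.ofBijective ((Conormal2.incl F (F p)).codRestrict K (Conormal2.incl_mem_ker F p))
        ⟨fun m m' h => Conormal2.incl_injective F (F p) (congrArg Subtype.val h), fun t => by
          obtain ⟨m, hm⟩ := Conormal2.exists_incl_eq F p t.1 t.2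
          exact ⟨m, Subtype.ext hm⟩⟩
    obtain ⟨L⟩ := CurveCoh17.nonempty_stalk_equiv hc p
    exact TorAlg.spanFinrank_ker (A := A) (B := B) (F.stalkMap_surjective p)
      ((TensorProduct.AlgebraTensorModule.congr (LinearEquiv.refl B B) incl'.symm).trans
        ((M2.pullStalkEquiv F p (ClSub.idealMod F.ker)).trans L))
  refine ⟨_, hR, hk.symm, ?_, hsp⟩
  have h := CIReg6.length_le_spanFinrank hR
  rwa [← hk, hsp] at h

/-- The stalk of a push-forward of a locally free module, as a module over the ambient local ring. -/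
theorem nonempty_stalk_push [IsLocallyNoetherian P] (F : P ⟶ M) [IsClosedImmersion F] (p : P) {E : P.Modules}
    (hE : FlatMod.IsFinLocFree E) :
    ∃ k : ℕ, Nonempty (((Scheme.Modules.pushforward F).obj E).presheaf.stalk (F p) ≃ₗ[M.presheaf.stalk (F p)]
      (Fin k → M.presheaf.stalk (F p) ⧸ RingHom.ker (F.stalkMap p).hom)) := by
  let A := M.presheaf.stalk (F p)
  let B := P.presheaf.stalk p
  letI : Algebra A B := (F.stalkMap p).hom.toAlgebra
  letI : Module A (E.presheaf.stalk p) := Module.compHom _ (F.stalkMap p).hom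
  haveI : IsScalarTower A B (E.presheaf.stalk p) := ⟨fun a b m => by
    show ((F.stalkMap p).hom a * b) • m = (F.stalkMap p).hom a • b • m
    rw [mul_smul]⟩
  haveI : Module.Free B (E.presheaf.stalk p) := ((M1.isFinLocFree_iff E).1 hE).2 p
  haveI : Module.Finite B (E.presheaf.stalk p) :=
    M1.finite_stalk (LFResK5.isCoh_of_isFinLocFree hE).1 (LFResK5.isCoh_of_isFinLocFree hE).2 p
  obtain ⟨k, ⟨b⟩⟩ : ∃ k, Nonempty (E.presheaf.stalk p ≃ₗ[B] (Fin k → B)) :=
    ⟨_, ⟨((Module.Free.chooseBasis B _).reindex (Fintype.equivFin _)).equivFun⟩⟩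
  let g := AddEquiv.ofBijective (CohFound.pushStalk F E p).hom (CohFound.bijective_pushStalk F E p)
  let gl : ((Scheme.Modules.pushforward F).obj E).presheaf.stalk (F p) ≃ₗ[A] E.presheaf.stalk p :=
    { g with map_smul' := fun c a => CohFound.pushStalk_smul F E p c a }
  let q : (A ⧸ RingHom.ker (F.stalkMap p).hom) ≃ₗ[A] B :=
    ((Ideal.quotientKerAlgEquivOfSurjective (f := Algebra.ofId A B) (F.stalkMap_surjective p)).toLinearEquiv)
  exact ⟨k, ⟨(gl.trans (b.restrictScalars A)).trans (LinearEquiv.piCongrRight fun _ => q.symm)⟩⟩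

variable {X Y : Scheme.{u}}

/-- The local condition: a free module over the quotient by a sequence that stays regular. -/
theorem exists_local [IsNoetherian X] [IsNoetherian Y] [IsNoetherian P] [IsNoetherian M] (F : P ⟶ M) (φ : Y ⟶ M)
    (f : X ⟶ Y) (ψ : X ⟶ P) (hsq : IsPullback f ψ φ F) (hF : Mor2.IsRegularClosedImmersion F)
    (hf : Mor2.IsRegularClosedImmersion f) (d : ℕ) (hcF : FlatMod.IsFinLocFreeOfRank d (Omega.conormal F))
    (hcf : FlatMod.IsFinLocFreeOfRank d (Omega.conormal f)) {E : P.Modules} (hE : FlatMod.IsFinLocFree E) (x : X) :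
    letI := (φ.stalkMap (f x)).hom.toAlgebra
    ∃ (rs : List (M.presheaf.stalk (φ (f x)))) (k : ℕ), IsWeaklyRegular (M.presheaf.stalk (φ (f x))) rs ∧
      IsWeaklyRegular (Y.presheaf.stalk (f x)) rs ∧
      Nonempty (((Scheme.Modules.pushforward F).obj E).presheaf.stalk (φ (f x)) ≃ₗ[M.presheaf.stalk (φ (f x))]
        (Fin k → M.presheaf.stalk (φ (f x)) ⧸ Ideal.ofList rs)) := by
  haveI := hF.1
  haveI := hf.1
  letI : Algebra (M.presheaf.stalk (φ (f x))) (Y.presheaf.stalk (f x)) := (φ.stalkMap (f x)).hom.toAlgebra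
  have e : F (ψ x) = φ (f x) := by rw [← Scheme.Hom.comp_apply, ← Scheme.Hom.comp_apply, hsq.w]
  obtain ⟨r₀, hr₀, hk₀, hlen, -⟩ := exists_seq F hF d hcF (ψ x)
  obtain ⟨s, hs, hks, -, hJ⟩ := exists_seq f hf d hcf x
  obtain ⟨k, ⟨b⟩⟩ := nonempty_stalk_push F (ψ x) hE
  -- transport to the point `φ (f x)`
  let τ := (M.presheaf.stalkSpecializes (specializes_of_eq e.symm)).hom
  have hσ : FBase12.stalkTo φ (f x) e = (φ.stalkMap (f x)).hom.comp τ := rfl
  have key : ∀ (m : M) (em : F (ψ x) = m),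
      IsWeaklyRegular (M.presheaf.stalk m)
          (r₀.map (M.presheaf.stalkSpecializes (specializes_of_eq em.symm)).hom) ∧
        Nonempty (((Scheme.Modules.pushforward F).obj E).presheaf.stalk m ≃ₗ[M.presheaf.stalk m]
          (Fin k → M.presheaf.stalk m ⧸
            Ideal.ofList (r₀.map (M.presheaf.stalkSpecializes (specializes_of_eq em.symm)).hom))) := by
    rintro m rfl
    have hid : (M.presheaf.stalkSpecializes (specializes_of_eq (rfl : F (ψ x) = F (ψ x)).symm)).hom = RingHom.id _ := by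
      rw [TopCat.Presheaf.stalkSpecializes_refl]
      rfl
    rw [hid, show r₀.map (RingHom.id _) = r₀ from List.map_id r₀, hk₀]
    exact ⟨hr₀.toIsWeaklyRegular, ⟨b⟩⟩
  obtain ⟨hA, hN⟩ := key _ e
  have hgen : Ideal.ofList (r₀.map (FBase12.stalkTo φ (f x) e)) = RingHom.ker (f.stalkMap x).hom := by
    refine le_antisymm ?_ ?_
    · rw [← Ideal.map_ofList, hk₀, Ideal.map_le_iff_le_comap]
      intro a ha
      rw [RingHom.mem_ker] at ha
      show f.stalkMap x ((φ.stalkMap (f x)) (τ a)) = 0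
      rw [← CommRingCat.comp_apply, ← Scheme.Hom.stalkMap_comp,
        Scheme.Hom.stalkMap_congr_hom (f ≫ φ) (ψ ≫ F) hsq.w x, CommRingCat.comp_apply, Scheme.Hom.stalkMap_comp,
        CommRingCat.comp_apply, TopCat.Presheaf.stalkCongr_hom]
      have h1 : ∀ (m : M) (h₁ : m ⤳ F (ψ x)) (h₂ : F (ψ x) ⤳ m),
          M.presheaf.stalkSpecializes h₂ (M.presheaf.stalkSpecializes h₁ a) = a := fun m h₁ h₂ => by
        rw [TopCat.Presheaf.stalkSpecializes_comp_apply, TopCat.Presheaf.stalkSpecializes_refl]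
        rfl
      erw [h1]
      exact (congrArg (ψ.stalkMap x) (show F.stalkMap (ψ x) a = 0 from ha)).trans (map_zero _)
    · rw [← Ideal.map_ofList, hk₀]
      exact FBase12.ker_stalkMap_pullback_fst φ F hsq x
  have hB := TorAlg.isRegular_map (FBase12.stalkTo φ (f x) e) r₀ ⟨s, hs, hks⟩ hgen (hlen.trans hJ.ge)
  refine ⟨r₀.map τ, k, hA, ?_, hN⟩
  rw [← isWeaklyRegular_map_algebraMap_iff (Y.presheaf.stalk (f x)), List.map_map]
  exact hB.toIsWeaklyRegular

/-- The pull-back of a resolution of a push-forward is exact in positive degrees. -/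
theorem exactAt_pullback [IsNoetherian X] [IsNoetherian Y] [IsNoetherian P] [IsNoetherian M] (F : P ⟶ M) (φ : Y ⟶ M)
    (f : X ⟶ Y) (ψ : X ⟶ P) (hsq : IsPullback f ψ φ F) (hF : Mor2.IsRegularClosedImmersion F)
    (hf : Mor2.IsRegularClosedImmersion f) (d : ℕ) (hcF : FlatMod.IsFinLocFreeOfRank d (Omega.conormal F))
    (hcf : FlatMod.IsFinLocFreeOfRank d (Omega.conormal f)) {E : P.Modules} (hE : FlatMod.IsFinLocFree E)
    {n : ℕ} {L : ChainComplex M.Modules ℕ}
    {π : L ⟶ (ChainComplex.single₀ M.Modules).obj ((Scheme.Modules.pushforward F).obj E)}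
    (hL : KRR.IsLFRes ((Scheme.Modules.pushforward F).obj E) n L π) (i : ℕ) (hi : 1 ≤ i) :
    (((Scheme.Modules.pullback φ).mapHomologicalComplex (ComplexShape.down ℕ)).obj L).ExactAt i := by
  rw [HomologicalComplex.exactAt_iff, KFlat.Sch.exact_iff_stF]
  intro y
  let A := M.presheaf.stalk (φ y)
  let B := Y.presheaf.stalk y
  letI : Algebra A B := (φ.stalkMap y).hom.toAlgebra
  let N := (stF (φ y)).obj ((Scheme.Modules.pushforward F).obj E)
  haveI : (stF (X := M) (φ y)).PreservesHomology :=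
    Functor.preservesHomology_of_map_exact _ fun S hS => (KFlat.Sch.exact_iff_stF S).1 hS (φ y)
  let single := HomologicalComplex.singleMapHomologicalComplex (stF (X := M) (φ y)) (ComplexShape.down ℕ) 0
  haveI := hL.quasiIso
  let Pr : ProjectiveResolution N :=
    { complex := ((stF (φ y)).mapHomologicalComplex (ComplexShape.down ℕ)).obj L
      projective := fun j => by
        have := ((M1.isFinLocFree_iff (L.X j)).1 (hL.finLocFree j)).2 (φ y)
        exact (IsProjective.iff_projective (R := A) ((L.X j).presheaf.stalk (φ y) : Type u)).1 inferInstance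
      π := ((stF (φ y)).mapHomologicalComplex (ComplexShape.down ℕ)).map π ≫ single.hom.app _ }
  let G := (tensoringLeft (ModuleCat.{u} A)).obj (ModuleCat.of A B)
  haveI : G.Additive := inferInstanceAs (tensorLeft (ModuleCat.of A B)).Additive
  have hG : ((G.mapHomologicalComplex (ComplexShape.down ℕ)).obj Pr.complex).ExactAt i := by
    by_cases hy : y ∈ Set.range f
    · obtain ⟨x, rfl⟩ := hy
      obtain ⟨rs, k, hA, hB, ⟨e⟩⟩ := exists_local F φ f ψ hsq hF hf d hcF hcf hE x
      exact TorAlg.exactAt_tensor B rs hA hB Pr e.toModuleIso i hi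
    · have hy' : φ y ∉ Set.range F := fun h => hy (by rw [SpecialTorsor21.range_fst_of_isPullback hsq]; exact h)
      haveI := hF.1
      haveI : Subsingleton (((Scheme.Modules.pushforward F).obj E).presheaf.stalk (φ y)) :=
        ⟨fun a b => (M1.eq_zero_stalk_push F E hy' a).trans (M1.eq_zero_stalk_push F E hy' b).symm⟩
      haveI : Subsingleton N := by assumption
      have hN : IsZero N := ModuleCat.isZero_of_subsingleton N
      haveI := TorAlg.additive_leftDerived G i
      rw [HomologicalComplex.exactAt_iff_isZero_homology]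
      exact ((G.leftDerived i).map_isZero hN).of_iso (Pr.isoLeftDerivedObj G i).symm
  have eG : ModuleCat.extendScalars.{u, u, u} (φ.stalkMap y).hom ⋙
      ModuleCat.restrictScalars.{u} (φ.stalkMap y).hom ≅ G :=
    NatIso.ofComponents (fun _ => Iso.refl _) (fun g => ModuleCat.hom_ext (LinearMap.ext fun _ => rfl))
  let S := L.sc i
  have h1 : (((S.map (stF (φ y))).map (ModuleCat.extendScalars.{u, u, u} (φ.stalkMap y).hom)).map
      (ModuleCat.restrictScalars.{u} (φ.stalkMap y).hom)).Exact :=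
    (ShortComplex.exact_iff_of_iso ((S.map (stF (φ y))).mapNatIso eG)).2 hG
  have h2 : ((S.map (stF (φ y))).map (ModuleCat.extendScalars.{u, u, u} (φ.stalkMap y).hom)).Exact :=
    (ShortComplex.exact_map_iff_of_faithful _ (ModuleCat.restrictScalars.{u} (φ.stalkMap y).hom)).1 h1
  exact (ShortComplex.exact_iff_of_iso (S.mapNatIso (pullStalkNatIso φ y))).2 h2

end Groth.Agent.PBK5.BCCl

namespace Groth.Agent.PBK5.BCCl

open Groth.Agent.LFResK5 (Bd BdP kcl kEquiv pushK)

variable {P M X Y : Scheme.{u}}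

/-- The homology in degree zero of a chain complex. -/
def homologyZeroIso {C : Type*} [Category C] [Abelian C] (K : ChainComplex C ℕ) :
    K.homology 0 ≅ cokernel (K.d 1 0) :=
  K.isoHomologyι₀ ≪≫ (K.opcyclesIsCokernel 1 0 (ChainComplex.prev ℕ 0)).coconePointUniqueUpToIso
    (colimit.isColimit _)

/-- Base change for the push-forwards on the K-rings. -/
theorem kPull_pushK [IsNoetherian X] [IsNoetherian Y] [IsNoetherian P] [IsNoetherian M] (F : P ⟶ M) (φ : Y ⟶ M)
    (f : X ⟶ Y) (ψ : X ⟶ P) (hsq : IsPullback f ψ φ F) [IsClosedImmersion F] [IsClosedImmersion f]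
    (hF : Mor2.IsRegularClosedImmersion F) (hf : Mor2.IsRegularClosedImmersion f) (d : ℕ)
    (hcF : FlatMod.IsFinLocFreeOfRank d (Omega.conormal F)) (hcf : FlatMod.IsFinLocFreeOfRank d (Omega.conormal f))
    (hMe : KRR.HasEnoughLocFree M) (hYe : KRR.HasEnoughLocFree Y) :
    (CMReg18.kPull φ).comp (pushK F hF hMe) = (pushK f hf hYe).comp (CMReg18.kPull ψ) := by
  refine LFResK5.addHom_ext fun E hE => ?_
  show CMReg18.kPull φ (pushK F hF hMe (KRR.cl P E)) = pushK f hf hYe (CMReg18.kPull ψ (KRR.cl P E))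
  rw [CMReg18.kPull_cl ψ hE, LFResK5.pushK_cl F hF hMe hE,
    LFResK5.pushK_cl f hf hYe (M2.isFinLocFree_pullback ψ hE)]
  have hb := LFResK5.bd_push_of_finLocFree F hF hE
  have hb' := LFResK5.bd_push_of_finLocFree f hf (M2.isFinLocFree_pullback ψ hE)
  obtain ⟨n, L, π, hL⟩ := ((LFResK5.bd_iff_hasLFRes hMe _).1 hb).2
  haveI := hL.quasiIso
  rw [LFResK5.kcl_eq_sum hMe hb.1 hL, map_sum]
  let pb := Scheme.Modules.pullback φ
  haveI := (Scheme.Modules.pullbackPushforwardAdjunction φ).leftAdjoint_preservesColimits.{0, 0}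
  let L' := (pb.mapHomologicalComplex (ComplexShape.down ℕ)).obj L
  haveI : Coh.IsQCoh E := (LFResK5.isCoh_of_isFinLocFree hE).1
  obtain ⟨ebc⟩ := S0017.result F φ ψ f hsq.flip E
  let eH : L'.homology 0 ≅ (Scheme.Modules.pushforward f).obj ((Scheme.Modules.pullback ψ).obj E) :=
    homologyZeroIso L' ≪≫ (PreservesCokernel.iso pb (L.d 1 0)).symm ≪≫
      pb.mapIso ((homologyZeroIso L).symm ≪≫ asIso (HomologicalComplex.homologyMap π 0) ≪≫
        HomologicalComplex.singleObjHomologySelfIso (ComplexShape.down ℕ) 0 _) ≪≫ ebc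
  have hL' : ∀ k, Bd (L'.X k) := fun k =>
    LFResK5.bd_of_isFinLocFree (M2.isFinLocFree_pullback φ (hL.finLocFree k))
  have key := LFResK5.clSub_homology_eq L' hL' (fun i hi => exactAt_pullback F φ f ψ hsq hF hf d hcF hcf hE hL i hi)
    (hb'.iso eH.symm) (n := n) (fun i hi => pb.map_isZero (hL.isZero i hi))
  rw [LFResK5.clSub_bd_iso eH (hb'.iso eH.symm)] at key
  show _ = kcl hYe _
  rw [kcl, key, map_sum]
  refine Finset.sum_congr rfl fun k _ => ?_
  rw [map_zsmul, map_zsmul, CMReg18.kPull_cl φ (hL.finLocFree k)]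
  exact congrArg _ ((kEquiv hYe).symm_apply_eq.2
    (LFResK5.kEquiv_cl hYe (M2.isFinLocFree_pullback φ (hL.finLocFree k))).symm).symm

end Groth.Agent.PBK5.BCCl
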