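import Groth.Agent.Lib.PBK5.Chart
import Groth.Agent.Lib.CMReg18.RegPn
import Groth.Agent.Lib.CMReg18.OfInv
import Groth.Agent.Lib.CMReg18.Proj
import Groth.Agent.Lib.PicPn.OverPoint
import Groth.Agent.S0844

/-! Twists and charts of projective bundles. -/

set_option autoImplicit false
set_option linter.style.haveILetI false
set_option backward.isDefEq.respectTransparency false
set_option backward.isDefEq.respectTransparency.types false

universe u

open CategoryTheory Limits AlgebraicGeometry TopologicalSpace Opposite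

noncomputable section

namespace Groth.Agent.PBK5

open Groth.Agent.CMReg18

/-- Integral twists, without sections. -/
structure Tw (P : Scheme.{u}) where
  O : ℤ → P.Modules
  inv : ∀ a, PicF.IsInvertible (O a)
  zero : O 0 ≅ Coh.structureModule P
  add : ∀ a b, CohB1.tensorMod (O a) (O b) ≅ O (a + b)

namespace Tw

variable {P : Scheme.{u}} (W : Tw P)

abbrev tw (F : P.Modules) (a : ℤ) : P.Modules := CohB1.tensorMod F (W.O a)

def idx {a b : ℤ} (h : a = b) : W.O a ≅ W.O b := eqToIso (congrArg W.O h)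

def twIso (F : P.Modules) {a b : ℤ} (h : a = b) : W.tw F a ≅ W.tw F b := M2.tensorIso (Iso.refl F) (W.idx h)

def twZero (F : P.Modules) : W.tw F 0 ≅ F :=
  M2.tensorIso (Iso.refl F) W.zero ≪≫ M2.tensorRUnit F

def twTwist (F : P.Modules) (a b : ℤ) : W.tw (W.tw F a) b ≅ W.tw F (a + b) :=
  M2.tensorAssoc F (W.O a) (W.O b) ≪≫ M2.tensorIso (Iso.refl F) (W.add a b)

/-- The twists from an invertible module and an inverse. -/
def ofInv {L M : P.Modules} (hL : PicF.IsInvertible L) (hM : PicF.IsInvertible M)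
    (e : CohB1.tensorMod L M ≅ Coh.structureModule P) : Tw P where
  O := intPow L M
  inv _ := M2.isInvertible_tensor (M2.isInvertible_tensorPow hL _) (M2.isInvertible_tensorPow hM _)
  zero := powPairZero e 0
  add a b := powPairMul _ _ _ _ ≪≫ powPairEq e (by omega)

theorem nat_iso (V : Tw P) (e : W.O 1 ≅ V.O 1) : ∀ m : ℕ, Nonempty (W.O (m : ℤ) ≅ V.O (m : ℤ))
  | 0 => ⟨W.zero ≪≫ V.zero.symm⟩
  | m + 1 => by
    obtain ⟨i⟩ := nat_iso V e m
    exact ⟨(W.add (m : ℤ) 1).symm ≪≫ M2.tensorIso i e ≪≫ V.add (m : ℤ) 1⟩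

/-- Twists agreeing in degree one agree. -/
theorem congr (V : Tw P) (e : W.O 1 ≅ V.O 1) (a : ℤ) : Nonempty (W.O a ≅ V.O a) := by
  obtain ⟨m, rfl | rfl⟩ := Int.eq_nat_or_neg a
  · exact W.nat_iso V e m
  · obtain ⟨i⟩ := W.nat_iso V e m
    exact ⟨(M2.tensorRUnit _).symm ≪≫
      M2.tensorIso (Iso.refl _) ((V.idx (by omega) ≪≫ V.zero).symm ≪≫ (V.add (m : ℤ) (-(m : ℤ))).symm ≪≫
        M2.tensorIso i.symm (Iso.refl _)) ≪≫ (M2.tensorAssoc _ _ _).symm ≪≫
      M2.tensorIso (W.add (-(m : ℤ)) (m : ℤ) ≪≫ W.idx (by omega) ≪≫ W.zero) (Iso.refl _) ≪≫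
      M2.tensorLUnit _⟩

/-- Restriction to an open. -/
def res (U : P.Opens) : Tw (U : Scheme.{u}) where
  O a := (W.O a).restrict U.ι
  inv a := M2.isInvertible_restrict (W.inv a) _
  zero := (Scheme.Modules.restrictFunctorIsoPullback U.ι).app _ ≪≫
    (Scheme.Modules.pullback U.ι).mapIso W.zero ≪≫ PicLoc.pullbackStructureIso U.ι
  add a b := (M2.restrictTensorIso U.ι (W.O a) (W.O b)).symm ≪≫
    (Scheme.Modules.restrictFunctor U.ι).mapIso (W.add a b)

end Tw

/-- Twisting data give twists. -/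
abbrev twOf {X : Scheme.{u}} (D : TwistData X) : Tw X := ⟨D.O, D.inv, D.zero, D.add⟩

variable {T P : Scheme.{u}}

/-- An affine open of the base over which the bundle looks like projective space. -/
structure ChartAt (π : P ⟶ T) (W : Tw P) (n : ℕ) (U : T.Opens) : Prop where
  affine : IsAffineOpen U
  proper : IsProper (π ∣_ U)
  lfp : LocallyOfFinitePresentation (π ∣_ U)
  flat : Flat (π ∣_ U)
  data : ∃ D : TwistData (π ⁻¹ᵁ U : P.Opens).toScheme, D.num = n + 1 ∧
    (∀ a, Nonempty (D.O a ≅ (W.O a).restrict (π ⁻¹ᵁ U).ι)) ∧ CohB1.IsAmple (D.O 1)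
  van : ∀ (d : ℤ) (j : ℕ), ¬ ((j = 0 ∧ 0 ≤ d) ∨ (j = n ∧ d ≤ -((n : ℤ) + 1))) →
    Subsingleton (Coh.HH (π ⁻¹ᵁ U : P.Opens).toScheme ((W.O d).restrict (π ⁻¹ᵁ U).ι) j)
  secs : Function.Bijective (π.app U)
  cohDim : ∀ (M : (π ⁻¹ᵁ U : P.Opens).toScheme.Modules), Coh.IsQCoh M → ∀ j, n < j →
    Subsingleton (Coh.HH (π ⁻¹ᵁ U : P.Opens).toScheme M j)

/-- A bundle of projective spaces: charts on a basis. -/
def IsPB (π : P ⟶ T) (W : Tw P) (n : ℕ) : Prop :=
  ∀ (t : T) (V : T.Opens), t ∈ V → ∃ U ≤ V, t ∈ U ∧ ChartAt π W n U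

theorem subsingleton_HH_iso {A B : Scheme.{u}} (f : A ⟶ B) [IsIso f] (M : B.Modules) (j : ℕ)
    (h : Subsingleton (Coh.HH B M j)) :
    Subsingleton (Coh.HH A ((Scheme.Modules.pullback f).obj M) j) := by
  obtain ⟨e⟩ := CohFound.nonempty_hc_abF_restrict f M j ⊤
  rw [Scheme.Hom.image_top_eq_opensRange, Scheme.Hom.opensRange_of_isIso] at e
  letI : A.Over (Spec (CommRingCat.of (ULift.{u} ℤ))) := ⟨specULiftZIsTerminal.from A⟩
  refine van_iso (ULift.{u} ℤ) ((Scheme.Modules.restrictFunctorIsoPullback f).app M) ?_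
  exact (CohFound.subsingleton_HH_iff _ _).2 (@Equiv.subsingleton _ _ e.toEquiv ((CohFound.subsingleton_HH_iff _ _).1 h))

variable {E : T.Modules} {π : P ⟶ T} {O1 : P.Modules} {q : (Scheme.Modules.pullback π).obj E ⟶ O1}
  {n : ℕ} {U : T.Opens}

theorem chartAt_of_basis (hP : KRR.IsProjBundle π E O1 q) (hE : Coh.IsQCoh E) (W : Tw P)
    (eW : W.O 1 ≅ O1) (hU : IsAffineOpen U) (b : Module.Basis (Fin (n + 1)) Γ(T, U) Γ(E, U)) :
    ChartAt π W n U := by
  obtain ⟨φ, hφ, ⟨e⟩⟩ := exists_chart_iso hP hE hU b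
  let R := Γ(T, U)
  let Z : Scheme.{u} := (π ⁻¹ᵁ U : P.Opens)
  let D : TwistData Z := (projData R n).pullback φ.hom
  have hπ : π ∣_ U = φ.hom ≫ CohB1.ProjSpace.toSpec n R ≫ hU.isoSpec.inv := by
    rw [← Category.assoc, hφ, Category.assoc, Iso.hom_inv_id, Category.comp_id]
  have hO : ∀ a, Nonempty (D.O a ≅ (W.O a).restrict (π ⁻¹ᵁ U).ι) :=
    (twOf D).congr (W.res _) (e ≪≫ (Scheme.Modules.restrictFunctor _).mapIso eW.symm)
  have hsm := ProjSpace.smooth_toSpec n R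
  have hpr : IsProper (CohB1.ProjSpace.toSpec n R) := ProjSpace.isProper_toSpec n R
  refine ⟨hU, by rw [hπ]; infer_instance, by rw [hπ]; infer_instance, by rw [hπ]; infer_instance,
    ⟨D, rfl, hO, ?_⟩, fun d j hdj => ?_, ?_, fun M hM j hj => ?_⟩
  · exact Amp.isAmple_pullback_of_isAffineHom φ.hom
      (Twist.isAmple_twist (CohB1.polyGrading n R) _ (fun i => ProjSpace.X_mem' n R i)
        (ProjSpace.irrelevant_le_span n R) (d := 1) Nat.one_pos)
  · obtain ⟨ea⟩ := hO d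
    letI := CBC10.overU π hU
    refine van_iso Γ(T, U) ea ?_
    exact subsingleton_HH_iso φ.hom _ j (S0844.result R n d j (fun h => hdj (Or.inl h)) fun h => hdj (Or.inr h))
  pick_goal 2
  · haveI : Coh.IsQCoh M := hM
    haveI : Z.IsSeparated := ⟨by
      rw [← terminal.comp_from (φ.hom ≫ CohB1.ProjSpace.toSpec n R)]
      infer_instance⟩
    refine (CohFound.subsingleton_HH_iff _ _).2 ?_
    have e : (⊤ : Z.Opens) = ⨆ i : Fin (n + 1),
        φ.hom ⁻¹ᵁ Proj.basicOpen (CohB1.polyGrading n R) (MvPolynomial.X i) := by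
      rw [← Scheme.Hom.preimage_iSup, ProjSpace.iSup_basicOpen]
      rfl
    rw [e]
    exact CohFound.subsingleton_hc_iSup_affine M (fun V W' hV hW' => hV.inf hW') (n + 1) _
      (fun i => (Proj.isAffineOpen_basicOpen _ _ (ProjSpace.X_mem' n R i) Nat.one_pos).preimage_of_isIso φ.hom) j
      (by omega)
  · have h1 : Function.Bijective (toSpecU π hU).appTop := by
      rw [← hφ, Scheme.Hom.comp_appTop]
      show Function.Bijective (φ.hom.appTop ∘ (CohB1.ProjSpace.toSpec n R).appTop)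
      exact (ConcreteCategory.bijective_of_isIso φ.hom.appTop).comp (PicPn.bijective_toSpec_appTop' n R)
    have h2 : Function.Bijective fun c => ProjUP.toGlobal (toSpecU π hU) c :=
      h1.comp (ConcreteCategory.bijective_of_isIso (Scheme.ΓSpecIso (CommRingCat.of R)).inv)
    simp only [toGlobal_toSpecU] at h2
    exact (Function.Bijective.of_comp_iff' (ConcreteCategory.bijective_of_isIso (π ⁻¹ᵁ U).topIso.inv) _).1 h2

theorem exists_basis_nhd {r : ℕ} (hE : FlatMod.IsFinLocFreeOfRank r E) (t : T) (V : T.Opens) (ht : t ∈ V) :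
    ∃ U ≤ V, t ∈ U ∧ IsAffineOpen U ∧ Nonempty (Module.Basis (Fin r) Γ(T, U) Γ(E, U)) := by
  obtain ⟨D, e, htD, he⟩ := P1Split.exists_isBas_nhd hE t
  obtain ⟨U, hU, htU, hUD⟩ := exists_isAffineOpen_mem_and_subset (X := T) (x := t) (U := V ⊓ D) ⟨ht, htD⟩
  have hUV : U ≤ V := fun x hx => (hUD hx).1
  have hUD' : U ≤ D := fun x hx => (hUD hx).2
  let L : (Fin r → Γ(T, U)) →ₗ[Γ(T, U)] Γ(E, U) :=
    Fintype.linearCombination _ fun i => M1.mres E hUD' (e i)
  have hL : Function.Bijective L := he U hUD'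
  exact ⟨U, hUV, htU, hU, ⟨Module.Basis.ofEquivFun (LinearEquiv.ofBijective L hL).symm⟩⟩

/-- Projective bundles are bundles of projective spaces. -/
theorem isPB_of_projBundle (hP : KRR.IsProjBundle π E O1 q) (hE : FlatMod.IsFinLocFreeOfRank (n + 1) E)
    (W : Tw P) (eW : W.O 1 ≅ O1) : IsPB π W n := fun t V ht => by
  obtain ⟨U, hUV, htU, hU, ⟨b⟩⟩ := exists_basis_nhd hE t V ht
  exact ⟨U, hUV, htU,
    chartAt_of_basis hP (M2.isQCoh_of_isFinLocFree (M2.isFinLocFree_of_ofRank hE)) W eW hU b⟩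

end Groth.Agent.PBK5
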