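import Groth.Agent.Lib.PBK5.Split

/-! Models have the splitting property. -/

set_option autoImplicit false
set_option linter.style.haveILetI false
set_option backward.isDefEq.respectTransparency false
set_option backward.isDefEq.respectTransparency.types false

universe u

open CategoryTheory Limits AlgebraicGeometry LambdaRing

noncomputable section

namespace Groth.Agent.PBK5

/-- Models of K-rings of connected quasi-compact schemes have the splitting property. -/
theorem hasSplitting {X : Scheme.{u}} [ConnectedSpace X] [CompactSpace X] {K : Type (u + 1)} [CommRing K]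
    [LambdaOps K] {P : PosStructure K} {φ : SGA6.Kvb X →+ K} (hK : KRR.IsModel X K P φ) : HasSplitting K P := by
  refine ⟨{L | ∃ (Y : Scheme.{u}) (_ : ConnectedSpace Y) (_ : CompactSpace Y) (ψ : SGA6.Kvb Y →+ L.carrier),
    KRR.IsModel Y L.carrier L.posStr ψ}, ⟨X, inferInstance, inferInstance, φ, hK⟩, ?_⟩
  rintro L ⟨Y, hYc, hYk, ψ, hL⟩ e he
  obtain ⟨m, E, -, hE, rfl⟩ := (hL.mem_pos_iff e).1 he
  obtain ⟨Y', f, hc, hk, -, hf, M, hM, hsum⟩ := exists_split m hE
  obtain ⟨K', i1, i2, P', φ', hK'⟩ := KModel5.exists_model Y'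
  obtain ⟨g, hg, hgi⟩ := exists_pull f hf hL hK'
  refine ⟨⟨K', P'⟩, ⟨Y', hc, hk, φ', hK'⟩, pullRingHom hL hK' hg,
    ⟨fun i x => pull_lam hL hK' hg i x, hgi, fun x => pull_aug hL hK' hg x, fun x hx => pull_pos hL hK' hg hx⟩,
    Finset.univ.val.map fun j => φ' (KRR.cl Y' (M j)), ?_, ?_⟩
  · intro u hu
    obtain ⟨j, -, rfl⟩ := Multiset.mem_map.1 hu
    exact ⟨(hK'.mem_pos_iff _).2 ⟨1, M j, le_rfl, hM j, rfl⟩, by simpa using hK'.aug_cl 1 (M j) (hM j)⟩
  · show (Multiset.map _ _).sum = g (ψ (KRR.cl Y E))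
    rw [isPull_apply hg, hsum, map_sum]
    rfl

end Groth.Agent.PBK5
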