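import Groth.Agent.Lib.KModel5.Main
import Groth.Agent.Lib.KoszShH13.Cx
import Groth.Agent.Lib.CMReg18.Euler
import Groth.Agent.Lib.Wedge2.Props

/-! Koszul complexes of cosections of bundles exist, and are exact when the cosection is onto. -/

set_option autoImplicit false
set_option linter.style.haveILetI false
set_option backward.isDefEq.respectTransparency false
set_option backward.isDefEq.respectTransparency.types false

universe u

open CategoryTheory Limits AlgebraicGeometry Opposite TopologicalSpace exteriorPower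

namespace Groth.Agent.PBK5

open KoszShH13

variable {X : Scheme.{u}} {E : X.Modules}

theorem secForm_res (s : E ⟶ Coh.structureModule X) {U V : X.Opens} (h : V ≤ U) (e : Γ(E, U)) :
    KoszSh.secForm s V (M1.mres E h e) = M1.ores h (KoszSh.secForm s U e) :=
  congrArg (OmegaSh.fnSect X V) (M1.app_mres s h e)

section Exist

variable {L : ℕ → X.Modules} (s : E ⟶ Coh.structureModule X)
  (loc : ∀ (p : ℕ) (U : X.affineOpens), Γ(L p, U.1) ≃ₗ[Γ(X, U.1)] ↥(⋀[Γ(X, U.1)]^p Γ(E, U.1)))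

/-- The differential on an affine open. -/
noncomputable def dSec (p : ℕ) (U : X.affineOpens) : Γ(L (p + 1), U.1) →ₗ[Γ(X, U.1)] Γ(L p, U.1) :=
  ((loc p U).symm.toLinearMap.comp (dK (KoszSh.secForm s U.1) p)).comp (loc (p + 1) U).toLinearMap

theorem dSec_symm (p : ℕ) (U : X.affineOpens) (x : ↥(⋀[Γ(X, U.1)]^(p + 1) Γ(E, U.1))) :
    dSec s loc p U ((loc (p + 1) U).symm x) = (loc p U).symm (dK (KoszSh.secForm s U.1) p x) := by
  simp [dSec]

variable (hloc : ∀ (p : ℕ) (U V : X.affineOpens) (h : V.1 ≤ U.1) (e : Fin p → Γ(E, U.1)),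
  M1.mres (L p) h ((loc p U).symm (ιMulti _ p e)) = (loc p V).symm (ιMulti _ p fun j => M1.mres E h (e j)))

include hloc in
theorem dSec_res_gen (p : ℕ) (U V : X.affineOpens) (h : V.1 ≤ U.1) (e : Fin (p + 1) → Γ(E, U.1)) :
    M1.mres (L p) h ((loc p U).symm (KoszSh.dGen (KoszSh.secForm s U.1) p e)) =
      (loc p V).symm (KoszSh.dGen (KoszSh.secForm s V.1) p fun j => M1.mres E h (e j)) := by
  rw [KoszSh.dGen, KoszSh.dGen, map_sum, map_sum, map_sum]
  refine Finset.sum_congr rfl fun i _ => ?_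
  rw [LinearEquiv.map_smul, LinearEquiv.map_smul, M1.mres_smul, hloc p U V h]
  refine congrArg (· • _) ?_
  rw [map_mul, map_pow, map_neg, map_one, secForm_res]

include hloc in
theorem dSec_res (p : ℕ) (U V : X.affineOpens) (h : V.1 ≤ U.1) (m : Γ(L (p + 1), U.1)) :
    M1.mres (L p) h (dSec s loc p U m) = dSec s loc p V (M1.mres (L (p + 1)) h m) := by
  obtain ⟨x, rfl⟩ := (loc (p + 1) U).symm.surjective m
  let A : ↥(⋀[Γ(X, U.1)]^(p + 1) Γ(E, U.1)) →+ Γ(L p, V.1) :=
    AddMonoidHom.mk' (fun x => M1.mres (L p) h (dSec s loc p U ((loc (p + 1) U).symm x)))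
      fun a b => by simp only [map_add]
  let B : ↥(⋀[Γ(X, U.1)]^(p + 1) Γ(E, U.1)) →+ Γ(L p, V.1) :=
    AddMonoidHom.mk' (fun x => dSec s loc p V (M1.mres (L (p + 1)) h ((loc (p + 1) U).symm x)))
      fun a b => by simp only [map_add]
  refine extPow_ext A B (fun c e => ?_) x
  simp only [A, B, AddMonoidHom.mk'_apply]
  rw [LinearEquiv.map_smul, LinearMap.map_smul, M1.mres_smul, M1.mres_smul, LinearMap.map_smul,
    dSec_symm, hloc (p + 1) U V h, dSec_symm, dK_ιMulti, dK_ιMulti, dSec_res_gen s loc hloc p U V h]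

end Exist

/-- Koszul complexes exist. -/
theorem exists_cx (hE : FlatMod.IsFinLocFree E) (s : E ⟶ Coh.structureModule X) :
    Nonempty (KoszSh.Cx E s) := by
  choose L hL hLE using fun i => KModel5.hasExt X i E hE
  choose loc hloc using hLE
  have step : ∀ p : ℕ, ∃ φ : L (p + 1) ⟶ L p, ∀ (U : X.affineOpens) (m : Γ(L (p + 1), U.1)),
      φ.app U.1 m = dSec s loc p U m := fun p => by
    obtain ⟨φ, hφ⟩ := exists_glue (isAffBasis_top (X := X)) (M := L (p + 1)) (N := L p)
      (fun U _ => (dSec s loc p U).toAddMonoidHom) (fun U _ r m => (dSec s loc p U).map_smul r m)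
      (fun U _ V _ h m => dSec_res s loc hloc p U V h m)
    exact ⟨φ, fun U m => hφ U trivial m⟩
  choose d hd using step
  have hd' : ∀ (p : ℕ) (U : X.affineOpens) (x : ↥(⋀[Γ(X, U.1)]^(p + 1) Γ(E, U.1))),
      (d p).app U.1 ((loc (p + 1) U).symm x) = (loc p U).symm (dK (KoszSh.secForm s U.1) p x) :=
    fun p U x => (hd p U _).trans (dSec_symm s loc p U x)
  have hsq : ∀ n, d (n + 1) ≫ d n = 0 := fun n => hom_ext_basis (isAffBasis_top (X := X)) fun U _ m => by
    obtain ⟨x, rfl⟩ := (loc (n + 1 + 1) U).symm.surjective m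
    show (d n).app U.1 ((d (n + 1)).app U.1 _) = 0
    rw [hd', hd', dK_dK, map_zero]
  refine ⟨{ K := ChainComplex.of L d hsq, loc := loc, loc_res := hloc, rule := fun p U e => ?_ }⟩
  have e0 : (ChainComplex.of L d hsq).d (p + 1) p = d p := ChainComplex.of_d L d p
  exact (congrArg (fun φ : L (p + 1) ⟶ L p => φ.app U.1 ((loc (p + 1) U).symm (ιMulti _ (p + 1) e))) e0).trans
    ((hd' p U _).trans (congrArg _ (dK_ιMulti _ p e)))

variable {s : E ⟶ Coh.structureModule X} (C : KoszSh.Cx E s)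

theorem acyc_of_one {R : Type u} [CommRing R] {M : Type u} [AddCommGroup M] [Module R M] (φ : M →ₗ[R] R)
    (e : M) (he : φ e = 1) : Acyc φ := by
  intro q x hx
  have hmem : ExteriorAlgebra.ι R e * (x : ExteriorAlgebra R M) ∈ ⋀[R]^(q + 2) M := by
    rw [show q + 2 = q + 1 + 1 from rfl]
    change _ ∈ LinearMap.range (ExteriorAlgebra.ι R (M := M)) ^ (q + 1 + 1)
    rw [pow_succ']
    exact Submodule.mul_mem_mul (LinearMap.mem_range_self _ e) x.2
  refine ⟨⟨_, hmem⟩, Subtype.ext ?_⟩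
  rw [dK_coe, ct_ι_mul, he, one_smul, ← dK_coe, hx]
  simp

theorem exists_dK_zero {R : Type u} [CommRing R] {M : Type u} [AddCommGroup M] [Module R M] (φ : M →ₗ[R] R)
    (e : M) (he : φ e = 1) (x : ↥(⋀[R]^0 M)) : ∃ y, dK φ 0 y = x := by
  have hmem : ExteriorAlgebra.ι R e * (x : ExteriorAlgebra R M) ∈ ⋀[R]^1 M := by
    change _ ∈ LinearMap.range (ExteriorAlgebra.ι R (M := M)) ^ (0 + 1)
    rw [pow_succ']
    exact Submodule.mul_mem_mul (LinearMap.mem_range_self _ e) x.2
  refine ⟨⟨_, hmem⟩, Subtype.ext ?_⟩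
  obtain ⟨c, hc⟩ := zero_deg (x : ExteriorAlgebra R M) x.2
  rw [dK_coe, ct_ι_mul, he, one_smul, hc, ct_algebraMap, mul_zero, sub_zero]

/-- Where the cosection hits one, in sections. -/
def HitsOne (U : X.affineOpens) : Prop := ∃ e : Γ(E, U.1), KoszSh.secForm s U.1 e = 1

theorem isAffBasis_hitsOne (hs : Epi s) : IsAffBasis (HitsOne (E := E) (s := s)) := by
  intro U x hx
  obtain ⟨V, hVU, hxV, z, hz⟩ := (M1.epi_iff_locally_surjective s).1 hs U
    (show Γ(Coh.structureModule X, U) from (1 : Γ(X, U))) x hx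
  obtain ⟨W, -, hxW, hWV⟩ := isAffBasis_top (X := X) V x hxV
  refine ⟨W, ⟨M1.mres E hWV z, ?_⟩, hxW, hWV.trans hVU⟩
  rw [secForm_res]
  show M1.ores hWV (OmegaSh.fnSect X V (s.app V z)) = 1
  rw [hz]
  show M1.ores hWV (M1.ores hVU (1 : Γ(X, U))) = 1
  rw [map_one, map_one]

/-- The Koszul complex of an epimorphism is exact. -/
theorem exactVia (hs : Epi s) (x : X) : CMReg18.ExactVia (M1.stalkAb x) C.K := by
  have hP := isAffBasis_hitsOne (E := E) hs
  haveI hepi : Epi (C.K.d 1 0) := (M1.epi_iff_locally_surjective _).2 fun U t y hy => by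
    obtain ⟨V, ⟨e, he⟩, hyV, hVU⟩ := hP U y hy
    obtain ⟨z, hz⟩ := exists_dK_zero _ e he ((C.loc 0 V) (M1.mres _ hVU t))
    refine ⟨V.1, hVU, hyV, (C.loc 1 V).symm z, ?_⟩
    refine ((d_app C 0 V z).trans (congrArg _ hz)).trans ?_
    exact (C.loc 0 V).symm_apply_apply _
  refine ⟨(M1.epi_iff_stalk _).1 hepi x, fun j b hb => ?_⟩
  have hex : (ShortComplex.mk (C.K.d (j + 2) (j + 1)) (C.K.d (j + 1) j) (C.K.d_comp_d _ _ _)).Exact :=
    exact_of_basis hP _ fun U hU a ha => exact_app C j U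
      (let ⟨e, he⟩ := hU; acyc_of_one _ e he) a ha
  exact (M1.exact_iff_stalk_eq_zero _).1 hex x b hb

end Groth.Agent.PBK5
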