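import Groth.Agent.Lib.PBK5.Class

/-! The K-ring of a projective bundle is the elementary extension; filtrations. -/

set_option autoImplicit false
set_option linter.style.haveILetI false
set_option backward.isDefEq.respectTransparency false
set_option backward.isDefEq.respectTransparency.types false

universe u

open CategoryTheory Limits AlgebraicGeometry LambdaRing Polynomial

noncomputable section

namespace Groth.Agent.PBK5

section Transport

variable {A B : Type (u + 1)} [CommRing A] [CommRing B] [LambdaOps B] (Φ : A ≃+* B)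

/-- Transport of lambda-operations. -/
@[reducible] def pullOps : LambdaOps A where
  lam i x := Φ.symm (LambdaOps.lam i (Φ x))
  lam_zero x := by rw [LambdaOps.lam_zero, map_one]
  lam_one x := by rw [LambdaOps.lam_one, RingEquiv.symm_apply_apply]
  lam_add k x y := by simp only [map_add, LambdaOps.lam_add, map_sum, map_mul]

theorem pullOps_lam (i : ℕ) (x : A) : (pullOps Φ).lam i x = Φ.symm (LambdaOps.lam i (Φ x)) := rfl

/-- Transport of positive structures. -/
@[reducible] def pullPos (PB : PosStructure B) : @PosStructure A _ (pullOps Φ) :=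
  letI := pullOps Φ
  { aug := PB.aug.comp Φ.toRingHom
    aug_surjective := fun z => by
      obtain ⟨b, hb⟩ := PB.aug_surjective z
      exact ⟨Φ.symm b, by simpa using hb⟩
    pos := Φ ⁻¹' PB.pos
    add_mem := fun e f he hf => by
      show Φ (e + f) ∈ PB.pos
      rw [map_add]; exact PB.add_mem _ _ he hf
    mul_mem := fun e f he hf => by
      show Φ (e * f) ∈ PB.pos
      rw [map_mul]; exact PB.mul_mem _ _ he hf
    natCast_mem := fun n hn => by
      show Φ n ∈ PB.pos
      rw [map_natCast]; exact PB.natCast_mem n hn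
    exists_sub := fun x => by
      obtain ⟨e, f, he, hf, h⟩ := PB.exists_sub (Φ x)
      refine ⟨Φ.symm e, Φ.symm f, ?_, ?_, ?_⟩
      · simpa using he
      · simpa using hf
      · rw [← map_sub, ← h, RingEquiv.symm_apply_apply]
    aug_pos := fun e he => PB.aug_pos _ he
    lam_eq_zero := fun e he i hi => by
      rw [pullOps_lam, PB.lam_eq_zero _ he i hi, map_zero]
    isUnit_lam := fun e he => by
      rw [pullOps_lam]
      exact (PB.isUnit_lam _ he).map Φ.symm }

/-- Transport of models. -/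
theorem isModel_pull {X : Scheme.{u}} {PB : PosStructure B} {φ : SGA6.Kvb X →+ B} (h : KRR.IsModel X B PB φ) :
    @KRR.IsModel X A _ (pullOps Φ) (pullPos Φ PB) (Φ.symm.toAddMonoidHom.comp φ) := by
  letI := pullOps Φ
  refine ⟨Φ.symm.bijective.comp h.bijective, ?_, fun E F hE hF => ?_, fun i E L hE hL hEL => ?_,
    fun n E hE => ?_, fun x => ?_⟩
  · show Φ.symm (φ _) = 1
    rw [h.map_one, map_one]
  · show Φ.symm (φ _) * Φ.symm (φ _) = Φ.symm (φ _)
    rw [← map_mul, h.map_mul E F hE hF]
  · show Φ.symm (LambdaOps.lam i (Φ (Φ.symm (φ _)))) = Φ.symm (φ _)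
    rw [RingEquiv.apply_symm_apply, h.map_lam i E L hE hL hEL]
  · show PB.aug (Φ (Φ.symm (φ _))) = n
    rw [RingEquiv.apply_symm_apply, h.aug_cl n E hE]
  · show Φ x ∈ PB.pos ↔ _
    rw [h.mem_pos_iff]
    refine exists_congr fun n => exists_congr fun E => and_congr_right fun _ => and_congr_right fun _ => ?_
    exact (Φ.toEquiv.symm_apply_eq).symm

end Transport

variable {X P : Scheme.{u}} [ConnectedSpace X] [CompactSpace X] [ConnectedSpace P] [CompactSpace P]
  {r : ℕ} {E : X.Modules} {π : P ⟶ X} {O1 Q : P.Modules} {q : (Scheme.Modules.pullback π).obj E ⟶ O1}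
  {KX : Type (u + 1)} [CommRing KX] [LambdaOps KX] {PX : PosStructure KX} {φX : SGA6.Kvb X →+ KX}
  {KP : Type (u + 1)} [CommRing KP] [LambdaOps KP] {PP : PosStructure KP} {φP : SGA6.Kvb P →+ KP}
  {g : KX →+ KP}

/-- The gamma filtration restricts to that of the base. -/
theorem comap_filtration_step (hPB : KRR.IsProjBundle π E O1 q) (hE : FlatMod.IsFinLocFreeOfRank (r + 1) E)
    (hQ : FlatMod.IsFinLocFreeOfRank r Q) (hcl : pullHom π (KRR.cl X E) = KRR.cl P Q + KRR.cl P O1)
    (hX : KRR.IsModel X KX PX φX) (hP : KRR.IsModel P KP PP φP) (hg : KRR.IsPull π φX φP g) (k : ℕ)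
    {x : KX} (hx : g x ∈ gammaFiltration PP k) : x ∈ gammaFiltration PX k := by
  letI := ExtFil4.kvbRing P
  let e : KX := φX (KRR.cl X E)
  let ℓ : KP := φP (KRR.cl P O1)
  let b : ℕ → KP := fun i => LambdaOps.lam i (φP (KRR.cl P Q))
  have he : e ∈ PX.pos := (hX.mem_pos_iff _).2 ⟨r + 1, E, by omega, hE, rfl⟩
  have hr : PX.aug e = r + 1 := by
    rw [hX.aug_cl _ E hE]; push_cast; rfl
  have hℓ : PP.IsLine ℓ := ⟨(hP.mem_pos_iff _).2 ⟨1, O1, le_rfl, hPB.invertible, rfl⟩, by
    simpa using hP.aug_cl 1 O1 hPB.invertible⟩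
  have hb : b (r + 1) = 0 := by
    rcases Nat.eq_zero_or_pos r with rfl | hr0
    · show LambdaOps.lam 1 (φP (KRR.cl P Q)) = 0
      rw [LambdaOps.lam_one, show KRR.cl P Q = 0 from cl_of_isZero (AmpleElt5.isZero_of_rank_zero hQ), map_zero]
    · refine PP.lam_eq_zero _ ((hP.mem_pos_iff _).2 ⟨r, Q, hr0, hQ, rfl⟩) _ ?_
      rw [hP.aug_cl _ Q hQ]; push_cast; omega
  have hge : g e = φP (KRR.cl P Q) + ℓ := by
    rw [show e = φX (KRR.cl X E) from rfl, isPull_apply hg, hcl, map_add]
  let gr := pullRingHom hX hP hg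
  have ha : ∀ i, gr (LambdaOps.lam (i + 1) e) = b (i + 1) + b i * ℓ := fun i => by
    rw [pullRingHom_apply, pull_lam hX hP hg, hge, LambdaOps.lam_add, Finset.sum_range_succ, Finset.sum_range_succ,
      Finset.sum_eq_zero fun j hj => by
        rw [Lambda.line_lam PP hℓ (i + 1 - j) (by simp only [Finset.mem_range] at hj; omega), mul_zero],
      Nat.sub_self, LambdaOps.lam_zero, mul_one, show i + 1 - i = 1 by omega, LambdaOps.lam_one, zero_add, add_comm]
  have htel : ∀ j, j ≤ r + 1 → ∑ i ∈ Finset.range (j + 1), gr ((-1 : KX) ^ i * LambdaOps.lam i e) * ℓ ^ (r + 1 - i) =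
      (-1) ^ j * b j * ℓ ^ (r + 1 - j) := by
    intro j hj
    induction j with
    | zero =>
      simp only [zero_add, Finset.sum_range_one, pow_zero, one_mul, LambdaOps.lam_zero, map_one, Nat.sub_zero, b]
    | succ j ih =>
      rw [Finset.sum_range_succ, ih (by omega), map_mul, map_pow, map_neg, map_one, ha,
        show r + 1 - j = (r + 1 - (j + 1)) + 1 by omega]
      ring
  have hm : (PX.aug e).toNat = r + 1 := by omega
  have heval : (KRR.extPoly PX e).eval₂ gr ℓ = 0 := by
    simp only [KRR.extPoly, hm, eval₂_finsetSum, eval₂_mul, eval₂_C, eval₂_X_pow]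
    rw [htel (r + 1) le_rfl, hb, mul_zero, zero_mul]
  have hdeg : (KRR.extPoly PX e).Monic ∧ (KRR.extPoly PX e).natDegree ≤ r + 1 ∧
      (KRR.extPoly PX e).coeff (r + 1) = 1 := by
    have hc : (KRR.extPoly PX e).coeff (r + 1) = 1 := by
      simp only [KRR.extPoly, hm, finsetSum_coeff, coeff_C_mul_X_pow]
      rw [Finset.sum_eq_single 0]
      · simp [LambdaOps.lam_zero]
      · intro i hi hi0; rw [if_neg (by simp only [Finset.mem_range] at hi; omega)]
      · intro h; simp at h
    have hd : (KRR.extPoly PX e).natDegree ≤ r + 1 := by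
      simp only [KRR.extPoly, hm]
      refine natDegree_sum_le_of_forall_le _ _ fun i _ => (natDegree_C_mul_X_pow_le _ _).trans (by omega)
    exact ⟨monic_of_natDegree_le_of_coeff_eq_one (r + 1) hd hc, hd, hc⟩
  obtain ⟨hmon, hd, hc1⟩ := hdeg
  haveI : Nontrivial KX := by
    obtain ⟨z, hz⟩ := PX.aug_surjective 1
    exact ⟨z, 0, fun h => by rw [h, map_zero] at hz; exact zero_ne_one hz⟩
  have hnd : (KRR.extPoly PX e).natDegree = r + 1 :=
    le_antisymm hd (le_natDegree_of_ne_zero (by rw [hc1]; exact one_ne_zero))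
  have hbij := bijective_model (φT := φX) hPB hE hX hP hg
  let Φ₀ : AdjoinRoot (KRR.extPoly PX e) →+* KP := AdjoinRoot.lift gr ℓ heval
  have hlow : ∀ p : KX[X], p.natDegree ≤ r → Φ₀ (AdjoinRoot.mk _ p) =
      ∑ i : Fin (r + 1), g (p.coeff i) * ℓ ^ (i : ℕ) := fun p hp => by
    rw [AdjoinRoot.lift_mk, eval₂_eq_sum_range' gr (n := r + 1) (by omega), Finset.sum_range]
    rfl
  have hΦinj : Function.Injective Φ₀ := by
    refine (injective_iff_map_eq_zero _).2 fun z hz => ?_
    induction z using AdjoinRoot.induction_on with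
    | ih p =>
      have hp' : (p %ₘ KRR.extPoly PX e).natDegree ≤ r := by
        have := natDegree_modByMonic_lt p hmon (fun h => by rw [h, natDegree_one] at hnd; omega)
        omega
      have hmk : AdjoinRoot.mk (KRR.extPoly PX e) p = AdjoinRoot.mk _ (p %ₘ KRR.extPoly PX e) := by
        rw [AdjoinRoot.mk_eq_mk, modByMonic_eq_sub_mul_div, sub_sub_cancel]
        exact dvd_mul_right _ _
      rw [hmk] at hz ⊢
      rw [hlow _ hp'] at hz
      have h0 := hbij.1 (a₁ := fun i : Fin (r + 1) => (p %ₘ KRR.extPoly PX e).coeff i) (a₂ := 0)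
        (hz.trans (by simp))
      rw [show p %ₘ KRR.extPoly PX e = 0 from Polynomial.ext fun i => by
        by_cases hi : i < r + 1
        · exact (congrFun h0 ⟨i, hi⟩).trans (coeff_zero i).symm
        · rw [coeff_eq_zero_of_natDegree_lt (by omega), coeff_zero], map_zero]
  have hΦsur : Function.Surjective Φ₀ := fun y => by
    obtain ⟨a, rfl⟩ := hbij.2 y
    refine ⟨∑ i : Fin (r + 1), AdjoinRoot.of _ (a i) * AdjoinRoot.root _ ^ (i : ℕ), ?_⟩
    simp only [map_sum, map_mul, map_pow, Φ₀, AdjoinRoot.lift_of, AdjoinRoot.lift_root]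
    rfl
  let Φ := RingEquiv.ofBijective Φ₀ ⟨hΦinj, hΦsur⟩
  have hΦof : ∀ c, Φ (AdjoinRoot.of _ c) = g c := fun c => AdjoinRoot.lift_of heval
  letI := pullOps Φ
  let PA := pullPos Φ PP
  have hA := isModel_pull Φ hP
  have hs := hasSplitting hA
  have hext : IsExtension PX PA (AdjoinRoot.of (KRR.extPoly PX e)) := by
    refine ⟨fun i c => ?_, fun c c' h => ?_, fun c => ?_, fun c hc => ?_⟩
    · rw [pullOps_lam, hΦof, ← pull_lam hX hP hg, ← hΦof, RingEquiv.symm_apply_apply]
    · obtain ⟨a, rfl⟩ := hX.bijective.2 c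
      obtain ⟨a', rfl⟩ := hX.bijective.2 c'
      obtain ⟨W, ⟨eW⟩⟩ := exists_tw' hPB.invertible
      obtain ⟨hB, ⟨K⟩⟩ := exists_data hPB hE W eW
      have h' := congrArg Φ h
      rw [hΦof, hΦof, isPull_apply hg, isPull_apply hg] at h'
      exact congrArg φX (injective_pullHom hB K (hP.bijective.1 h'))
    · show PP.aug (Φ _) = _
      rw [hΦof]; exact pull_aug hX hP hg c
    · show Φ _ ∈ PP.pos
      rw [hΦof]; exact pull_pos hX hP hg hc
  have hline : PA.IsLine (AdjoinRoot.root (KRR.extPoly PX e)) := by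
    have h1 : Φ (AdjoinRoot.root (KRR.extPoly PX e)) = ℓ := AdjoinRoot.lift_root heval
    exact ⟨show Φ _ ∈ PP.pos by rw [h1]; exact hℓ.1, show PP.aug (Φ _) = 1 by rw [h1]; exact hℓ.2⟩
  have hxA : AdjoinRoot.of (KRR.extPoly PX e) x ∈ gammaFiltration PA k := by
    have h1 := map_gammaFiltration (PA := PP) (PB := PA) Φ.symm.toRingHom
      (fun n y => by show Φ.symm _ = Φ.symm (LambdaOps.lam n (Φ (Φ.symm y))); rw [RingEquiv.apply_symm_apply])
      (fun y => by show PP.aug (Φ (Φ.symm y)) = _; rw [RingEquiv.apply_symm_apply]) k hx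
    rwa [← hΦof, show Φ.symm.toRingHom (Φ (AdjoinRoot.of _ x)) = AdjoinRoot.of _ x from
      Φ.symm_apply_apply _] at h1
  rw [Lambda.gammaFiltration_elementary he hr PA hext hline hs] at hxA
  -- read off the constant term
  have hrep : ∀ z ∈ Lambda.extFil PX e r k, ∃ p : KX[X], p.natDegree ≤ r ∧
      AdjoinRoot.mk (KRR.extPoly PX e) p = z ∧ p.eval 1 ∈ gammaFiltration PX k := by
    intro z hz
    let G : AddSubgroup (AdjoinRoot (KRR.extPoly PX e)) :=
      { carrier := {z | ∃ p : KX[X], p.natDegree ≤ r ∧ AdjoinRoot.mk (KRR.extPoly PX e) p = z ∧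
          p.eval 1 ∈ gammaFiltration PX k}
        zero_mem' := ⟨0, by simp, map_zero _, by simp⟩
        add_mem' := by
          rintro _ _ ⟨p, hp, rfl, hp1⟩ ⟨p', hp', rfl, hp1'⟩
          exact ⟨p + p', (natDegree_add_le _ _).trans (max_le hp hp'), map_add _ _ _,
            by rw [eval_add]; exact add_mem hp1 hp1'⟩
        neg_mem' := by
          rintro _ ⟨p, hp, rfl, hp1⟩
          exact ⟨-p, by rwa [natDegree_neg], map_neg _ _, by rw [eval_neg]; exact neg_mem hp1⟩ }
    refine (iSup₂_le fun i hi => AddSubgroup.map_le_iff_le_comap.2 fun a ha => ?_ :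
      Lambda.extFil PX e r k ≤ G) hz
    refine ⟨C a * (Polynomial.X - 1) ^ i, ?_, ?_, ?_⟩
    · refine natDegree_mul_le.trans ?_
      rw [natDegree_C, zero_add]
      refine natDegree_pow_le.trans ?_
      rw [show (1 : KX[X]) = C 1 from C_1.symm, natDegree_X_sub_C]
      simp only [Finset.mem_range] at hi
      omega
    · rw [map_mul, map_pow, map_sub, map_one, AdjoinRoot.mk_C, AdjoinRoot.mk_X]
      rfl
    · rcases Nat.eq_zero_or_pos i with rfl | hi0
      · simpa using ha
      · simp [zero_pow (show i ≠ 0 by omega)]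
  obtain ⟨p, hp, hpx, hp1⟩ := hrep _ hxA
  have hpe : p = C x := by
    have h := congrArg Φ₀ hpx
    rw [hlow p hp, show AdjoinRoot.of (KRR.extPoly PX e) x = AdjoinRoot.mk _ (C x) from (AdjoinRoot.mk_C x).symm,
      hlow (C x) (by simp)] at h
    have h0 := hbij.1 (a₁ := fun i : Fin (r + 1) => p.coeff i) (a₂ := fun i : Fin (r + 1) => (C x).coeff i) h
    refine Polynomial.ext fun i => ?_
    by_cases hi : i < r + 1
    · exact congrFun h0 ⟨i, hi⟩
    · rw [coeff_eq_zero_of_natDegree_lt (by omega), coeff_eq_zero_of_natDegree_lt (by rw [natDegree_C]; omega)]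
  rwa [hpe, eval_C] at hp1

end Groth.Agent.PBK5
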