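import Groth.Agent.Lib.PBK5.Elem

/-! Filtrations of rings presented as elementary extensions. -/

set_option autoImplicit false
set_option linter.style.haveILetI false
set_option backward.isDefEq.respectTransparency false
set_option backward.isDefEq.respectTransparency.types false

universe u

open CategoryTheory Limits AlgebraicGeometry LambdaRing Polynomial

noncomputable section

namespace Groth.Agent.PBK5

variable {X P : Scheme.{u}} [ConnectedSpace P] [CompactSpace P] {π : P ⟶ X} {r : ℕ}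
  {KX : Type (u + 1)} [CommRing KX] [LambdaOps KX] {PX : PosStructure KX} {φX : SGA6.Kvb X →+ KX}
  {KP : Type (u + 1)} [CommRing KP] [LambdaOps KP] {PP : PosStructure KP} {φP : SGA6.Kvb P →+ KP}
  {g : KX →+ KP}

omit [ConnectedSpace P] [CompactSpace P] in
/-- An elementary extension presented by a line element and a relation. -/
theorem exists_elem (hX : KRR.IsModel X KX PX φX) (hP : KRR.IsModel P KP PP φP)
    (hg : KRR.IsPull π φX φP g) {e : KX} (hr : PX.aug e = r + 1) {ℓ : KP} (hℓ : PP.IsLine ℓ)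
    (hbij : Function.Bijective fun a : Fin (r + 1) → KX => ∑ i : Fin (r + 1), g (a i) * ℓ ^ (i : ℕ))
    (heval : (KRR.extPoly PX e).eval₂ (pullRingHom hX hP hg) ℓ = 0) :
    ∃ Φ : AdjoinRoot (KRR.extPoly PX e) ≃+* KP, (∀ c, Φ (AdjoinRoot.of _ c) = g c) ∧
      Φ (AdjoinRoot.root _) = ℓ ∧
      @IsExtension _ _ _ _ _ (pullOps Φ) PX (pullPos Φ PP) (AdjoinRoot.of (KRR.extPoly PX e)) ∧
      @PosStructure.IsLine _ _ (pullOps Φ) (pullPos Φ PP) (AdjoinRoot.root (KRR.extPoly PX e)) := by
  let gr := pullRingHom hX hP hg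
  have hm : (PX.aug e).toNat = r + 1 := by omega
  have hdeg : (KRR.extPoly PX e).Monic ∧ (KRR.extPoly PX e).natDegree ≤ r + 1 ∧
      (KRR.extPoly PX e).coeff (r + 1) = 1 := by
    have hc : (KRR.extPoly PX e).coeff (r + 1) = 1 := by
      simp only [KRR.extPoly, hm, finsetSum_coeff, coeff_C_mul_X_pow]
      rw [Finset.sum_eq_single 0]
      · simp [LambdaOps.lam_zero]
      · intro i hi hi0; rw [if_neg (by simp only [Finset.mem_range] at hi; omega)]
      · intro h; simp at h
    have hd : (KRR.extPoly PX e).natDegree ≤ r + 1 := by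
      simp only [KRR.extPoly, hm]
      refine natDegree_sum_le_of_forall_le _ _ fun i _ => (natDegree_C_mul_X_pow_le _ _).trans (by omega)
    exact ⟨monic_of_natDegree_le_of_coeff_eq_one (r + 1) hd hc, hd, hc⟩
  obtain ⟨hmon, hd, hc1⟩ := hdeg
  haveI : Nontrivial KX := by
    obtain ⟨z, hz⟩ := PX.aug_surjective 1
    exact ⟨z, 0, fun h => by rw [h, map_zero] at hz; exact zero_ne_one hz⟩
  have hnd : (KRR.extPoly PX e).natDegree = r + 1 :=
    le_antisymm hd (le_natDegree_of_ne_zero (by rw [hc1]; exact one_ne_zero))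
  let Φ₀ : AdjoinRoot (KRR.extPoly PX e) →+* KP := AdjoinRoot.lift gr ℓ heval
  have hlow : ∀ p : KX[X], p.natDegree ≤ r → Φ₀ (AdjoinRoot.mk _ p) =
      ∑ i : Fin (r + 1), g (p.coeff i) * ℓ ^ (i : ℕ) := fun p hp => by
    rw [AdjoinRoot.lift_mk, eval₂_eq_sum_range' gr (n := r + 1) (by omega), Finset.sum_range]
    rfl
  have hΦinj : Function.Injective Φ₀ := by
    refine (injective_iff_map_eq_zero _).2 fun z hz => ?_
    induction z using AdjoinRoot.induction_on with
    | ih p =>
      have hp' : (p %ₘ KRR.extPoly PX e).natDegree ≤ r := by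
        have := natDegree_modByMonic_lt p hmon (fun h => by rw [h, natDegree_one] at hnd; omega)
        omega
      have hmk : AdjoinRoot.mk (KRR.extPoly PX e) p = AdjoinRoot.mk _ (p %ₘ KRR.extPoly PX e) := by
        rw [AdjoinRoot.mk_eq_mk, modByMonic_eq_sub_mul_div, sub_sub_cancel]
        exact dvd_mul_right _ _
      rw [hmk] at hz ⊢
      rw [hlow _ hp'] at hz
      have h0 := hbij.1 (a₁ := fun i : Fin (r + 1) => (p %ₘ KRR.extPoly PX e).coeff i) (a₂ := 0)
        (hz.trans (by simp))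
      rw [show p %ₘ KRR.extPoly PX e = 0 from Polynomial.ext fun i => by
        by_cases hi : i < r + 1
        · exact (congrFun h0 ⟨i, hi⟩).trans (coeff_zero i).symm
        · rw [coeff_eq_zero_of_natDegree_lt (by omega), coeff_zero], map_zero]
  have hΦsur : Function.Surjective Φ₀ := fun y => by
    obtain ⟨a, rfl⟩ := hbij.2 y
    refine ⟨∑ i : Fin (r + 1), AdjoinRoot.of _ (a i) * AdjoinRoot.root _ ^ (i : ℕ), ?_⟩
    simp only [map_sum, map_mul, map_pow, Φ₀, AdjoinRoot.lift_of, AdjoinRoot.lift_root]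
    rfl
  let Φ := RingEquiv.ofBijective Φ₀ ⟨hΦinj, hΦsur⟩
  have hΦof : ∀ c, Φ (AdjoinRoot.of _ c) = g c := fun c => AdjoinRoot.lift_of heval
  letI := pullOps Φ
  let PA := pullPos Φ PP
  have hext : IsExtension PX PA (AdjoinRoot.of (KRR.extPoly PX e)) := by
    refine ⟨fun i c => ?_, fun c c' h => ?_, fun c => ?_, fun c hc => ?_⟩
    · rw [pullOps_lam, hΦof, ← pull_lam hX hP hg, ← hΦof, RingEquiv.symm_apply_apply]
    · have h' := congrArg Φ h
      rw [hΦof, hΦof] at h'
      have h0 : ∀ z, ∑ i : Fin (r + 1), g ((Pi.single 0 z : Fin (r + 1) → KX) i) * ℓ ^ (i : ℕ) = g z := fun z => by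
        rw [Finset.sum_eq_single (0 : Fin (r + 1))]
        · simp
        · intro b _ hb; simp [hb]
        · simp
      simpa using congrFun (hbij.1 (a₁ := Pi.single 0 c) (a₂ := Pi.single 0 c') (by simp only [h0, h'])) 0
    · show PP.aug (Φ _) = _
      rw [hΦof]; exact pull_aug hX hP hg c
    · show Φ _ ∈ PP.pos
      rw [hΦof]; exact pull_pos hX hP hg hc
  have hline : PA.IsLine (AdjoinRoot.root (KRR.extPoly PX e)) := by
    have h1 : Φ (AdjoinRoot.root (KRR.extPoly PX e)) = ℓ := AdjoinRoot.lift_root heval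
    exact ⟨show Φ _ ∈ PP.pos by rw [h1]; exact hℓ.1, show PP.aug (Φ _) = 1 by rw [h1]; exact hℓ.2⟩
  exact ⟨Φ, hΦof, AdjoinRoot.lift_root heval, hext, hline⟩

/-- The filtration of an elementary extension is spanned by the powers of `ℓ - 1`. -/
theorem filtration_induction (hX : KRR.IsModel X KX PX φX) (hP : KRR.IsModel P KP PP φP)
    (hg : KRR.IsPull π φX φP g) {e : KX} (he : e ∈ PX.pos) (hr : PX.aug e = r + 1) {ℓ : KP} (hℓ : PP.IsLine ℓ)
    (hbij : Function.Bijective fun a : Fin (r + 1) → KX => ∑ i : Fin (r + 1), g (a i) * ℓ ^ (i : ℕ))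
    (heval : (KRR.extPoly PX e).eval₂ (pullRingHom hX hP hg) ℓ = 0) (k : ℕ) (G : AddSubgroup KP)
    (hG : ∀ i, i ≤ r → ∀ a ∈ gammaFiltration PX (k - i), g a * (ℓ - 1) ^ i ∈ G)
    {z : KP} (hz : z ∈ gammaFiltration PP k) : z ∈ G := by
  obtain ⟨Φ, hΦof, hroot, hext, hline⟩ := exists_elem hX hP hg hr hℓ hbij heval
  letI := pullOps Φ
  let PA := pullPos Φ PP
  have hs := hasSplitting (isModel_pull Φ hP)
  have hxA : Φ.symm z ∈ gammaFiltration PA k := by
    have h1 := map_gammaFiltration (PA := PP) (PB := PA) Φ.symm.toRingHom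
      (fun n y => by show Φ.symm _ = Φ.symm (LambdaOps.lam n (Φ (Φ.symm y))); rw [RingEquiv.apply_symm_apply])
      (fun y => by show PP.aug (Φ (Φ.symm y)) = _; rw [RingEquiv.apply_symm_apply]) k hz
    exact h1
  rw [Lambda.gammaFiltration_elementary he hr PA hext hline hs] at hxA
  have hle : Lambda.extFil PX e r k ≤ G.comap Φ.toAddMonoidHom := by
    refine iSup₂_le fun i hi => AddSubgroup.map_le_iff_le_comap.2 fun a ha => ?_
    show Φ (AdjoinRoot.of _ a * (AdjoinRoot.root _ - 1) ^ i) ∈ G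
    rw [map_mul, map_pow, map_sub, map_one, hΦof, hroot]
    exact hG i (Nat.lt_succ_iff.1 (Finset.mem_range.1 hi)) a ha
  have := hle hxA
  have h2 : Φ (Φ.symm z) ∈ G := this
  rwa [RingEquiv.apply_symm_apply] at h2

end Groth.Agent.PBK5
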