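import Groth.Agent.Lib.PBK5.PushCl

/-! Enough locally free modules on projective space and on closed subschemes. -/

set_option autoImplicit false
set_option linter.style.haveILetI false
set_option backward.isDefEq.respectTransparency false
set_option backward.isDefEq.respectTransparency.types false

universe u

open CategoryTheory Limits AlgebraicGeometry Scheme.Modules

noncomputable section

namespace Groth.Agent.PBK5

open Groth.Agent.CMReg18 (overData)

variable {X Y : Scheme.{u}}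

/-- Closed subschemes inherit enough locally free modules. -/
theorem hasEnoughLocFree_closed [IsNoetherian Y] (i : X ⟶ Y) [IsClosedImmersion i] (hY : KRR.HasEnoughLocFree Y) :
    KRR.HasEnoughLocFree X := fun F hF => by
  obtain ⟨E, p, hE, hp⟩ := hY _ (CohFound.isCoh_push_closedImm i hF)
  haveI := CohFound.isIso_counit_closedImm i F hF.1
  exact ⟨_, (Scheme.Modules.pullback i).map p ≫ (Scheme.Modules.pullbackPushforwardAdjunction i).counit.app F,
    M2.isFinLocFree_pullback i hE, epi_comp _ _⟩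

/-- Some positive twist is generated relative to the base. -/
theorem exists_epi_counit_tw (n : ℕ) [IsNoetherian Y] {F : (KRR.PY n Y).Modules} (hF : Coh.IsCoh F) :
    ∃ N : ℤ, Epi ((Scheme.Modules.pullbackPushforwardAdjunction (KRR.pr n Y)).counit.app (KRR.twF n Y N F)) := by
  classical
  let π := CohB1.ProjSpaceOver.toBase n Y
  have h : ∀ W : Y.affineOpens, ∃ n₀ : ℤ, ∀ a, n₀ ≤ a →
      Curv2.IsGloballyGenerated ((CMReg18.wdata n W.1).tw (F.restrict (π ⁻¹ᵁ W.1).ι) a) := fun W => by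
    letI := CBC10.overU π W.2
    exact (CMReg18.wdata n W.1).exists_gg_large
      (Amp.isAmple_of_iso ((Scheme.Modules.restrictFunctorIsoPullback _).app _) ((CMReg18.isRelAmple_O1 n Y).2 W))
      (CBC10.isCoh_resU hF)
  choose n₀ hn₀ using h
  obtain ⟨t, ht⟩ := isCompact_univ.elim_finite_subcover (fun W : Y.affineOpens => (W.1 : Set Y))
    (fun W => W.1.isOpen) (fun y _ => by
      obtain ⟨W, hW, hy, -⟩ := exists_isAffineOpen_mem_and_subset (X := Y) (x := y) (U := ⊤) trivial
      exact Set.mem_iUnion.2 ⟨⟨W, hW⟩, hy⟩)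
  refine ⟨((t.sup fun W => (n₀ W).toNat : ℕ) : ℤ), VA11.epi_counit_of_cover π _ (fun W : (↥t) => W.1.1) (fun x => ?_) fun W => ?_⟩
  · obtain ⟨W, hW, hx⟩ := Set.mem_iUnion₂.1 (ht (Set.mem_univ (π x)))
    exact ⟨⟨W, hW⟩, hx⟩
  · have hle : n₀ W.1 ≤ ((t.sup fun W => (n₀ W).toNat : ℕ) : ℤ) := by
      have := Finset.le_sup (f := fun W : Y.affineOpens => (n₀ W).toNat) W.2
      omega
    obtain ⟨κ, p, hp⟩ := hn₀ W.1 _ hle
    exact ⟨κ, p ≫ (CMReg18.wTwIso F _ W.1.1).inv, epi_comp _ _⟩

/-- Projective spaces inherit enough locally free modules. -/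
theorem hasEnoughLocFree_PY (n : ℕ) [IsNoetherian Y] (hY : KRR.HasEnoughLocFree Y) :
    KRR.HasEnoughLocFree (KRR.PY n Y) := fun F hF => by
  haveI : IsProper (KRR.pr n Y) := inferInstanceAs (IsProper (CohB1.ProjSpaceOver.toBase n Y))
  haveI : IsLocallyNoetherian (KRR.PY n Y) := LocallyOfFiniteType.isLocallyNoetherian (KRR.pr n Y)
  obtain ⟨N, hN⟩ := exists_epi_counit_tw n hF
  haveI := hN
  let D := overData n Y
  have hG : Coh.IsCoh (KRR.twF n Y N F) := by
    have h := (M1.isCoh_iff_isFP _).2 (CMReg18.isFP_tensor_inv ((M1.isCoh_iff_isFP F).1 hF) (D.inv N))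
    exact ⟨M1.isQCoh_of_isIso (CMReg18.twFIso n Y N F).symm h.1, M1.isFT_of_isIso (CMReg18.twFIso n Y N F).symm h.2⟩
  obtain ⟨E, p, hE, hp⟩ := hY _ (CMReg18.isCoh_push (KRR.pr n Y) hG)
  haveI := hp
  haveI : PreservesFiniteColimits (M2.tensorR (D.O (-N))) :=
    (LFResK5.preservesFinite_tensorR (M2.isFinLocFree_of_isInvertible (D.inv (-N)))).2
  refine ⟨_, (M2.tensorR (D.O (-N))).map ((Scheme.Modules.pullback (KRR.pr n Y)).map p ≫
      (Scheme.Modules.pullbackPushforwardAdjunction (KRR.pr n Y)).counit.app (KRR.twF n Y N F)) ≫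
    ((M2.tensorR (D.O (-N))).mapIso (CMReg18.twFIso n Y N F) ≪≫ D.twTwist F N (-N) ≪≫ D.twIso F (by omega) ≪≫
      D.twZero F).hom, M2.isFinLocFree_tensor (M2.isFinLocFree_pullback _ hE)
        (M2.isFinLocFree_of_isInvertible (D.inv (-N))), ?_⟩
  exact epi_comp _ _

end Groth.Agent.PBK5
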