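import Groth.Agent.Lib.PBK5.PushFun

/-! Independence of the factorisation and composition for the push-forwards. -/

set_option autoImplicit false
set_option linter.style.haveILetI false
set_option backward.isDefEq.respectTransparency false
set_option backward.isDefEq.respectTransparency.types false
set_option maxHeartbeats 1600000

universe u

open CategoryTheory Limits AlgebraicGeometry

noncomputable section

namespace Groth.Agent.PBK5

open Groth.Agent.CMReg18 (kPush)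
open Groth.Agent.LFResK5 (pushK)

attribute [local instance] ExtFil4.kvbRing

variable {n m : ℕ} {X Y B : Scheme.{u}}

theorem isNoetherian_PY (n : ℕ) (B : Scheme.{u}) [IsNoetherian B] : IsNoetherian (KRR.PY n B) := by
  haveI : IsProper (KRR.pr n B) := inferInstanceAs (IsProper (CohB1.ProjSpaceOver.toBase n B))
  haveI : IsLocallyNoetherian (KRR.PY n B) := LocallyOfFiniteType.isLocallyNoetherian (KRR.pr n B)
  haveI : CompactSpace (KRR.PY n B) := QuasiCompact.compactSpace_of_compactSpace (KRR.pr n B)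
  exact {}

theorem projMap_pr (n : ℕ) (φ : X ⟶ Y) : KRR.projSpaceMap n φ ≫ KRR.pr n Y = KRR.pr n X ≫ φ :=
  (CMReg18.isPullback_projMap n φ).w

theorem projMap_comp (n : ℕ) (φ : X ⟶ Y) (ψ : Y ⟶ B) :
    KRR.projSpaceMap n φ ≫ KRR.projSpaceMap n ψ = KRR.projSpaceMap n (φ ≫ ψ) := by
  apply pullback.hom_ext <;> simp [KRR.projSpaceMap]

/-- The section of the graph of `h` over `i`. -/
def graphSec (i : X ⟶ KRR.PY n B) (h : X ⟶ KRR.PY m B) (e : h ≫ KRR.pr m B = i ≫ KRR.pr n B) :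
    X ⟶ KRR.PY m X :=
  (CMReg18.isPullback_projMap m (i ≫ KRR.pr n B)).lift h (𝟙 X) (e.trans (Category.id_comp _).symm)

theorem graphSec_pr (i : X ⟶ KRR.PY n B) (h : X ⟶ KRR.PY m B) (e : h ≫ KRR.pr m B = i ≫ KRR.pr n B) :
    graphSec i h e ≫ KRR.pr m X = 𝟙 X :=
  (CMReg18.isPullback_projMap m (i ≫ KRR.pr n B)).lift_snd _ _ _

/-- The graph, in `P^m` over `P^n`. -/
def graph (i : X ⟶ KRR.PY n B) (h : X ⟶ KRR.PY m B) (e : h ≫ KRR.pr m B = i ≫ KRR.pr n B) :
    X ⟶ KRR.PY m (KRR.PY n B) :=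
  graphSec i h e ≫ KRR.projSpaceMap m i

theorem graph_fst (i : X ⟶ KRR.PY n B) (h : X ⟶ KRR.PY m B) (e : h ≫ KRR.pr m B = i ≫ KRR.pr n B) :
    graph i h e ≫ KRR.pr m (KRR.PY n B) = i := by
  rw [graph, Category.assoc, projMap_pr, ← Category.assoc, graphSec_pr, Category.id_comp]

theorem graph_snd (i : X ⟶ KRR.PY n B) (h : X ⟶ KRR.PY m B) (e : h ≫ KRR.pr m B = i ≫ KRR.pr n B) :
    graph i h e ≫ KRR.projSpaceMap m (KRR.pr n B) = h := by
  rw [graph, Category.assoc, projMap_comp]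
  exact (CMReg18.isPullback_projMap m (i ≫ KRR.pr n B)).lift_fst _ _ _

theorem isRegular_graph [IsNoetherian X] [IsNoetherian B] (i : X ⟶ KRR.PY n B) (hi : Mor2.IsRegularClosedImmersion i)
    (h : X ⟶ KRR.PY m B) (e : h ≫ KRR.pr m B = i ≫ KRR.pr n B) :
    Mor2.IsRegularClosedImmersion (graph i h e) := by
  haveI := isNoetherian_PY n B
  haveI := isNoetherian_PY m (KRR.PY n B)
  haveI := isNoetherian_PY m X
  exact RegImm26.regularClosedImmersion_comp _ _ (isRegularClosedImmersion_section m _ (graphSec_pr i h e))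
    (isRegularClosedImmersion_projMap m i hi)

/-- Projecting the class pushed to the graph gives the class pushed along `i`. -/
theorem kPush_pushK_graph [IsNoetherian X] [IsNoetherian B]
    (i : X ⟶ KRR.PY n B) [IsClosedImmersion i] (hi : Mor2.IsRegularClosedImmersion i) (h : X ⟶ KRR.PY m B)
    (e : h ≫ KRR.pr m B = i ≫ KRR.pr n B) [IsNoetherian (KRR.PY n B)] [IsNoetherian (KRR.PY m (KRR.PY n B))]
    [IsClosedImmersion (graph i h e)] (hc : Mor2.IsRegularClosedImmersion (graph i h e))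
    (hP : KRR.HasEnoughLocFree (KRR.PY n B)) (hT : KRR.HasEnoughLocFree (KRR.PY m (KRR.PY n B))) (a : SGA6.Kvb X) :
    kPush m (KRR.PY n B) (pushK (graph i h e) hc hT a) = pushK i hi hP a := by
  haveI := isNoetherian_PY m X
  have hs := isRegularClosedImmersion_section m _ (graphSec_pr i h e)
  haveI := hs.1
  have hj := isRegularClosedImmersion_projMap m i hi
  haveI := hj.1
  have hX : KRR.HasEnoughLocFree X := hasEnoughLocFree_closed i hP
  have hPX : KRR.HasEnoughLocFree (KRR.PY m X) := hasEnoughLocFree_closed (KRR.projSpaceMap m i) hT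
  show kPush m _ (pushK (graphSec i h e ≫ KRR.projSpaceMap m i) hc hT a) = _
  rw [pushK_comp (graphSec i h e) (KRR.projSpaceMap m i) hs hj hc hPX hT]
  show ((kPush m _).comp (pushK (KRR.projSpaceMap m i) hj hT)) (pushK (graphSec i h e) hs hPX a) = _
  rw [kPush_pushK_projMap' i hi hP hT hj]
  show pushK i hi hP (((kPush m X).comp (pushK (graphSec i h e) hs hPX)) a) = _
  rw [kPush_pushK_section' hX hPX _ hs (graphSec_pr i h e)]
  rfl

/-- The exchange of the two projective spaces. -/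
def swapPY (n m : ℕ) (B : Scheme.{u}) : KRR.PY m (KRR.PY n B) ⟶ KRR.PY n (KRR.PY m B) :=
  (CMReg18.isPullback_projMap n (KRR.pr m B)).lift (KRR.pr m (KRR.PY n B)) (KRR.projSpaceMap m (KRR.pr n B))
    (projMap_pr m (KRR.pr n B)).symm

theorem swapPY_fst (n m : ℕ) (B : Scheme.{u}) :
    swapPY n m B ≫ KRR.projSpaceMap n (KRR.pr m B) = KRR.pr m (KRR.PY n B) :=
  (CMReg18.isPullback_projMap n (KRR.pr m B)).lift_fst _ _ _

theorem swapPY_snd (n m : ℕ) (B : Scheme.{u}) :
    swapPY n m B ≫ KRR.pr n (KRR.PY m B) = KRR.projSpaceMap m (KRR.pr n B) :=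
  (CMReg18.isPullback_projMap n (KRR.pr m B)).lift_snd _ _ _

theorem hom_ext_PY {T : Scheme.{u}} (n : ℕ) (φ : X ⟶ Y) {f g : T ⟶ KRR.PY n X}
    (h1 : f ≫ KRR.projSpaceMap n φ = g ≫ KRR.projSpaceMap n φ) (h2 : f ≫ KRR.pr n X = g ≫ KRR.pr n X) : f = g :=
  (CMReg18.isPullback_projMap n φ).hom_ext h1 h2

theorem swapPY_swapPY (n m : ℕ) (B : Scheme.{u}) : swapPY n m B ≫ swapPY m n B = 𝟙 _ := by
  apply hom_ext_PY m (KRR.pr n B)
  · rw [Category.assoc, swapPY_fst, swapPY_snd, Category.id_comp]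
  · rw [Category.assoc, swapPY_snd, swapPY_fst, Category.id_comp]

instance isIso_swapPY (n m : ℕ) (B : Scheme.{u}) : IsIso (swapPY n m B) :=
  ⟨swapPY m n B, swapPY_swapPY n m B, swapPY_swapPY m n B⟩

/-- Fubini. -/
theorem fubini [IsNoetherian B] [IsNoetherian (KRR.PY n B)] [IsNoetherian (KRR.PY m B)] (w : SGA6.Kvb (KRR.PY n (KRR.PY m B))) :
    kPush n B (kPush m (KRR.PY n B) (pullHom (swapPY n m B) w)) = kPush m B (kPush n (KRR.PY m B) w) := by
  let L : SGA6.Kvb (KRR.PY n (KRR.PY m B)) →+ SGA6.Kvb B :=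
    (kPush n B).comp ((kPush m (KRR.PY n B)).comp (pullHom (swapPY n m B)).toAddMonoidHom)
  suffices H : L = (kPush m B).comp (kPush n (KRR.PY m B)) from DFunLike.congr_fun H w
  refine hom_ext_basis fun a i => ?_
  have key : ((kPush n B).comp ((kPush m (KRR.PY n B)).comp ((pullHom (swapPY n m B)).toAddMonoidHom.comp
      ((AddMonoidHom.mulRight (xi (twPY n (KRR.PY m B)) (i : ℤ))).comp
        (pullHom (KRR.pr n (KRR.PY m B))).toAddMonoidHom)))) =
      (kPush m B).comp ((kPush n (KRR.PY m B)).comp ((AddMonoidHom.mulRight (xi (twPY n (KRR.PY m B)) (i : ℤ))).comp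
        (pullHom (KRR.pr n (KRR.PY m B))).toAddMonoidHom)) := by
    refine hom_ext_basis fun b l => ?_
    show kPush n B (kPush m (KRR.PY n B) (pullHom (swapPY n m B)
      (pullHom (KRR.pr n (KRR.PY m B)) (pullHom (KRR.pr m B) b * xi (twPY m B) (l : ℤ)) *
        xi (twPY n (KRR.PY m B)) (i : ℤ)))) = kPush m B (kPush n (KRR.PY m B)
      (pullHom (KRR.pr n (KRR.PY m B)) (pullHom (KRR.pr m B) b * xi (twPY m B) (l : ℤ)) *
        xi (twPY n (KRR.PY m B)) (i : ℤ)))
    have e : pullHom (swapPY n m B)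
        (pullHom (KRR.pr n (KRR.PY m B)) (pullHom (KRR.pr m B) b * xi (twPY m B) (l : ℤ)) *
          xi (twPY n (KRR.PY m B)) (i : ℤ)) =
        pullHom (KRR.pr m (KRR.PY n B)) (pullHom (KRR.pr n B) b * xi (twPY n B) (i : ℤ)) *
          xi (twPY m (KRR.PY n B)) (l : ℤ) := by
      rw [map_mul, ← pullHom_comp, swapPY_snd, map_mul, pullHom_projMap_xi, ← pullHom_comp, projMap_pr, pullHom_comp,
        ← pullHom_projMap_xi (n := n) (KRR.pr m B) (i : ℤ), ← pullHom_comp (swapPY n m B) (KRR.projSpaceMap n (KRR.pr m B)), swapPY_fst, map_mul]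
      ring
    have c1 : ∀ (c : ℕ) (x : SGA6.Kvb (KRR.PY n B)), kPush n B ((c : SGA6.Kvb (KRR.PY n B)) * x) =
        (c : SGA6.Kvb B) * kPush n B x := fun c x => by rw [← nsmul_eq_mul, ← nsmul_eq_mul, map_nsmul]
    have c2 : ∀ (c : ℕ) (x : SGA6.Kvb (KRR.PY m B)), kPush m B ((c : SGA6.Kvb (KRR.PY m B)) * x) =
        (c : SGA6.Kvb B) * kPush m B x := fun c x => by rw [← nsmul_eq_mul, ← nsmul_eq_mul, map_nsmul]
    rw [e, kPush_basis, kPush_basis, c1, c2, kPush_basis, kPush_basis]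
    ring
  exact DFunLike.congr_fun key a

/-- The push-forward to the base after an exchange. -/
theorem kPush_swap [IsNoetherian X] [IsNoetherian B] [IsNoetherian (KRR.PY n B)] [IsNoetherian (KRR.PY m B)] [IsNoetherian (KRR.PY m (KRR.PY n B))]
    [IsNoetherian (KRR.PY n (KRR.PY m B))] (c : X ⟶ KRR.PY m (KRR.PY n B)) [IsClosedImmersion c]
    (hc : Mor2.IsRegularClosedImmersion c) (c' : X ⟶ KRR.PY n (KRR.PY m B)) [IsClosedImmersion c']
    (hc' : Mor2.IsRegularClosedImmersion c') (e : c ≫ swapPY n m B = c')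
    (hT : KRR.HasEnoughLocFree (KRR.PY m (KRR.PY n B))) (hT' : KRR.HasEnoughLocFree (KRR.PY n (KRR.PY m B)))
    (a : SGA6.Kvb X) :
    kPush n B (kPush m (KRR.PY n B) (pushK c hc hT a)) = kPush m B (kPush n (KRR.PY m B) (pushK c' hc' hT' a)) := by
  subst e
  have hσ := isRegularClosedImmersion_of_isIso (swapPY n m B)
  haveI := hσ.1
  rw [pushK_comp c (swapPY n m B) hc hσ hc' hT hT']
  show _ = kPush m B (kPush n (KRR.PY m B) (pushK _ hσ hT' (pushK c hc hT a)))
  exact (congrArg (fun t => kPush n B (kPush m (KRR.PY n B) t)) (pushK_iso (swapPY n m B) hσ hT' (pushK c hc hT a))).symm.trans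
    (fubini (pushK (swapPY n m B) hσ hT' (pushK c hc hT a)))

/-- Two regular embeddings over the same map give the same push-forward. -/
theorem exchange [IsNoetherian X] [IsNoetherian B]
    [IsNoetherian (KRR.PY n B)] [IsNoetherian (KRR.PY m B)]
    (i₁ : X ⟶ KRR.PY n B) [IsClosedImmersion i₁] (h₁ : Mor2.IsRegularClosedImmersion i₁)
    (i₂ : X ⟶ KRR.PY m B) [IsClosedImmersion i₂] (h₂ : Mor2.IsRegularClosedImmersion i₂)
    (e : i₂ ≫ KRR.pr m B = i₁ ≫ KRR.pr n B) (hP₁ : KRR.HasEnoughLocFree (KRR.PY n B))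
    (hP₂ : KRR.HasEnoughLocFree (KRR.PY m B)) (a : SGA6.Kvb X) :
    kPush n B (pushK i₁ h₁ hP₁ a) = kPush m B (pushK i₂ h₂ hP₂ a) := by
  haveI := isNoetherian_PY m (KRR.PY n B)
  haveI := isNoetherian_PY n (KRR.PY m B)
  have hT := hasEnoughLocFree_PY m hP₁
  have hT' := hasEnoughLocFree_PY n hP₂
  have hc := isRegular_graph i₁ h₁ i₂ e
  have hc' := isRegular_graph i₂ h₂ i₁ e.symm
  haveI := hc.1
  haveI := hc'.1
  have hσ : graph i₁ i₂ e ≫ swapPY n m B = graph i₂ i₁ e.symm := by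
    apply hom_ext_PY n (KRR.pr m B)
    · rw [Category.assoc, swapPY_fst, graph_fst, graph_snd]
    · rw [Category.assoc, swapPY_snd, graph_fst, graph_snd]
  rw [← kPush_pushK_graph i₁ h₁ i₂ e hc hP₁ hT, ← kPush_pushK_graph i₂ h₂ i₁ e.symm hc' hP₂ hT']
  exact kPush_swap _ hc _ hc' hσ hT hT' a

end Groth.Agent.PBK5

namespace Groth.Agent.PBK5

open Groth.Agent.CMReg18 (kPush)
open Groth.Agent.LFResK5 (pushK)

variable {n m : ℕ} {l : ℕ} {X Y Z : Scheme.{u}}

attribute [local instance] ExtFil4.kvbRing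

/-- The push-forward of a composite of two factorised morphisms. -/
theorem kPush_comp [IsNoetherian X] [IsNoetherian Y] [IsNoetherian Z] [IsNoetherian (KRR.PY n Y)]
    [IsNoetherian (KRR.PY m Z)] [IsNoetherian (KRR.PY l Z)]
    (i : X ⟶ KRR.PY n Y) [IsClosedImmersion i] (hi : Mor2.IsRegularClosedImmersion i)
    (j : Y ⟶ KRR.PY m Z) [IsClosedImmersion j] (hj : Mor2.IsRegularClosedImmersion j)
    (k : X ⟶ KRR.PY l Z) [IsClosedImmersion k] (hk : Mor2.IsRegularClosedImmersion k)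
    (e : k ≫ KRR.pr l Z = (i ≫ KRR.pr n Y) ≫ j ≫ KRR.pr m Z)
    (hPn : KRR.HasEnoughLocFree (KRR.PY n Y))
    (hPm : KRR.HasEnoughLocFree (KRR.PY m Z)) (hPl : KRR.HasEnoughLocFree (KRR.PY l Z)) (a : SGA6.Kvb X) :
    kPush l Z (pushK k hk hPl a) =
      kPush m Z (pushK j hj hPm (kPush n Y (pushK i hi hPn a))) := by
  haveI := isNoetherian_PY n (KRR.PY m Z)
  haveI := isNoetherian_PY l (KRR.PY m Z)
  haveI := isNoetherian_PY m (KRR.PY l Z)
  have hB1 := hasEnoughLocFree_PY n hPm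
  have hB2 := hasEnoughLocFree_PY l hPm
  have hT := hasEnoughLocFree_PY m hPl
  have hpj := isRegularClosedImmersion_projMap n j hj
  haveI := hpj.1
  have h₁ : Mor2.IsRegularClosedImmersion (i ≫ KRR.projSpaceMap n j) :=
    RegImm26.regularClosedImmersion_comp _ _ hi hpj
  haveI := h₁.1
  let h : X ⟶ KRR.PY m Z := (i ≫ KRR.pr n Y) ≫ j
  have eh : h ≫ KRR.pr m Z = k ≫ KRR.pr l Z := by rw [e, Category.assoc]
  have hc := isRegular_graph k hk h eh
  haveI := hc.1
  have hσ := isRegularClosedImmersion_of_isIso (swapPY l m Z)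
  haveI := hσ.1
  have h₂ : Mor2.IsRegularClosedImmersion (graph k h eh ≫ swapPY l m Z) :=
    RegImm26.regularClosedImmersion_comp _ _ hc hσ
  haveI := h₂.1
  have e₂ : (graph k h eh ≫ swapPY l m Z) ≫ KRR.pr l (KRR.PY m Z) =
      (i ≫ KRR.projSpaceMap n j) ≫ KRR.pr n (KRR.PY m Z) := by
    rw [Category.assoc, swapPY_snd, graph_snd, Category.assoc, projMap_pr]
    exact Category.assoc _ _ _
  have step : pushK j hj hPm (kPush n Y (pushK i hi hPn a)) =
      kPush n (KRR.PY m Z) (pushK (i ≫ KRR.projSpaceMap n j) h₁ hB1 a) := by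
    rw [pushK_comp i (KRR.projSpaceMap n j) hi hpj h₁ hPn hB1]
    exact (DFunLike.congr_fun (kPush_pushK_projMap' j hj hPm hB1 hpj) (pushK i hi hPn a)).symm
  rw [step, exchange _ h₁ _ h₂ e₂ hB1 hB2, ← kPush_swap (graph k h eh) hc _ h₂ rfl hT hB2,
    kPush_pushK_graph k hk h eh hc hPl hT]

end Groth.Agent.PBK5

namespace Groth.Agent.PBK5

open Groth.Agent.CMReg18 (kPush)
open Groth.Agent.LFResK5 (pushK)

universe v

variable {n : ℕ} {X Y : Scheme.{u}} {KX KY KP : Type v} [CommRing KX] [CommRing KY] [CommRing KP]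
  [LambdaRing.LambdaOps KP] [LambdaRing.LambdaOps KY] {φX : SGA6.Kvb X →+ KX} {φY : SGA6.Kvb Y →+ KY}

/-- The push-forward of a factorised morphism on models. -/
theorem push_factor [IsNoetherian X] [IsNoetherian Y] [IsNoetherian (KRR.PY n Y)] (i : X ⟶ KRR.PY n Y)
    [IsClosedImmersion i] (hi : Mor2.IsRegularClosedImmersion i) (hP : KRR.HasEnoughLocFree (KRR.PY n Y))
    {φP : SGA6.Kvb (KRR.PY n Y) →+ KP} {a : KX →+ KP} (ha : KRR.IsPushCl i φX φP a) {b : KP →+ KY}
    (hb : KRR.IsPushPr n Y φP φY b) (x : SGA6.Kvb X) : b (a (φX x)) = φY (kPush n Y (pushK i hi hP x)) := by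
  have h : a.comp φX = φP.comp (pushK i hi hP) := LFResK5.addHom_ext fun F hF => by
    show a (φX _) = φP (pushK i hi hP _)
    rw [LFResK5.pushK_cl i hi hP hF]
    exact (LFResK5.isPushCl_iff i hi hP φX φP a).1 ha F hF
  rw [show a (φX x) = φP (pushK i hi hP x) from DFunLike.congr_fun h x, CMReg18.push_eq_kPush hb]

end Groth.Agent.PBK5
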