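import Groth.Agent.Lib.PBK5.Split
import Groth.Agent.Lib.RankLoc10.Triv
import Groth.Agent.Lib.ModM1.Push
import Groth.Agent.Lib.DPerf.Top

/-! Bundles of non-constant rank: indicators of clopens and splitting without connectedness. -/

set_option autoImplicit false
set_option linter.style.haveILetI false
set_option backward.isDefEq.respectTransparency false
set_option backward.isDefEq.respectTransparency.types false

universe u

open CategoryTheory Limits AlgebraicGeometry TopologicalSpace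

noncomputable section

namespace Groth.Agent.PBK5

open Groth.Agent.ExtFil4 (cl)
open Groth.Agent.RankLoc10 (rk rk_congr rk_pullback rk_eq_of_isBas isLocallyConstant_rk isFinLocFreeOfRank_of_rk)

attribute [local instance] ExtFil4.kvbRing

variable {X : Scheme.{u}}

theorem rk_of_ofRank {n : ℕ} {M : X.Modules} (hM : FlatMod.IsFinLocFreeOfRank n M) (x : X) : rk M x = n := by
  obtain ⟨D, e, hxD, he⟩ := P1Split.exists_isBas_nhd hM x
  exact rk_eq_of_isBas he hxD

theorem rk_of_isZero {M : X.Modules} (hM : IsZero M) (x : X) : rk M x = 0 := by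
  have h0 : FlatMod.IsFinLocFreeOfRank 0 M := fun x => ⟨⊤, trivial,
    ⟨((Scheme.Modules.restrictFunctor _).map_isZero hM).iso (DPerf.isZero_freeMod_zero _)⟩⟩
  exact rk_of_ofRank h0 x

set_option maxHeartbeats 400000 in
theorem rk_biprod {A B : X.Modules} (hA : FlatMod.IsFinLocFree A) (hB : FlatMod.IsFinLocFree B) (x : X) :
    rk (A ⊞ B) x = rk A x + rk B x := by
  have e : ∀ M : X.Modules, rk M x = KModel5.rk x M := fun M => by
    unfold RankLoc10.rk KModel5.rk
    rfl
  have h := KModel5.rk_ses x (ShortComplex.Splitting.ofHasBinaryBiproduct A B).shortExact hA hB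
  simp only [e]
  exact h

theorem rk_tensor {A B : X.Modules} (hA : FlatMod.IsFinLocFree A) (hB : FlatMod.IsFinLocFree B) (x : X) :
    rk (CohB1.tensorMod A B) x = rk A x * rk B x := by
  let U : X.Opens := ⟨{y | rk A y = rk A x} ∩ {y | rk B y = rk B x},
    ((isLocallyConstant_rk hA).isOpen_fiber _).inter ((isLocallyConstant_rk hB).isOpen_fiber _)⟩
  have hA' : FlatMod.IsFinLocFreeOfRank (rk A x) ((Scheme.Modules.pullback U.ι).obj A) :=
    isFinLocFreeOfRank_of_rk (M2.isFinLocFree_pullback _ hA) fun u => (rk_pullback hA U.ι u).trans u.2.1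
  have hB' : FlatMod.IsFinLocFreeOfRank (rk B x) ((Scheme.Modules.pullback U.ι).obj B) :=
    isFinLocFreeOfRank_of_rk (M2.isFinLocFree_pullback _ hB) fun u => (rk_pullback hB U.ι u).trans u.2.2
  have hx : x ∈ U := ⟨rfl, rfl⟩
  refine (rk_pullback (M2.isFinLocFree_tensor hA hB) U.ι ⟨x, hx⟩).symm.trans ?_
  exact (rk_congr (M2.pullTensorIso U.ι A B).symm (M2.isFinLocFree_tensor (M2.isFinLocFree_of_ofRank hA')
    (M2.isFinLocFree_of_ofRank hB')) _).trans (rk_of_ofRank (M2.isFinLocFreeOfRank_tensor hA' hB') _)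

/-- The module which is trivial on a clopen and zero elsewhere. -/
theorem exists_ind (A : Set X) (hA : IsClopen A) : ∃ C : X.Modules, FlatMod.IsFinLocFree C ∧
    ∀ x, (x ∈ A → rk C x = 1) ∧ (x ∉ A → rk C x = 0) := by
  let U : X.Opens := ⟨A, hA.isOpen⟩
  let V : X.Opens := ⟨Aᶜ, hA.compl.isOpen⟩
  let C := (Scheme.Modules.pushforward U.ι).obj (Coh.structureModule (U : Scheme.{u}))
  have eU : C.restrict U.ι ≅ Coh.structureModule (U : Scheme.{u}) :=
    asIso ((Scheme.Modules.restrictAdjunction U.ι).counit.app _)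
  have hVz : IsZero (C.restrict V.ι) := by
    refine IsZero.of_iso ((Scheme.Modules.pushforward (U.ι ∣_ V)).map_isZero ?_)
      (M1.pushRestrictIso (isPullback_morphismRestrict U.ι V) _)
    haveI : IsEmpty (U.ι ⁻¹ᵁ V : (U : Scheme.{u}).Opens) := ⟨fun p => p.2 p.1.2⟩
    rw [IsZero.iff_id_eq_zero]
    refine Scheme.Modules.hom_ext _ _ fun W => ?_
    ext a
    exact M1.section_ext _ _ fun z _ => (IsEmpty.false (z : (U.ι ⁻¹ᵁ V : (U : Scheme.{u}).Opens))).elim
  have hC : FlatMod.IsFinLocFree C := DPerf.isFinLocFree_of_locally fun x => by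
    by_cases hx : x ∈ A
    · exact ⟨U, U.ι, inferInstance, by rw [Scheme.Opens.range_ι]; exact hx,
        M2.isFinLocFree_of_iso eU.symm ExtFil4.isVB_one⟩
    · exact ⟨V, V.ι, inferInstance, by rw [Scheme.Opens.range_ι]; exact hx, KFlat.Sch.isFinLocFree_of_isZero hVz⟩
  refine ⟨C, hC, fun x => ⟨fun hx => ?_, fun hx => ?_⟩⟩
  · refine (rk_pullback hC U.ι ⟨x, hx⟩).symm.trans ?_
    exact (rk_congr (eU.symm ≪≫ (Scheme.Modules.restrictFunctorIsoPullback U.ι).app C) ExtFil4.isVB_one _).trans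
      (rk_of_ofRank KModel5.rankOne_structureModule _)
  · refine (rk_pullback hC V.ι ⟨x, hx⟩).symm.trans ?_
    exact rk_of_isZero (hVz.of_iso ((Scheme.Modules.restrictFunctorIsoPullback V.ι).app C).symm) _

/-- Classes of bundles of rank at most one. -/
def PL (X : Scheme.{u}) : Set (SGA6.Kvb X) :=
  {c | ∃ M : X.Modules, FlatMod.IsFinLocFree M ∧ (∀ x, rk M x ≤ 1) ∧ cl M = c}

theorem one_mem_PL : (1 : SGA6.Kvb X) ∈ PL X :=
  ⟨_, ExtFil4.isVB_one, fun x => (rk_of_ofRank KModel5.rankOne_structureModule x).le, rfl⟩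

theorem mul_mem_PL {a b : SGA6.Kvb X} (ha : a ∈ PL X) (hb : b ∈ PL X) : a * b ∈ PL X := by
  obtain ⟨M, hM, hMr, rfl⟩ := ha
  obtain ⟨N, hN, hNr, rfl⟩ := hb
  exact ⟨_, M2.isFinLocFree_tensor hM hN,
    fun x => (rk_tensor hM hN x).le.trans (Nat.mul_le_mul (hMr x) (hNr x)), (cl_mul hM hN).symm⟩

theorem pull_mem_closure {Y : Scheme.{u}} (f : Y ⟶ X) {a : SGA6.Kvb X} (ha : a ∈ Subring.closure (PL X)) :
    pullHom f a ∈ Subring.closure (PL Y) := by
  have h : (Subring.closure (PL X)).map (pullHom f) ≤ Subring.closure (PL Y) := by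
    rw [RingHom.map_closure]
    refine Subring.closure_mono ?_
    rintro _ ⟨_, ⟨M, hM, hMr, rfl⟩, rfl⟩
    exact ⟨_, M2.isFinLocFree_pullback f hM, fun y => (rk_pullback hM f y).le.trans (hMr _),
      (pullHom_cl f hM).symm⟩
  exact h ⟨a, ha, rfl⟩

/-- One step of the splitting over any quasi-compact base. -/
theorem exists_step_qc [CompactSpace X] {m : ℕ} {E : X.Modules}
    (hE : FlatMod.IsFinLocFreeOfRank (m + 1) E) :
    ∃ (P : Scheme.{u}) (π : P ⟶ X), CompactSpace P ∧ Function.Injective (pullHom π) ∧ ∃ (Q O1 : P.Modules),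
      FlatMod.IsFinLocFreeOfRank m Q ∧ FlatMod.IsFinLocFreeOfRank 1 O1 ∧ pullHom π (cl E) = cl Q + cl O1 := by
  obtain ⟨P, π, O1, q, hPB, -, hprop, hker⟩ := Cyc26Split.exists_projBundle hE
  haveI := hprop
  haveI := hPB.epi
  obtain ⟨W, ⟨e⟩⟩ := exists_tw' hPB.invertible
  obtain ⟨h, ⟨K⟩⟩ := exists_data hPB hE W e
  haveI : CompactSpace P := QuasiCompact.compactSpace_of_compactSpace π
  refine ⟨P, π, inferInstance, injective_pullHom h K, kernel q, O1, hker, hPB.invertible, ?_⟩
  rw [pullHom_cl π (M2.isFinLocFree_of_ofRank hE)]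
  exact cl_ses (ShortComplex.mk (kernel.ι q) q (kernel.condition q))
    (ShortComplex.ShortExact.mk' (ShortComplex.exact_kernel q) inferInstance inferInstance)
    (M2.isFinLocFree_of_ofRank hker) (M2.isFinLocFree_pullback π (M2.isFinLocFree_of_ofRank hE))
    (M2.isFinLocFree_of_ofRank hPB.invertible)

/-- Constant rank splits into classes of rank one. -/
theorem exists_split_qc : ∀ (m : ℕ) {X : Scheme.{u}} [CompactSpace X] {E : X.Modules},
    FlatMod.IsFinLocFreeOfRank m E → ∃ (X' : Scheme.{u}) (f : X' ⟶ X), CompactSpace X' ∧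
      Function.Injective (pullHom f) ∧ pullHom f (cl E) ∈ Subring.closure (PL X')
  | 0, X, _, E, hE => by
    refine ⟨X, 𝟙 X, inferInstance, fun x y h => by rwa [pullHom_id, pullHom_id] at h, ?_⟩
    rw [pullHom_id, cl_of_isZero (AmpleElt5.isZero_of_rank_zero hE)]
    exact Subring.zero_mem _
  | m + 1, X, _, E, hE => by
    obtain ⟨P, π, hk, hπ, Q, O1, hQ, hO, hcl⟩ := exists_step_qc hE
    obtain ⟨X', g, hk', hg, hmem⟩ := exists_split_qc m hQ
    refine ⟨X', g ≫ π, hk', fun x y h => hπ (hg (by rwa [pullHom_comp, pullHom_comp] at h)), ?_⟩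
    rw [pullHom_comp, hcl, map_add]
    refine Subring.add_mem _ hmem (pull_mem_closure g (Subring.subset_closure ?_))
    exact ⟨O1, M2.isFinLocFree_of_ofRank hO, fun x => (rk_of_ofRank hO x).le, rfl⟩

/-- Completing a bundle to constant rank by classes of rank at most one. -/
theorem exists_complete {N : ℕ} : ∀ (k : ℕ) {E : X.Modules}, FlatMod.IsFinLocFree E → (∀ x, rk E x ≤ N) →
    (∀ x, N ≤ rk E x + k) →
    ∃ E' : X.Modules, FlatMod.IsFinLocFreeOfRank N E' ∧ cl E' - cl E ∈ Subring.closure (PL X)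
  | 0, E, hE, hle, hge => ⟨E, isFinLocFreeOfRank_of_rk hE fun x => le_antisymm (hle x) (by simpa using hge x),
      by rw [sub_self]; exact Subring.zero_mem _⟩
  | k + 1, E, hE, hle, hge => by
    let A : Set X := rk E ⁻¹' {n | n < N}
    have hA : IsClopen A := ⟨⟨(isLocallyConstant_rk hE) {n | n < N}ᶜ⟩, isLocallyConstant_rk hE _⟩
    obtain ⟨C, hC, hCr⟩ := exists_ind A hA
    have hv := KFlat.Sch.isFinLocFree_biprod hE hC
    have h1 : ∀ x, rk (E ⊞ C) x ≤ N := fun x => by
      rw [rk_biprod hE hC]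
      by_cases hx : x ∈ A
      · rw [(hCr x).1 hx]; exact (hx : rk E x < N)
      · rw [(hCr x).2 hx]; exact hle x
    have h2 : ∀ x, N ≤ rk (E ⊞ C) x + k := fun x => by
      rw [rk_biprod hE hC]
      by_cases hx : x ∈ A
      · rw [(hCr x).1 hx]; have := hge x; omega
      · rw [(hCr x).2 hx]
        have : ¬ rk E x < N := hx
        omega
    obtain ⟨E', hE', hmem⟩ := exists_complete k hv h1 h2
    · refine ⟨E', hE', ?_⟩
      have hs : cl (E ⊞ C) = cl E + cl C :=
        cl_ses _ (ShortComplex.Splitting.ofHasBinaryBiproduct E C).shortExact hE hv hC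
      rw [show cl E' - cl E = (cl E' - cl (E ⊞ C)) + cl C by rw [hs]; ring]
      refine Subring.add_mem _ hmem (Subring.subset_closure ⟨C, hC, fun x => ?_, rfl⟩)
      by_cases hx : x ∈ A
      · exact ((hCr x).1 hx).le
      · rw [(hCr x).2 hx]; exact Nat.zero_le 1

/-- Finitely many bundles become polynomials in classes of rank at most one. -/
theorem exists_split_list [CompactSpace X] : ∀ (l : List X.Modules), (∀ E ∈ l, FlatMod.IsFinLocFree E) →
    ∃ (X' : Scheme.{u}) (f : X' ⟶ X), CompactSpace X' ∧ Function.Injective (pullHom f) ∧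
      ∀ E ∈ l, pullHom f (cl E) ∈ Subring.closure (PL X')
  | [], _ => ⟨X, 𝟙 X, inferInstance, fun x y h => by rwa [pullHom_id, pullHom_id] at h, by simp⟩
  | E :: l, hl => by
    obtain ⟨Y, g, hk, hg, hgl⟩ := exists_split_list l fun F hF => hl F (List.mem_cons_of_mem _ hF)
    have hEY := M2.isFinLocFree_pullback g (hl E List.mem_cons_self)
    obtain ⟨N, hN⟩ := (isLocallyConstant_rk hEY).range_finite.bddAbove
    obtain ⟨E', hE', hmem⟩ := exists_complete N hEY (fun x => hN ⟨x, rfl⟩) (fun x => Nat.le_add_left _ _)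
    obtain ⟨X', f, hk', hf, hfE⟩ := exists_split_qc N hE'
    refine ⟨X', f ≫ g, hk', fun x y h => hg (hf (by rwa [pullHom_comp, pullHom_comp] at h)), fun F hF => ?_⟩
    rw [pullHom_comp]
    rcases List.mem_cons.1 hF with rfl | hF
    · rw [pullHom_cl g (hl F List.mem_cons_self),
        show cl ((Scheme.Modules.pullback g).obj F) = cl E' - (cl E' - cl ((Scheme.Modules.pullback g).obj F)) by ring,
        map_sub]
      exact Subring.sub_mem _ hfE (pull_mem_closure f hmem)
    · exact pull_mem_closure f (hgl F hF)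

end Groth.Agent.PBK5
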