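import Groth.Agent.Lib.PBK5.Large
import Groth.Agent.Lib.PBK5.Cx
import Groth.Agent.Lib.KoszShH13.TwistMain
import Groth.Agent.Lib.Wedge2.Top
import Groth.Agent.Lib.ExtFil4.Uniq
import Groth.Agent.Lib.ExtFil4.Lambda
import Groth.Agent.Lib.AmpleFin18.ProjFree
import Groth.Agent.Lib.CohFound.ModQuot

/-! The Koszul relation of a bundle of projective spaces. -/

set_option autoImplicit false
set_option linter.style.haveILetI false
set_option backward.isDefEq.respectTransparency false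
set_option backward.isDefEq.respectTransparency.types false
set_option maxHeartbeats 800000

universe w u

open CategoryTheory Limits AlgebraicGeometry TopologicalSpace Opposite

noncomputable section

namespace Groth.Agent.PBK5

open Groth.Agent.CMReg18

variable {T P : Scheme.{u}}

/-- An exact complex of twisted pullbacks with invertible last term. -/
structure KosData (π : P ⟶ T) (W : Tw P) (n : ℕ) where
  C : ChainComplex P.Modules ℕ
  exact : ∀ x, ExactVia (M1.stalkAb x) C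
  L : ℕ → T.Modules
  hL : ∀ p, FlatMod.IsFinLocFree (L p)
  term : ∀ p, Nonempty (C.X p ≅ W.tw ((Scheme.Modules.pullback π).obj (L p)) (-(p : ℤ)))
  high : ∀ p, n + 1 < p → IsZero (C.X p)
  low : Nonempty (L 0 ≅ Coh.structureModule T)
  top : PicF.IsInvertible (L (n + 1))

variable {π : P ⟶ T} {W : Tw P} {n : ℕ}

theorem pow_iso (m : ℕ) : Nonempty (CohB1.tensorPow (W.O (-1)) m ≅ W.O (-(m : ℤ))) := by
  induction m with
  | zero => exact ⟨W.zero.symm ≪≫ W.idx (by simp)⟩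
  | succ m ih =>
    obtain ⟨i⟩ := ih
    exact ⟨M2.tensorIso i (Iso.refl _) ≪≫ W.add _ _ ≪≫ W.idx (by push_cast; ring)⟩

/-- The Koszul complex of an epimorphism onto `O(1)` from the pullback of a bundle. -/
theorem nonempty_kosData {E : T.Modules} (hE : FlatMod.IsFinLocFreeOfRank (n + 1) E)
    (q : (Scheme.Modules.pullback π).obj E ⟶ W.O 1) [Epi q] : Nonempty (KosData π W n) := by
  have hEl := M2.isFinLocFree_of_ofRank hE
  let E' := (Scheme.Modules.pullback π).obj E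
  let F := W.tw E' (-1)
  have hFl : FlatMod.IsFinLocFree F := isVB_tw (M2.isFinLocFree_pullback π hEl) _
  let e0 : CohB1.tensorMod (W.O 1) (W.O (-1)) ≅ Coh.structureModule P := W.add 1 (-1) ≪≫ W.idx (by norm_num) ≪≫ W.zero
  let s : F ⟶ Coh.structureModule P := M2.tensorMap q (𝟙 (W.O (-1))) ≫ e0.hom
  haveI : Epi (M2.tensorMap q (𝟙 (W.O (-1)))) := CohFound.epi_tensorMap q _
  have hs : Epi s := epi_comp _ _
  obtain ⟨C⟩ := exists_cx hFl s
  choose L hL hLE using fun i => KModel5.hasExt T i E hEl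
  have hq : Coh.IsQCoh E := M1.isFP_isQCoh (M1.isFP_of_isFinLocFree hEl)
  have hterm : ∀ p, Nonempty (C.K.X p ≅ W.tw ((Scheme.Modules.pullback π).obj (L p)) (-(p : ℤ))) := fun p => by
    obtain ⟨i⟩ := KoszShH13.extPow_twist (L := W.O (-1)) (W.inv (-1)) p (C.isExtPow p)
      (Wedge2.isExtPow_pullback' π hq (hLE p))
    obtain ⟨j⟩ := pow_iso (W := W) p
    exact ⟨i ≪≫ M2.tensorIso (Iso.refl _) j⟩
  refine ⟨⟨C.K, exactVia C hs, L, hL, hterm, fun p hp => ?_, ExtFil4.isoExtPow (hLE 0) (ExtFil4.isExtPow_zero E),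
    Wedge2.isInvertible_top hE (hLE (n + 1))⟩⟩
  obtain ⟨i⟩ := hterm p
  refine IsZero.of_iso ((M2.tensorR (W.O (-(p : ℤ)))).map_isZero ((Scheme.Modules.pullback π).map_isZero ?_)) i
  exact DeRhamH7.isZero_extPow (hLE p) fun x => by
    obtain ⟨D, e, hxD, he⟩ := P1Split.exists_isBas_nhd hE x
    exact ⟨n + 1, D, e, hxD, by omega, he⟩

variable (π) in
/-- A bundle with no higher direct images whose direct image is a bundle. -/
def Good (M : P.Modules) : Prop :=
  FlatMod.IsFinLocFree M ∧ Acyc π M ∧ FlatMod.IsFinLocFree ((Scheme.Modules.pushforward π).obj M)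

theorem Good.of_iso {M N : P.Modules} (e : M ≅ N) (h : Good π M) : Good π N :=
  ⟨M2.isFinLocFree_of_iso e h.1, h.2.1.of_iso e,
    M2.isFinLocFree_of_iso ((Scheme.Modules.pushforward π).mapIso e) h.2.2⟩

theorem acyc_of_isZero (h : IsPB π W n) {M : P.Modules} (hM : IsZero M) : Acyc π M := fun q _ =>
  h.isZero_rpush (M1.isFP_isQCoh (M1.isFP_of_isFinLocFree (KFlat.Sch.isFinLocFree_of_isZero hM))) q
    fun t => ⟨⊤, trivial, fun U _ hc => by
      letI := CBC10.overU π hc.affine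
      exact van_isZero Γ(T, U) ((Scheme.Modules.restrictFunctor _).map_isZero hM) q⟩

theorem good_of_isZero (h : IsPB π W n) {M : P.Modules} (hM : IsZero M) : Good π M :=
  ⟨KFlat.Sch.isFinLocFree_of_isZero hM, acyc_of_isZero h hM,
    KFlat.Sch.isFinLocFree_of_isZero ((Scheme.Modules.pushforward π).map_isZero hM)⟩

/-- A bundle of the base does no harm to acyclicity. -/
theorem Acyc.pull_tensor (h : IsPB π W n) {N : T.Modules} (hN : FlatMod.IsFinLocFree N) {G : P.Modules}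
    (hG : Coh.IsQCoh G) (hA : Acyc π G) : Acyc π (CohB1.tensorMod ((Scheme.Modules.pullback π).obj N) G) :=
  fun q hq => h.isZero_rpush
    (M2.isQCoh_tensor (M1.isFP_isQCoh (M1.isFP_of_isFinLocFree (M2.isFinLocFree_pullback π hN))) hG) q fun t => by
  obtain ⟨U₀, m, ht, ⟨i⟩⟩ := hN t
  refine ⟨U₀, ht, fun U hUU hc => ?_⟩
  obtain ⟨j⟩ := nonempty_pullback_free (π := π) hUU i
  letI := CBC10.overU π hc.affine
  exact van_iso Γ(T, U) (M2.restrictTensorIso (π ⁻¹ᵁ U).ι _ G ≪≫ M2.tensorIso j (Iso.refl _) ≪≫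
    PreservesCoproduct.iso (M2.tensorR (G.restrict (π ⁻¹ᵁ U).ι)) _).symm
      (van_sigma Γ(T, U) _ fun _ => van_iso Γ(T, U) (M2.tensorLUnit _).symm (h.van hG (hA q hq) hc.affine))

/-- The projection formula. -/
def pushPullIso (π : P ⟶ T) {N : T.Modules} (hN : FlatMod.IsFinLocFree N) (G : P.Modules) :
    (Scheme.Modules.pushforward π).obj (CohB1.tensorMod ((Scheme.Modules.pullback π).obj N) G) ≅
      CohB1.tensorMod N ((Scheme.Modules.pushforward π).obj G) :=
  haveI := AmpleFin18.isIso_projHom_of_locFree π N G hN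
  (asIso (AmpleFin18.projHom π N G)).symm

theorem Good.pull_tensor (h : IsPB π W n) {N : T.Modules} (hN : FlatMod.IsFinLocFree N) {G : P.Modules}
    (hG : Good π G) : Good π (CohB1.tensorMod ((Scheme.Modules.pullback π).obj N) G) :=
  ⟨M2.isFinLocFree_tensor (M2.isFinLocFree_pullback π hN) hG.1,
    Acyc.pull_tensor h hN (M1.isFP_isQCoh (M1.isFP_of_isFinLocFree hG.1)) hG.2.1,
    M2.isFinLocFree_of_iso (pushPullIso π hN G).symm (M2.isFinLocFree_tensor hN hG.2.2)⟩

namespace KosData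

variable (K : KosData π W n)

/-- The complex term times a module. -/
def termIso (p : ℕ) (M : P.Modules) (e : ℤ) :
    CohB1.tensorMod (K.C.X p) (W.tw M e) ≅
      CohB1.tensorMod ((Scheme.Modules.pullback π).obj (K.L p)) (W.tw M (e - p)) :=
  M2.tensorIso (K.term p).some (Iso.refl _) ≪≫ M2.tensorAssoc _ _ _ ≪≫
    M2.tensorIso (Iso.refl _) (M2.tensorComm _ _ ≪≫ W.twTwist M e _ ≪≫ W.twIso M (by ring))

theorem vb_X (p : ℕ) : FlatMod.IsFinLocFree (K.C.X p) :=
  M2.isFinLocFree_of_iso (K.term p).some.symm (isVB_tw (M2.isFinLocFree_pullback π (K.hL p)) _)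

theorem epi_bd (j : ℕ) : Epi (bdInCycles K.C j) := by
  obtain ⟨-, hex⟩ := exact_of_exactVia K.C K.exact
  haveI := (ShortComplex.exact_iff_epi_kernel_lift _).1 (hex j)
  refine epi_of_epi_fac (f := Abelian.factorThruImage (K.C.d (j + 2) (j + 1)))
    (h := kernel.lift (K.C.d (j + 1) j) (K.C.d (j + 2) (j + 1)) (K.C.d_comp_d _ _ _)) ?_
  simp [← cancel_mono (kernel.ι (K.C.d (j + 1) j))]

def bdZero : Bd K.C 0 ≅ K.C.X 0 :=
  haveI := (exact_of_exactVia K.C K.exact).1
  haveI : Epi (Abelian.image.ι (K.C.d 1 0)) := epi_of_epi_fac (Abelian.image.fac (K.C.d 1 0))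
  haveI : IsIso (Abelian.image.ι (K.C.d 1 0)) := isIso_of_mono_of_epi _
  asIso (Abelian.image.ι (K.C.d 1 0))

theorem exists_ses (j : ℕ) : ∃ S : ShortComplex P.Modules, S.ShortExact ∧ Nonempty (S.X₁ ≅ Bd K.C (j + 1)) ∧
    S.X₂ = K.C.X (j + 1) ∧ S.X₃ = Bd K.C j := by
  haveI := K.epi_bd j
  haveI : IsIso (bdInCycles K.C j) := isIso_of_mono_of_epi _
  exact ⟨_, shortExact_cycles K.C j, ⟨(asIso (bdInCycles K.C j)).symm⟩, rfl, rfl⟩

theorem vb_bd : ∀ j, FlatMod.IsFinLocFree (Bd K.C j)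
  | 0 => M2.isFinLocFree_of_iso K.bdZero.symm (K.vb_X 0)
  | j + 1 => by
    obtain ⟨S, hS, ⟨e⟩, h2, h3⟩ := K.exists_ses j
    exact M2.isFinLocFree_of_iso e (DPerf.isFinLocFree_kernel S.f S.g S.zero hS (h2 ▸ K.vb_X (j + 1)) (h3 ▸ vb_bd j))

theorem isZero_bd {j : ℕ} (hj : n < j) : IsZero (Bd K.C j) :=
  haveI : Epi (Abelian.factorThruImage (K.C.d (j + 1) j)) := inferInstance
  IsZero.of_epi (Abelian.factorThruImage (K.C.d (j + 1) j)) (K.high (j + 1) (by omega))

variable {M : P.Modules}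

/-- Twisted boundary sequences. -/
theorem exists_ses_tw (hM : FlatMod.IsFinLocFree M) (j : ℕ) : ∃ S : ShortComplex P.Modules, S.ShortExact ∧
    Nonempty (S.X₁ ≅ CohB1.tensorMod (Bd K.C (j + 1)) M) ∧
    S.X₂ = CohB1.tensorMod (K.C.X (j + 1)) M ∧ S.X₃ = CohB1.tensorMod (Bd K.C j) M := by
  obtain ⟨S, hS, ⟨e⟩, h2, h3⟩ := K.exists_ses j
  exact ⟨_, CurveCoh17.shortExact_tensorR hS M (ExtFil4.flat_stalk hM), ⟨(M2.tensorR M).mapIso e⟩,
    congrArg (fun X => CohB1.tensorMod X M) h2, congrArg (fun X => CohB1.tensorMod X M) h3⟩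

theorem acyc_bd (h : IsPB π W n) (hM : FlatMod.IsFinLocFree M) (e : ℤ)
    (hX : ∀ p, 1 ≤ p → p ≤ n + 1 → Acyc π (W.tw M (e - p))) (j : ℕ) :
    Acyc π (CohB1.tensorMod (Bd K.C j) (W.tw M e)) := by
  suffices H : ∀ r j, n + 1 - j ≤ r → Acyc π (CohB1.tensorMod (Bd K.C j) (W.tw M e)) from H _ j le_rfl
  intro r
  induction r with
  | zero => exact fun j hj => acyc_of_isZero h ((M2.tensorR _).map_isZero (K.isZero_bd (by omega)))
  | succ r ih =>
    intro j hj
    by_cases hjn : n < j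
    · exact acyc_of_isZero h ((M2.tensorR _).map_isZero (K.isZero_bd hjn))
    obtain ⟨S, hS, ⟨i⟩, h2, h3⟩ := K.exists_ses_tw (isVB_tw (W := W) hM e) j
    have hA2 : Acyc π S.X₂ := by
      rw [h2]
      exact (Acyc.pull_tensor h (K.hL _) (M1.isFP_isQCoh (M1.isFP_of_isFinLocFree (isVB_tw hM _)))
        (hX (j + 1) (by omega) (by omega))).of_iso (K.termIso (j + 1) M e).symm
    have hA1 : Acyc π S.X₁ := (ih (j + 1) (by omega)).of_iso i.symm
    have q1 : Coh.IsQCoh S.X₁ := M1.isFP_isQCoh (M1.isFP_of_isFinLocFree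
      (M2.isFinLocFree_of_iso i.symm (M2.isFinLocFree_tensor (K.vb_bd _) (isVB_tw hM e))))
    have q2 : Coh.IsQCoh S.X₂ := by
      rw [h2]; exact M1.isFP_isQCoh (M1.isFP_of_isFinLocFree (M2.isFinLocFree_tensor (K.vb_X _) (isVB_tw hM e)))
    have q3 : Coh.IsQCoh S.X₃ := by
      rw [h3]; exact M1.isFP_isQCoh (M1.isFP_of_isFinLocFree (M2.isFinLocFree_tensor (K.vb_bd _) (isVB_tw hM e)))
    rw [← h3]
    exact fun q hq => h.isZero_rpush q3 q fun t => ⟨⊤, trivial, fun U _ hc => by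
      letI := CBC10.overU π hc.affine
      exact van₃ Γ(T, U) (hS.map_of_exact (Scheme.Modules.restrictFunctor (π ⁻¹ᵁ U).ι))
        (h.van q2 (hA2 q hq) hc.affine) (h.van q1 (hA1 (q + 1) (by omega)) hc.affine)⟩

/-- Goodness of the upper twists gives that of the boundaries and of the bottom twist. -/
theorem good_bd (h : IsPB π W n) (hM : FlatMod.IsFinLocFree M) (e : ℤ)
    (hA : ∀ p, p ≤ n + 1 → Acyc π (W.tw M (e - p)))
    (hP : ∀ p, p ≤ n → FlatMod.IsFinLocFree ((Scheme.Modules.pushforward π).obj (W.tw M (e - p)))) (j : ℕ) :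
    Good π (CohB1.tensorMod (Bd K.C j) (W.tw M e)) := by
  haveI := h.isProper
  by_cases hjn : n < j
  · exact good_of_isZero h ((M2.tensorR _).map_isZero (K.isZero_bd hjn))
  have hgX : ∀ p, p ≤ n → Good π (CohB1.tensorMod (K.C.X p) (W.tw M e)) := fun p hp =>
    (Good.pull_tensor h (K.hL p) ⟨isVB_tw hM _, hA p (by omega), hP p hp⟩).of_iso (K.termIso p M e).symm
  have hab := K.acyc_bd h hM e fun p _ hp => hA p hp
  induction j with
  | zero => exact (hgX 0 (by omega)).of_iso ((M2.tensorR _).mapIso K.bdZero.symm)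
  | succ j ih =>
    obtain ⟨S, hS, ⟨i⟩, h2, h3⟩ := K.exists_ses_tw (isVB_tw (W := W) hM e) j
    have hv1 : FlatMod.IsFinLocFree S.X₁ :=
      M2.isFinLocFree_of_iso i.symm (M2.isFinLocFree_tensor (K.vb_bd _) (isVB_tw hM e))
    have hp := shortExact_push_of_isZero π hS (M1.isFP_isQCoh (M1.isFP_of_isFinLocFree hv1))
      ((hab (j + 1)).of_iso i.symm 1 le_rfl)
    have g2 : Good π S.X₂ := h2 ▸ hgX (j + 1) (by omega)
    have g3 : Good π S.X₃ := h3 ▸ ih (by omega)
    have hk := DPerf.isFinLocFree_kernel _ _ _ hp g2.2.2 g3.2.2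
    exact ⟨M2.isFinLocFree_tensor (K.vb_bd _) (isVB_tw hM e), hab _,
      M2.isFinLocFree_of_iso ((Scheme.Modules.pushforward π).mapIso i) hk⟩

include K in
/-- Goodness descends one step. -/
theorem good_down (h : IsPB π W n) (hM : FlatMod.IsFinLocFree M) (y : ℤ)
    (hA : ∀ x, y ≤ x → x ≤ y + (n + 1) → Acyc π (W.tw M x))
    (hP : ∀ x, y < x → x ≤ y + (n + 1) → FlatMod.IsFinLocFree ((Scheme.Modules.pushforward π).obj (W.tw M x))) :
    Good π (W.tw M y) := by
  let e : ℤ := y + (n + 1)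
  have hg := K.good_bd h hM e (fun p hp => hA _ (by omega) (by omega)) (fun p hp => hP _ (by omega) (by omega)) n
  haveI : IsIso (Abelian.factorThruImage (K.C.d (n + 1) n)) := by
    haveI : Mono (Abelian.factorThruImage (K.C.d (n + 1) n)) := by
      obtain ⟨-, hex⟩ := exact_of_exactVia K.C K.exact
      haveI : Mono (K.C.d (n + 1) n) := (hex n).mono_g ((K.high (n + 2) (by omega)).eq_of_src _ _)
      exact mono_of_mono_fac (Abelian.image.fac (K.C.d (n + 1) n))
    exact isIso_of_mono_of_epi _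
  let i : CohB1.tensorMod (Bd K.C n) (W.tw M e) ≅
      CohB1.tensorMod ((Scheme.Modules.pullback π).obj (K.L (n + 1))) (W.tw M y) :=
    (M2.tensorR _).mapIso (asIso (Abelian.factorThruImage (K.C.d (n + 1) n))).symm ≪≫ K.termIso (n + 1) M e ≪≫
      M2.tensorIso (Iso.refl _) (W.twIso M (by simp [e]))
  have hg' := hg.of_iso i
  obtain ⟨L', hL', ⟨eL⟩⟩ := M2.exists_inverse K.top
  refine ⟨isVB_tw hM y, hA y le_rfl (by omega), ?_⟩
  have h1 := M2.isFinLocFree_tensor (M2.isFinLocFree_of_isInvertible hL')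
    (M2.isFinLocFree_of_iso (pushPullIso π (K.hL (n + 1)) (W.tw M y)) hg'.2.2)
  exact M2.isFinLocFree_of_iso ((M2.tensorAssoc _ _ _).symm ≪≫
    M2.tensorIso (M2.tensorComm _ _ ≪≫ eL) (Iso.refl _) ≪≫ M2.tensorLUnit _) h1

/-- Euler sums of additive functionals. -/
theorem rel {G : Type w} [AddCommGroup G] {Q : P.Modules → Prop} {a : P.Modules → G}
    (hQi : ∀ {A B : P.Modules}, (A ≅ B) → Q A → Q B) (hQ0 : ∀ {A : P.Modules}, IsZero A → Q A)
    (hQb : ∀ {A B : P.Modules}, Q A → Q B → Q (A ⊞ B))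
    (hses : ∀ S : ShortComplex P.Modules, S.ShortExact → Q S.X₁ → Q S.X₂ → Q S.X₃ → a S.X₂ = a S.X₁ + a S.X₃)
    (M : P.Modules) (hM : FlatMod.IsFinLocFree M) (hX : ∀ p, Q (CohB1.tensorMod (K.C.X p) M))
    (hB : ∀ j, Q (CohB1.tensorMod (Bd K.C j) M)) :
    ∑ p ∈ Finset.range (n + 2), ((-1 : ℤ) ^ p) • a (CohB1.tensorMod (K.C.X p) M) = 0 := by
  haveI := preservesBinaryBiproducts_of_preservesBiproducts (M2.tensorR M)
  have key : ∀ S : ShortComplex P.Modules, S.ShortExact → Q (CohB1.tensorMod S.X₁ M) →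
      Q (CohB1.tensorMod S.X₂ M) → Q (CohB1.tensorMod S.X₃ M) →
      a (CohB1.tensorMod S.X₂ M) = a (CohB1.tensorMod S.X₁ M) + a (CohB1.tensorMod S.X₃ M) := fun S hS h1 h2 h3 =>
    hses _ (CurveCoh17.shortExact_tensorR hS M (ExtFil4.flat_stalk hM)) h1 h2 h3
  exact eul_eq_zero (P := fun A => Q (CohB1.tensorMod A M)) (a := fun A => a (CohB1.tensorMod A M))
    (BAdd.of_ses (fun e h => hQi ((M2.tensorR M).mapIso e) h) (fun h => hQ0 ((M2.tensorR M).map_isZero h))
      (fun {A B} h h' => hQi (((M2.tensorR M).mapBiprod A B).symm) (hQb h h')) key)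
    key K.C (t := n + 1) (fun s hs => K.high s hs) K.exact hX hB

end KosData

end Groth.Agent.PBK5
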