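import Groth.Agent.Lib.PBK5.Basic
import Groth.Agent.Lib.TensorMod.InvCrit

/-! The twists of a projective bundle. -/

set_option autoImplicit false
set_option backward.isDefEq.respectTransparency false
set_option backward.isDefEq.respectTransparency.types false

universe u

open CategoryTheory Limits AlgebraicGeometry

noncomputable section

namespace Groth.Agent.PBK5

variable {P : Scheme.{u}} {O1 L : P.Modules}

/-- An invertible module and an inverse give twists. -/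
theorem exists_tw (hO : FlatMod.IsFinLocFreeOfRank 1 O1) (hL : ClSub.IsInverseOf L O1) :
    ∃ W : Tw P, Nonempty (W.O 1 ≅ O1) ∧ (∀ m : ℕ, Nonempty (CohB1.tensorPow O1 m ≅ W.O (m : ℤ))) ∧
      ∀ m : ℕ, Nonempty (CohB1.tensorPow L m ≅ W.O (-(m : ℤ))) := by
  obtain ⟨e⟩ := hL
  have hO' := (M2.isInvertible_iff_isFinLocFreeOfRank_one _).2 hO
  have hL' : PicF.IsInvertible L := M2.isInvertible_of_tensor_iso_unit _ _ e
  exact ⟨Tw.ofInv hO' hL' (M2.tensorComm _ _ ≪≫ e),
    ⟨CMReg18.intPowNat 1 ≪≫ M2.tensorLUnit _⟩,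
    fun m => ⟨(CMReg18.intPowNat m).symm⟩, fun m => ⟨(CMReg18.intPowNeg m).symm⟩⟩

/-- Twists of a bundle with some inverse. -/
theorem exists_tw' (hO : FlatMod.IsFinLocFreeOfRank 1 O1) :
    ∃ W : Tw P, Nonempty (W.O 1 ≅ O1) := by
  obtain ⟨D, -, ⟨e⟩⟩ := M2.exists_inverse ((M2.isInvertible_iff_isFinLocFreeOfRank_one _).2 hO)
  obtain ⟨W, h, -⟩ := exists_tw hO (L := D) ⟨M2.tensorComm _ _ ≪≫ e⟩
  exact ⟨W, h⟩

end Groth.Agent.PBK5
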