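import Groth.Agent.Lib.PBK5.Free
import Groth.Agent.Lib.PBK5.Twist
import Groth.Prelude.Def_KRR
import Groth.Agent.Lib.AmpleElt5.Main

/-! Models of the K-ring and the projective bundle theorem for them. -/

set_option autoImplicit false
set_option linter.style.haveILetI false
set_option backward.isDefEq.respectTransparency false
set_option backward.isDefEq.respectTransparency.types false

universe v w u

open CategoryTheory Limits AlgebraicGeometry TopologicalSpace Opposite

noncomputable section

namespace Groth.Agent.PBK5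

open Groth.Agent.ExtFil4 (cl)

attribute [local instance] ExtFil4.kvbRing

variable {T P : Scheme.{u}}

/-- A model is a ring isomorphism. -/
def modelHom {X : Scheme.{u}} {K : Type v} [CommRing K] [LambdaRing.LambdaOps K] {S : LambdaRing.PosStructure K}
    {φ : SGA6.Kvb X →+ K} (h : KRR.IsModel X K S φ) : SGA6.Kvb X →+* K where
  toFun := φ
  map_zero' := map_zero φ
  map_add' := map_add φ
  map_one' := h.map_one
  map_mul' := fun x y => by
    induction x using K0Cat.clSub_induction with
    | h0 => simp
    | hneg a ha => simp only [neg_mul, map_neg, ha]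
    | hadd a b ha hb => simp only [add_mul, map_add, ha, hb]
    | hcl A hA =>
      induction y using K0Cat.clSub_induction with
      | h0 => simp
      | hneg a ha => simp only [mul_neg, map_neg, ha]
      | hadd a b ha hb => simp only [mul_add, map_add, ha, hb]
      | hcl B hB =>
        refine Eq.trans (congrArg φ (cl_mul hA hB)) ?_
        exact (h.map_mul A B hA hB).symm

theorem modelHom_apply {X : Scheme.{u}} {K : Type v} [CommRing K] [LambdaRing.LambdaOps K]
    {S : LambdaRing.PosStructure K} {φ : SGA6.Kvb X →+ K} (h : KRR.IsModel X K S φ) (x : SGA6.Kvb X) :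
    modelHom h x = φ x := rfl

variable {π : P ⟶ T}

theorem isPull_apply {KT : Type v} [CommRing KT] {KP : Type w} [CommRing KP] {φT : SGA6.Kvb T →+ KT}
    {φP : SGA6.Kvb P →+ KP} {g : KT →+ KP} (hg : KRR.IsPull π φT φP g) (x : SGA6.Kvb T) :
    g (φT x) = φP (pullHom π x) := by
  induction x using K0Cat.clSub_induction with
  | h0 => simp
  | hneg a ha => simp only [map_neg, ha]
  | hadd a b ha hb => simp only [map_add, ha, hb]
  | hcl A hA => exact (hg A hA).trans (congrArg φP (pullHom_cl π hA).symm)

/-- The projective bundle of the zero module has no K-theory. -/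
theorem subsingleton_kvb_of_rank_zero {E : T.Modules} {O1 : P.Modules} {q : (Scheme.Modules.pullback π).obj E ⟶ O1}
    (hE : FlatMod.IsFinLocFreeOfRank 0 E) (hP : KRR.IsProjBundle π E O1 q) : Subsingleton (SGA6.Kvb P) := by
  haveI := hP.epi
  have h1 : IsZero O1 := IsZero.of_epi q ((Scheme.Modules.pullback π).map_isZero (AmpleElt5.isZero_of_rank_zero hE))
  obtain ⟨D, -, ⟨e⟩⟩ := M2.exists_inverse ((M2.isInvertible_iff_isFinLocFreeOfRank_one _).2 hP.invertible)
  have hO : IsZero (Coh.structureModule P) := ((M2.tensorR D).map_isZero h1).of_iso e.symm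
  refine subsingleton_of_forall_eq 0 fun x => ?_
  induction x using K0Cat.clSub_induction with
  | h0 => rfl
  | hneg a ha => rw [ha, neg_zero]
  | hadd a b ha hb => rw [ha, hb, add_zero]
  | hcl A hA => exact cl_of_isZero (((M2.tensorR A).map_isZero hO).of_iso (M2.tensorLUnit A).symm)

variable {W : Tw P} {n : ℕ} [CompactSpace T]

/-- The theorem with nonnegative twists. -/
theorem bijective_pos (h : IsPB π W n) (K : KosData π W n) :
    Function.Bijective (fun a : Fin (n + 1) → SGA6.Kvb T =>
      ∑ i : Fin (n + 1), pullHom π (a i) * xi W ((i : ℕ) : ℤ)) := by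
  have hu : Function.Bijective (fun x : SGA6.Kvb P => xi W (n : ℤ) * x) :=
    Function.bijective_iff_has_inverse.2 ⟨fun x => xi W (-(n : ℤ)) * x,
      fun x => by simp [← mul_assoc, xi_add, xi_zero], fun x => by simp [← mul_assoc, xi_add, xi_zero]⟩
  have hr : Function.Bijective (fun a : Fin (n + 1) → SGA6.Kvb T => fun i : Fin (n + 1) => a i.rev) :=
    (Equiv.arrowCongr Fin.revPerm (Equiv.refl _)).bijective.comp Function.bijective_id
  convert hu.comp ((bijective h K).comp hr) using 1
  funext a
  simp only [Function.comp_apply, Finset.mul_sum]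
  rw [← Equiv.sum_comp Fin.revPerm]
  refine Finset.sum_congr rfl fun i _ => ?_
  rw [mul_left_comm, xi_add, Fin.revPerm_apply]
  congr 2
  have := Fin.val_rev i
  have := i.2
  omega

variable {E : T.Modules} {O1 : P.Modules} {q : (Scheme.Modules.pullback π).obj E ⟶ O1}

omit [CompactSpace T] in
/-- The data of a projective bundle. -/
theorem exists_data (hP : KRR.IsProjBundle π E O1 q) (hE : FlatMod.IsFinLocFreeOfRank (n + 1) E) (W : Tw P)
    (e : W.O 1 ≅ O1) : IsPB π W n ∧ Nonempty (KosData π W n) := by
  haveI := hP.epi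
  exact ⟨isPB_of_projBundle hP hE W e, nonempty_kosData hE (q ≫ e.inv)⟩

/-- The theorem on models. -/
theorem bijective_model (hP : KRR.IsProjBundle π E O1 q) (hE : FlatMod.IsFinLocFreeOfRank (n + 1) E)
    {KT : Type v} [CommRing KT] [LambdaRing.LambdaOps KT] {ST : LambdaRing.PosStructure KT}
    {φT : SGA6.Kvb T →+ KT} (hT : KRR.IsModel T KT ST φT)
    {KP : Type w} [CommRing KP] [LambdaRing.LambdaOps KP] {SP : LambdaRing.PosStructure KP}
    {φP : SGA6.Kvb P →+ KP} (hKP : KRR.IsModel P KP SP φP) {g : KT →+ KP} (hg : KRR.IsPull π φT φP g) :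
    Function.Bijective (fun a : Fin (n + 1) → KT => ∑ i : Fin (n + 1), g (a i) * φP (KRR.cl P O1) ^ (i : ℕ)) := by
  obtain ⟨W, ⟨e⟩⟩ := exists_tw' hP.invertible
  obtain ⟨h, ⟨K⟩⟩ := exists_data hP hE W e
  let ψ := AddEquiv.ofBijective φT hT.bijective
  have hxi : ∀ i : ℕ, φP (KRR.cl P O1) ^ i = φP (xi W (i : ℤ)) := by
    intro i
    induction i with
    | zero => rw [pow_zero, Nat.cast_zero, xi_zero]; exact (map_one (modelHom hKP)).symm
    | succ i ih =>
      rw [pow_succ, ih, show KRR.cl P O1 = xi W 1 from
        cl_congr e.symm (M2.isFinLocFree_of_ofRank hP.invertible), Nat.cast_succ, ← xi_add]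
      exact (map_mul (modelHom hKP) _ _).symm
  have h2 : Function.Bijective (fun a : Fin (n + 1) → KT => fun i => ψ.symm (a i)) :=
    (Equiv.piCongrRight fun _ => ψ.symm.toEquiv).bijective
  convert hKP.bijective.comp ((bijective_pos h K).comp h2) using 1
  funext a
  simp only [Function.comp_apply, map_sum]
  refine Finset.sum_congr rfl fun i _ => ?_
  rw [← modelHom_apply hKP (_ * _), map_mul, modelHom_apply, modelHom_apply, ← isPull_apply hg, hxi]
  congr 2
  exact (ψ.apply_symm_apply (a i)).symm

end Groth.Agent.PBK5
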