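import Groth.Agent.Lib.LFResK5.Mul
import Groth.Agent.Lib.CMReg18.KRRPushO
import Groth.Agent.Lib.CMReg18.FlatCrit

/-! The push-forward from projective space on modules of bounded projective dimension. -/

set_option autoImplicit false
set_option linter.style.haveILetI false
set_option backward.isDefEq.respectTransparency false
set_option backward.isDefEq.respectTransparency.types false

universe u

open CategoryTheory Limits AlgebraicGeometry Scheme.Modules

noncomputable section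

namespace Groth.Agent.PBK5

open Groth.Agent.CMReg18 (overData kPush evalZero IsAcyc)
open Groth.Agent.LFResK5 (Bd PLT kcl)

variable {n : ℕ} {Y : Scheme.{u}}

theorem kcl_ses {X : Scheme.{u}} [IsLocallyNoetherian X] (hX : KRR.HasEnoughLocFree X) (S : ShortComplex X.Modules)
    (hS : S.ShortExact) (h1 : Bd S.X₁) (h2 : Bd S.X₂) (h3 : Bd S.X₃) :
    kcl hX S.X₂ = kcl hX S.X₁ + kcl hX S.X₃ := by
  unfold kcl
  rw [K0Cat.clSub_ses (P := LFResK5.BdP X) S hS h1 h2 h3, map_add]

variable [IsNoetherian Y] [IsLocallyNoetherian (KRR.PY n Y)]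
  (hY : KRR.HasEnoughLocFree Y) (hP : KRR.HasEnoughLocFree (KRR.PY n Y))

/-- Eventual acyclicity and the value of the push-forward. -/
def PushGood (M : (KRR.PY n Y).Modules) : Prop :=
  ∃ N : ℕ, (∀ x : ℤ, (N : ℤ) ≤ x →
      (∀ q : ℕ, 1 ≤ q → IsZero ((Coh.RpushAb (KRR.pr n Y) q).obj (Coh.toAb ((overData n Y).tw M x)))) ∧
        Bd ((Scheme.Modules.pushforward (KRR.pr n Y)).obj ((overData n Y).tw M x))) ∧
    ∀ d : ℕ, N + n ≤ d → kPush n Y (kcl hP M) =
      evalZero n (fun x => kcl hY ((Scheme.Modules.pushforward (KRR.pr n Y)).obj ((overData n Y).tw M x))) d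

theorem pushGood_vb {M : (KRR.PY n Y).Modules} (hM : FlatMod.IsFinLocFree M) : PushGood hY hP M := by
  obtain ⟨N₁, hN₁⟩ := CMReg18.exists_acyc hM
  obtain ⟨N₂, hN₂⟩ := CMReg18.exists_kPush_eq hM
  refine ⟨N₁ + N₂, fun x hx => ⟨(hN₁ x (by omega)).1.2, LFResK5.bd_of_isFinLocFree (hN₁ x (by omega)).1.push⟩,
    fun d hd => ?_⟩
  rw [LFResK5.kcl_of_isFinLocFree hP hM, hN₂ d (by omega)]
  exact CMReg18.evalZero_congr n d fun x hx _ => (LFResK5.kcl_of_isFinLocFree hY (hN₁ x (by omega)).1.push).symm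

theorem evalZero_sub {G : Type*} [AddCommGroup G] (m : ℕ) (f g : ℤ → G) (d : ℕ) :
    evalZero m (fun x => f x - g x) d = evalZero m f d - evalZero m g d := by
  let φ : (G × G) →+ G := AddMonoidHom.fst G G - AddMonoidHom.snd G G
  have h := CMReg18.map_evalZero φ m (fun x => (f x, g x)) d
  have h1 := CMReg18.map_evalZero (AddMonoidHom.fst G G) m (fun x => (f x, g x)) d
  have h2 := CMReg18.map_evalZero (AddMonoidHom.snd G G) m (fun x => (f x, g x)) d
  exact (h.symm.trans (congrArg₂ (· - ·) h1 h2))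

/-- Every module of bounded projective dimension is good. -/
theorem pushGood : ∀ (k : ℕ) {M : (KRR.PY n Y).Modules}, Coh.IsCoh M → PLT M (k + 1) → PushGood hY hP M
  | 0, _, hM, h => pushGood_vb hY hP (LFResK5.isFinLocFree_of_plt_one hM h)
  | k + 1, M, hM, h => by
    obtain ⟨E, p, hE, hp⟩ := hP M hM
    have hS := LFResK5.kerSES p
    have hKc := LFResK5.isCoh_X₁ hS (LFResK5.isCoh_of_isFinLocFree hE) hM
    have hKp : PLT (kernel p) (k + 1) := PLT.X₁ hS (LFResK5.plt_of_isFinLocFree hE (by omega)) h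
    obtain ⟨N₁, hN₁, hv₁⟩ := pushGood k hKc hKp
    obtain ⟨N₂, hN₂, hv₂⟩ := pushGood_vb hY hP hE
    haveI : ∀ x : ℤ, PreservesFiniteLimits (M2.tensorR ((overData n Y).O x)) := fun x =>
      (LFResK5.preservesFinite_tensorR (M2.isFinLocFree_of_isInvertible ((overData n Y).inv x))).1
    haveI : ∀ x : ℤ, PreservesFiniteColimits (M2.tensorR ((overData n Y).O x)) := fun x =>
      (LFResK5.preservesFinite_tensorR (M2.isFinLocFree_of_isInvertible ((overData n Y).inv x))).2
    have hq : ∀ {A : (KRR.PY n Y).Modules}, Coh.IsCoh A → ∀ x : ℤ, Coh.IsQCoh ((overData n Y).tw A x) :=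
      fun {A} hA x => M2.isQCoh_tensor hA.1
        (M2.isQCoh_of_isFinLocFree (M2.isFinLocFree_of_isInvertible ((overData n Y).inv x)))
    let T : ℤ → ShortComplex (KRR.PY n Y).Modules := fun x =>
      (ShortComplex.mk (kernel.ι p) p (kernel.condition p)).map (M2.tensorR ((overData n Y).O x))
    have hT : ∀ x, (T x).ShortExact := fun x => hS.map_of_exact _
    have key : ∀ x : ℤ, ((N₁ + N₂ : ℕ) : ℤ) ≤ x →
        (∀ q : ℕ, 1 ≤ q → IsZero ((Coh.RpushAb (KRR.pr n Y) q).obj (Coh.toAb ((overData n Y).tw M x)))) ∧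
        Bd ((Scheme.Modules.pushforward (KRR.pr n Y)).obj ((overData n Y).tw M x)) ∧
        kcl hY ((Scheme.Modules.pushforward (KRR.pr n Y)).obj ((overData n Y).tw M x)) =
          kcl hY ((Scheme.Modules.pushforward (KRR.pr n Y)).obj ((overData n Y).tw E x)) -
            kcl hY ((Scheme.Modules.pushforward (KRR.pr n Y)).obj ((overData n Y).tw (kernel p) x)) := by
      intro x hx
      obtain ⟨hK0, hKB⟩ := hN₁ x (by omega)
      obtain ⟨hE0, hEB⟩ := hN₂ x (by omega)
      refine ⟨fun q hq1 => CMReg18.van_third (hT x) (hq hKc x) (hq (LFResK5.isCoh_of_isFinLocFree hE) x)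
        (hq hM x) (hE0 q hq1) (hK0 (q + 1) (by omega)), ?_⟩
      have hPS := CMReg18.shortExact_push_of_isZero (KRR.pr n Y) (hT x) (hq hKc x) (hK0 1 le_rfl)
      haveI : IsProper (KRR.pr n Y) := inferInstanceAs (IsProper (CohB1.ProjSpaceOver.toBase n Y))
      have hfp : CohB1.IsFP ((overData n Y).tw M x) :=
        CMReg18.isFP_tensor_inv ((M1.isCoh_iff_isFP M).1 hM) ((overData n Y).inv x)
      have hMc : Coh.IsCoh ((Scheme.Modules.pushforward (KRR.pr n Y)).obj ((overData n Y).tw M x)) :=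
        CMReg18.isCoh_push _ ((M1.isCoh_iff_isFP _).2 hfp)
      obtain ⟨a, ha⟩ := hKB.2
      obtain ⟨b, hb⟩ := hEB.2
      have hB : Bd ((Scheme.Modules.pushforward (KRR.pr n Y)).obj ((overData n Y).tw M x)) :=
        ⟨hMc, max a b + 1, PLT.X₃ hPS (ha.mono (le_max_left a b)) (hb.mono ((le_max_right a b).trans (Nat.le_succ _)))⟩
      exact ⟨hB, eq_sub_of_add_eq' (kcl_ses hY _ hPS hKB hEB hB).symm⟩
    refine ⟨N₁ + N₂, fun x hx => ⟨(key x hx).1, (key x hx).2.1⟩, fun d hd => ?_⟩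
    have hMB : Bd M := ⟨hM, _, h⟩
    rw [show kcl hP M = kcl hP E - kcl hP (kernel p) from
      eq_sub_of_add_eq' (kcl_ses hP _ hS ⟨hKc, _, hKp⟩ (LFResK5.bd_of_isFinLocFree hE) hMB).symm,
      map_sub, hv₁ d (by omega), hv₂ d (by omega), ← evalZero_sub]
    exact CMReg18.evalZero_congr n d fun x hx _ => ((key x (by omega)).2.2).symm

/-- The value of the push-forward on such a module. -/
theorem kPush_kcl {M : (KRR.PY n Y).Modules} (hM : Bd M) :
    ∃ N : ℕ, ∀ d : ℕ, N ≤ d → kPush n Y (kcl hP M) =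
      evalZero n (fun x => kcl hY ((Scheme.Modules.pushforward (KRR.pr n Y)).obj ((overData n Y).tw M x))) d := by
  obtain ⟨hc, k, hk⟩ := hM
  obtain ⟨N, -, hN⟩ := pushGood hY hP k hc (hk.mono (Nat.le_succ k))
  exact ⟨N + n, hN⟩

end Groth.Agent.PBK5
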