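import Groth.Agent.Lib.PBK5.PushCl
import Groth.Agent.Lib.PBK5.Enough

/-! Functoriality of the push-forwards on the K-rings. -/

set_option autoImplicit false
set_option linter.style.haveILetI false
set_option backward.isDefEq.respectTransparency false
set_option backward.isDefEq.respectTransparency.types false
set_option maxHeartbeats 1600000

universe v u

open CategoryTheory Limits AlgebraicGeometry Scheme.Modules

noncomputable section

namespace Groth.Agent.PBK5

open Groth.Agent.ExtFil4 (cl)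
open Groth.Agent.CMReg18 (overData kPush evalZero IsAcyc)
open Groth.Agent.LFResK5 (Bd kcl pushK)

attribute [local instance] ExtFil4.kvbRing

variable {X Y Z : Scheme.{u}}

theorem pushK_congr [IsNoetherian X] [IsNoetherian Y] {f f' : X ⟶ Y} [IsClosedImmersion f] [IsClosedImmersion f']
    (e : f = f') (hf : Mor2.IsRegularClosedImmersion f) (hf' : Mor2.IsRegularClosedImmersion f')
    (hY : KRR.HasEnoughLocFree Y) : pushK f hf hY = pushK f' hf' hY := by
  subst e
  rfl

theorem pushK_comp [IsNoetherian X] [IsNoetherian Y] [IsNoetherian Z] (f : X ⟶ Y) [IsClosedImmersion f]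
    (g : Y ⟶ Z) [IsClosedImmersion g] (hf : Mor2.IsRegularClosedImmersion f)
    (hg : Mor2.IsRegularClosedImmersion g) (hfg : Mor2.IsRegularClosedImmersion (f ≫ g))
    (hY : KRR.HasEnoughLocFree Y) (hZ : KRR.HasEnoughLocFree Z) :
    pushK (f ≫ g) hfg hZ = (pushK g hg hZ).comp (pushK f hf hY) := by
  refine LFResK5.addHom_ext fun F hF => ?_
  show _ = pushK g hg hZ (pushK f hf hY (KRR.cl X F))
  rw [LFResK5.pushK_cl _ hfg hZ hF, LFResK5.pushK_cl f hf hY hF]
  have hG : ∀ M : Y.Modules, Bd M → Bd ((Scheme.Modules.pushforward g).obj M) := fun M hM =>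
    LFResK5.bd_map hY (Scheme.Modules.pushforward g)
      (fun E hE => LFResK5.bd_push_of_finLocFree g hg hE)
      (fun M hM => CohFound.isCoh_push_closedImm g hM) hM
  rw [LFResK5.clSub_sum_map hY hZ (Scheme.Modules.pushforward g) hG (pushK g hg hZ)
    (fun E hE => LFResK5.pushK_cl g hg hZ hE) (LFResK5.bd_push_of_finLocFree f hf hF)]
  exact LFResK5.kcl_iso hZ ((Scheme.Modules.pushforwardComp f g).symm.app F)
    (LFResK5.bd_push_of_finLocFree (f ≫ g) hfg hF)

theorem pushK_mul [IsNoetherian X] [IsNoetherian Y] (f : X ⟶ Y) [IsClosedImmersion f]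
    (hf : Mor2.IsRegularClosedImmersion f) (hY : KRR.HasEnoughLocFree Y) (x : SGA6.Kvb X) (y : SGA6.Kvb Y) :
    pushK f hf hY (x * pullHom f y) = pushK f hf hY x * y := by
  induction y using K0Cat.clSub_induction with
  | h0 => simp
  | hneg a ha => simp only [map_neg, mul_neg, ha]
  | hadd a b ha hb => simp only [map_add, mul_add, ha, hb]
  | hcl G hG =>
    induction x using K0Cat.clSub_induction with
    | h0 => simp
    | hneg a ha => simp only [map_neg, neg_mul, ha]
    | hadd a b ha hb => simp only [map_add, add_mul, ha, hb]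
    | hcl F hF =>
      show pushK f hf hY (cl F * pullHom f (cl G)) = pushK f hf hY (cl F) * cl G
      have hfG := M2.isFinLocFree_pullback f hG
      have hT := M2.isFinLocFree_tensor hF hfG
      obtain ⟨e⟩ := CohFound.nonempty_push_tensor_iso f F (LFResK5.isCoh_of_isFinLocFree hF).1 G
        (LFResK5.isCoh_of_isFinLocFree hG).1
      rw [pullHom_cl f hG, cl_mul hF hfG]
      refine ((LFResK5.pushK_cl f hf hY hT).trans
        (LFResK5.kcl_iso hY e (LFResK5.bd_push_of_finLocFree f hf hT))).trans ?_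
      refine (LFResK5.kcl_tensor hY (AddMonoidHom.id (SGA6.Kvb Y)) Function.bijective_id
        (fun E F hE hF => cl_mul hE hF) (LFResK5.bd_push_of_finLocFree f hf hF) hG).symm.trans ?_
      show kcl hY _ * cl G = _
      rw [← LFResK5.pushK_cl f hf hY hF]

theorem pushK_iso [IsNoetherian X] [IsNoetherian Y] (σ : X ⟶ Y) [IsIso σ] [IsClosedImmersion σ]
    (hσ : Mor2.IsRegularClosedImmersion σ) (hY : KRR.HasEnoughLocFree Y) (z : SGA6.Kvb X) :
    pullHom σ (pushK σ hσ hY z) = z := by
  have hbij : ∀ U : Y.Opens, Function.Bijective (σ.app U) := fun U => ConcreteCategory.bijective_of_isIso (σ.app U)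
  have h1 : pushK σ hσ hY 1 = 1 := by
    show pushK σ hσ hY (KRR.cl X (Coh.structureModule X)) = KRR.cl Y (Coh.structureModule Y)
    rw [LFResK5.pushK_cl σ hσ hY ExtFil4.isVB_one,
      LFResK5.kcl_iso hY (TwistBC9.nonempty_push_structureModule σ hbij).some
        (LFResK5.bd_push_of_finLocFree σ hσ ExtFil4.isVB_one),
      LFResK5.kcl_of_isFinLocFree hY ExtFil4.isVB_one]
  have h2 : z = pullHom σ (pullHom (inv σ) z) := by rw [← pullHom_comp, IsIso.hom_inv_id, pullHom_id]
  conv_lhs => rw [h2, ← one_mul (pullHom σ (pullHom (inv σ) z)), pushK_mul, h1, one_mul]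
  exact h2.symm

variable {n : ℕ}

theorem kPush_mul_pullHom [CompactSpace Y] (z : SGA6.Kvb (KRR.PY n Y)) (y : SGA6.Kvb Y) :
    kPush n Y (z * pullHom (KRR.pr n Y) y) = kPush n Y z * y := by
  induction y using K0Cat.clSub_induction with
  | h0 => simp
  | hneg a ha => simp only [map_neg, mul_neg, ha]
  | hadd a b ha hb => simp only [map_add, mul_add, ha, hb]
  | hcl E hE =>
    induction z using K0Cat.clSub_induction with
    | h0 => simp
    | hneg a ha => simp only [map_neg, neg_mul, ha]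
    | hadd a b ha hb => simp only [map_add, add_mul, ha, hb]
    | hcl M hM =>
      let P := (Scheme.Modules.pullback (KRR.pr n Y)).obj E
      have hP : FlatMod.IsFinLocFree P := M2.isFinLocFree_pullback _ hE
      have hM' : FlatMod.IsFinLocFree (CohB1.tensorMod M P) := M2.isFinLocFree_tensor hM hP
      show kPush n Y (cl M * pullHom (KRR.pr n Y) (cl E)) = kPush n Y (cl M) * cl E
      rw [pullHom_cl _ hE, cl_mul hM hP]
      obtain ⟨N, hN⟩ := CMReg18.exists_kPush_eq hM
      obtain ⟨N', hN'⟩ := CMReg18.exists_kPush_eq hM'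
      obtain ⟨N'', hN''⟩ := CMReg18.exists_acyc hM
      refine (hN' (N + N' + N'' + n) (by omega)).trans ?_
      show _ = (AddMonoidHom.mulRight (cl E)) (kPush n Y (KRR.cl _ M))
      rw [hN (N + N' + N'' + n) (by omega), CMReg18.map_evalZero]
      refine CMReg18.evalZero_congr n _ fun x hx _ => ?_
      haveI := AmpleFin18.isIso_projHom_of_locFree (KRR.pr n Y) E ((overData n Y).tw M x) hE
      let e : (overData n Y).tw (CohB1.tensorMod M P) x ≅ CohB1.tensorMod P ((overData n Y).tw M x) :=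
        M2.tensorIso (M2.tensorComm M P) (Iso.refl _) ≪≫ M2.tensorAssoc P M _
      let e' := (Scheme.Modules.pushforward (KRR.pr n Y)).mapIso e ≪≫
        (asIso (AmpleFin18.projHom (KRR.pr n Y) E ((overData n Y).tw M x))).symm ≪≫ M2.tensorComm _ _
      exact (CMReg18.clVb_iso e').trans (cl_mul (hN'' x (by omega)).1.push hE).symm

theorem kPush_xi [CompactSpace Y] (i : ℕ) :
    kPush n Y (xi (twPY n Y) (i : ℤ)) = (((n + i).choose i : ℕ) : SGA6.Kvb Y) := by
  have h := CMReg18.kPush_twF_unit (n := n) (Y := Y) (d := (i : ℤ)) (by omega)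
  have h2 := CMReg18.pushVb_twistOver_nat (n := n) (Y := Y) i
  have e : xi (twPY n Y) (i : ℤ) = KRR.cl _ (KRR.twF n Y (i : ℤ) (Coh.structureModule (KRR.PY n Y))) :=
    (cl_congr (M2.tensorRUnit ((overData n Y).O (i : ℤ))).symm (vb_O (W := twPY n Y) (i : ℤ)))
  refine ((congrArg _ e).trans (h.trans h2)).trans ?_
  rw [← mul_one (((n + i).choose i : ℕ) : SGA6.Kvb Y), ← nsmul_eq_mul]
  exact congrArg _ cl_one

theorem kPush_basis [CompactSpace Y] (i : ℕ) (a : SGA6.Kvb Y) :
    kPush n Y (pullHom (KRR.pr n Y) a * xi (twPY n Y) (i : ℤ)) = (((n + i).choose i : ℕ) : SGA6.Kvb Y) * a := by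
  rw [mul_comm (pullHom _ a), kPush_mul_pullHom, kPush_xi]

theorem hom_ext_basis [CompactSpace Y] {G : Type*} [AddCommGroup G] {f g : SGA6.Kvb (KRR.PY n Y) →+ G}
    (h : ∀ (a : SGA6.Kvb Y) (i : ℕ), f (pullHom (KRR.pr n Y) a * xi (twPY n Y) (i : ℤ)) =
      g (pullHom (KRR.pr n Y) a * xi (twPY n Y) (i : ℤ))) : f = g := by
  refine AddMonoidHom.ext fun z => CMReg18.mem_of_twists (f.eqLocus g) (fun i _ N hN => ?_) z
  have hp := M2.isFinLocFree_pullback (KRR.pr n Y) hN
  have e : pullHom (KRR.pr n Y) (cl N) * xi (twPY n Y) (i : ℤ) = CMReg18.clTP (n := n) (i : ℤ) N :=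
    (congrArg (fun t => t * xi (twPY n Y) (i : ℤ)) (pullHom_cl (KRR.pr n Y) (A := N) hN)).trans
      (cl_mul hp (vb_O (W := twPY n Y) (i : ℤ)))
  have h' := h (cl N) i
  rw [e] at h'
  exact h'

theorem pullHom_projMap_xi (φ : X ⟶ Y) (d : ℤ) :
    pullHom (KRR.projSpaceMap n φ) (xi (twPY n Y) d) = xi (twPY n X) d := by
  refine (pullHom_cl _ (vb_O d)).trans ?_
  exact cl_congr (CMReg18.nonempty_pullback_twistOver n φ d).some (M2.isFinLocFree_pullback _ (vb_O d))

theorem kPush_pushK_section' [IsNoetherian Y] (hY : KRR.HasEnoughLocFree Y) (hP : KRR.HasEnoughLocFree (KRR.PY n Y))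
    [IsNoetherian (KRR.PY n Y)] (s : Y ⟶ KRR.PY n Y) [IsClosedImmersion s]
    (hr : Mor2.IsRegularClosedImmersion s) (hs : s ≫ KRR.pr n Y = 𝟙 Y) :
    (kPush n Y).comp (pushK s hr hP) = AddMonoidHom.id _ :=
  LFResK5.addHom_ext fun _ hF => kPush_pushK_section hY hP s hs hF

theorem kPush_pushK_projMap' [IsNoetherian X] [IsNoetherian Y] (i : X ⟶ Y) [IsClosedImmersion i]
    (hi : Mor2.IsRegularClosedImmersion i) (hY : KRR.HasEnoughLocFree Y) (hP : KRR.HasEnoughLocFree (KRR.PY n Y))
    [IsNoetherian (KRR.PY n Y)] [IsNoetherian (KRR.PY n X)] [IsClosedImmersion (KRR.projSpaceMap n i)]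
    (hj : Mor2.IsRegularClosedImmersion (KRR.projSpaceMap n i)) :
    (kPush n Y).comp (pushK (KRR.projSpaceMap n i) hj hP) = (pushK i hi hY).comp (kPush n X) :=
  LFResK5.addHom_ext fun _ hG => kPush_pushK_projMap i hi hY hP hG

end Groth.Agent.PBK5
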