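import Groth.Agent.Lib.PBK5.Basic
import Groth.Agent.Lib.CMReg18.RegQCoh
import Groth.Agent.Lib.CMReg18.Hyperplane
import Groth.Agent.Lib.CMReg18.Linear
import Groth.Agent.Lib.StQC14.FinPushGen
import Groth.Agent.Lib.PushUnit3.Basic
import Groth.Agent.Lib.DPerf.Top

/-! Regular modules on a bundle of projective spaces. -/

set_option autoImplicit false
set_option linter.style.haveILetI false
set_option backward.isDefEq.respectTransparency false
set_option backward.isDefEq.respectTransparency.types false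
set_option maxHeartbeats 800000

universe u

open CategoryTheory Limits AlgebraicGeometry TopologicalSpace Opposite

noncomputable section

namespace Groth.Agent.PBK5

open Groth.Agent.CMReg18

theorem injective_app_of_mono {X : Scheme.{u}} {M N : X.Modules} (φ : M ⟶ N) [Mono φ] (U : X.Opens) :
    Function.Injective (φ.app U) := by
  let ev := SheafOfModules.evaluation X.ringCatSheaf (op U)
  haveI : PreservesFiniteLimits ev :=
    inferInstanceAs (PreservesFiniteLimits (SheafOfModules.forget _ ⋙ PresheafOfModules.evaluation _ (op U)))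
  exact (ModuleCat.mono_iff_injective _).1 (inferInstanceAs (Mono (ev.map φ)))

variable {T P : Scheme.{u}} {π : P ⟶ T} {W : Tw P} {n : ℕ}

variable (π) in
/-- No higher direct images. -/
def Acyc (M : P.Modules) : Prop :=
  ∀ q : ℕ, 1 ≤ q → IsZero ((Coh.RpushAb π q).obj (Coh.toAb M))

variable (π W) in
/-- Regularity relative to the base. -/
def Reg (M : P.Modules) : Prop :=
  ∀ i : ℕ, 1 ≤ i → IsZero ((Coh.RpushAb π i).obj (Coh.toAb (W.tw M (-(i : ℤ)))))

variable (π W) in
/-- Vanishing in low degrees, one twist further down. -/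
def Low (M : P.Modules) (i : ℕ) : Prop :=
  ∀ q : ℕ, q < i → IsZero ((Coh.RpushAb π q).obj (Coh.toAb (W.tw M (-1 - (q : ℤ)))))

theorem rpush_of_iso {M N : P.Modules} (e : M ≅ N) {q : ℕ}
    (h : IsZero ((Coh.RpushAb π q).obj (Coh.toAb M))) : IsZero ((Coh.RpushAb π q).obj (Coh.toAb N)) :=
  h.of_iso ((Coh.RpushAb π q).mapIso ((SheafOfModules.toSheaf _).mapIso e.symm))

theorem Acyc.of_iso {M N : P.Modules} (e : M ≅ N) (h : Acyc π M) : Acyc π N := fun q hq => rpush_of_iso e (h q hq)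

theorem isQCoh_tw {M : P.Modules} (hM : Coh.IsQCoh M) (a : ℤ) : Coh.IsQCoh (W.tw M a) :=
  M2.isQCoh_tensor hM (Twist.isQCoh_of_isInvertible (W.inv a))

theorem isVB_tw {M : P.Modules} (hM : FlatMod.IsFinLocFree M) (a : ℤ) : FlatMod.IsFinLocFree (W.tw M a) :=
  M2.isFinLocFree_tensor hM (M2.isFinLocFree_of_isInvertible (W.inv a))

theorem shortExact_tw {S : ShortComplex P.Modules} (hS : S.ShortExact) (a : ℤ) :
    (S.map (M2.tensorR (W.O a))).ShortExact :=
  CurveCoh17.shortExact_tensorR hS (W.O a) fun x => Module.Flat.of_linearEquiv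
    (CurveCoh17.nonempty_stalk_equiv ((M2.isInvertible_iff_isFinLocFreeOfRank_one _).1 (W.inv a)) x).some

theorem IsPB.isProper (h : IsPB π W n) : IsProper π := by
  choose U hU htU hc using fun t : T => h t ⊤ trivial
  exact IsZariskiLocalAtTarget.of_iSup_eq_top (P := @IsProper) U
    (top_le_iff.1 fun t _ => Opens.mem_iSup.2 ⟨t, htU t⟩) fun t => (hc t).proper

/-- A higher direct image vanishes as soon as it does on small charts. -/
theorem IsPB.isZero_rpush (h : IsPB π W n) {M : P.Modules} (hM : Coh.IsQCoh M) (p : ℕ)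
    (hc : ∀ t : T, ∃ V : T.Opens, t ∈ V ∧ ∀ U ≤ V, ChartAt π W n U →
      Subsingleton (Coh.HH (π ⁻¹ᵁ U : P.Opens).toScheme (M.restrict (π ⁻¹ᵁ U).ι) p)) :
    IsZero ((Coh.RpushAb π p).obj (Coh.toAb M)) := by
  haveI := h.isProper
  choose V htV hV using hc
  choose U hUV htU hU using fun t => h t (V t) (htV t)
  exact CohFound.isZero_rpushAb_of_cover π M hM U (fun t => (hU t).affine) (fun t => ⟨t, htU t⟩) p
    fun t => (CohFound.subsingleton_HH_iff _ _).1 (hV t (U t) (hUV t) (hU t))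

theorem IsPB.van (h : IsPB π W n) {M : P.Modules} (hM : Coh.IsQCoh M) {p : ℕ}
    (hp : IsZero ((Coh.RpushAb π p).obj (Coh.toAb M))) {U : T.Opens} (hU : IsAffineOpen U) :
    Subsingleton (Coh.HH (π ⁻¹ᵁ U : P.Opens).toScheme (M.restrict (π ⁻¹ᵁ U).ι) p) :=
  haveI := h.isProper
  (isZero_rpushAb_iff_affine π hM p).1 hp U hU

/-- A twist on a chart. -/
def chartTwIso {U : T.Opens} (D : TwistData (π ⁻¹ᵁ U : P.Opens).toScheme)
    (hO : ∀ a, Nonempty (D.O a ≅ (W.O a).restrict (π ⁻¹ᵁ U).ι)) (M : P.Modules) (a : ℤ) :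
    (W.tw M a).restrict (π ⁻¹ᵁ U).ι ≅ D.tw (M.restrict (π ⁻¹ᵁ U).ι) a :=
  M2.restrictTensorIso _ M (W.O a) ≪≫ M2.tensorIso (Iso.refl _) (hO a).some.symm

theorem Reg.isReg (h : IsPB π W n) {M : P.Modules} (hM : Coh.IsQCoh M) (hr : Reg π W M) {U : T.Opens}
    (hU : IsAffineOpen U) (D : TwistData (π ⁻¹ᵁ U : P.Opens).toScheme)
    (hO : ∀ a, Nonempty (D.O a ≅ (W.O a).restrict (π ⁻¹ᵁ U).ι)) :
    D.IsReg (M.restrict (π ⁻¹ᵁ U).ι) 0 := fun i hi => by
  letI := CBC10.overU π hU
  exact van_iso Γ(T, U) (chartTwIso D hO M (-(i : ℤ)) ≪≫ D.twIso _ (by omega))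
    (h.van (isQCoh_tw hM _) (hr i hi) hU)

/-- All twists of a regular module above `-q` have no `q`-th direct image. -/
theorem Reg.van (h : IsPB π W n) {M : P.Modules} (hM : Coh.IsQCoh M) (hr : Reg π W M) {q : ℕ} (hq : 1 ≤ q)
    {a : ℤ} (ha : -(q : ℤ) ≤ a) : IsZero ((Coh.RpushAb π q).obj (Coh.toAb (W.tw M a))) :=
  h.isZero_rpush (isQCoh_tw hM a) q fun t => ⟨⊤, trivial, fun U _ hc => by
    obtain ⟨D, -, hO, -⟩ := hc.data
    letI := CBC10.overU π hc.affine
    exact van_iso Γ(T, U) (chartTwIso D hO M a).symm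
      ((Reg.isReg h hM hr hc.affine D hO).van Γ(T, U) hq (by omega))⟩

theorem Reg.acyc_tw (h : IsPB π W n) {M : P.Modules} (hM : Coh.IsQCoh M) (hr : Reg π W M) {a : ℤ}
    (ha : -1 ≤ a) : Acyc π (W.tw M a) := fun q hq => hr.van h hM hq (by omega)

theorem Reg.acyc (h : IsPB π W n) {M : P.Modules} (hM : Coh.IsQCoh M) (hr : Reg π W M) : Acyc π M :=
  (hr.acyc_tw h hM (a := 0) (by omega)).of_iso (W.twZero M)

theorem Reg.twist (h : IsPB π W n) {M : P.Modules} (hM : Coh.IsQCoh M) (hr : Reg π W M) {a : ℤ}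
    (ha : 0 ≤ a) : Reg π W (W.tw M a) := fun _ hi =>
  rpush_of_iso (W.twTwist M _ _).symm (hr.van h hM hi (by omega))

/-- Regular modules are generated by their direct images. -/
theorem Reg.epi_counit (h : IsPB π W n) {M : P.Modules} (hM : Coh.IsQCoh M) (hr : Reg π W M) :
    Epi ((Scheme.Modules.pullbackPushforwardAdjunction π).counit.app M) := by
  choose U hUV htU hU using fun t : T => h t ⊤ trivial
  refine VA11.epi_counit_of_cover π M U (fun x => ⟨π x, htU (π x)⟩) fun t => ?_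
  obtain ⟨D, -, hO, hA⟩ := (hU t).data
  letI := CBC10.overU π (hU t).affine
  obtain ⟨κ, p, hp⟩ := TwistData.IsReg.isGloballyGenerated_of_isQCoh D Γ(T, U t)
    (Reg.isReg h hM hr (hU t).affine D hO) (M1.isQCoh_restrict hM _) hA
  exact ⟨κ, p ≫ (D.twZero _).hom, epi_comp _ _⟩

/-- Pullbacks of bundles on a trivialising chart. -/
theorem nonempty_pullback_free {N : T.Modules} {U₀ U : T.Opens} {m : ℕ} (hUU : U ≤ U₀)
    (i : N.restrict U₀.ι ≅ FlatMod.freeMod (U₀ : Scheme.{u}) m) :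
    Nonempty (((Scheme.Modules.pullback π).obj N).restrict (π ⁻¹ᵁ U).ι ≅
      FlatMod.freeMod (π ⁻¹ᵁ U : P.Opens).toScheme m) := by
  obtain ⟨j⟩ := M2.nonempty_free_mono hUU i
  exact ⟨M2.pullbackRestrictIso π N U ≪≫ (Scheme.Modules.pullback _).mapIso j ≪≫ M2.freeModPullbackIso _ _⟩

/-- Twists of pullbacks of bundles have the cohomology of projective space. -/
theorem IsPB.isZero_rpush_pull (h : IsPB π W n) {N : T.Modules} (hN : FlatMod.IsFinLocFree N) {q : ℕ} {d : ℤ}
    (hq : ¬ ((q = 0 ∧ 0 ≤ d) ∨ (q = n ∧ d ≤ -((n : ℤ) + 1)))) :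
    IsZero ((Coh.RpushAb π q).obj (Coh.toAb (W.tw ((Scheme.Modules.pullback π).obj N) d))) := by
  refine h.isZero_rpush (isQCoh_tw (M1.isFP_isQCoh (M1.isFP_of_isFinLocFree (M2.isFinLocFree_pullback π hN))) d) q
    fun t => ?_
  obtain ⟨U₀, m, ht, ⟨i⟩⟩ := hN t
  refine ⟨U₀, ht, fun U hUU hc => ?_⟩
  obtain ⟨j⟩ := nonempty_pullback_free (π := π) hUU i
  letI := CBC10.overU π hc.affine
  exact van_iso Γ(T, U) (M2.restrictTensorIso (π ⁻¹ᵁ U).ι _ (W.O d) ≪≫ M2.tensorIso j (Iso.refl _) ≪≫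
    PreservesCoproduct.iso (M2.tensorR ((W.O d).restrict (π ⁻¹ᵁ U).ι)) _ ).symm
      (van_sigma Γ(T, U) _ fun _ => van_iso Γ(T, U) (M2.tensorLUnit _).symm (hc.van d q hq))

variable {M : P.Modules}

/-- Global sections on a chart see the direct image. -/
theorem IsPB.sections_pull {N : T.Modules} (hN : FlatMod.IsFinLocFree N) (t : T) :
    ∃ V : T.Opens, t ∈ V ∧ ∀ U ≤ V, ChartAt π W n U →
      Function.Surjective (((Scheme.Modules.pullbackPushforwardAdjunction π).unit.app N).app U) := by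
  obtain ⟨m, D, e, htD, he⟩ := PushUnit3.exists_isBas_nhd' hN t
  refine ⟨D, htD, fun U hUD hc s => ?_⟩
  obtain ⟨c, hc'⟩ := (AmpleFin18.isBas_pullback π he (π ⁻¹ᵁ U) (π.preimage_mono hUD)).2 s
  choose r hr using fun i => hc.secs.2 (c i)
  refine ⟨∑ i, r i • M1.mres N hUD (e i), ?_⟩
  rw [P1Split.app_sum_smul]
  refine Eq.trans (Finset.sum_congr rfl fun i _ => ?_) hc'
  rw [← hr i]
  exact congrArg₂ (· • ·) rfl (M1.app_mres _ hUD (e i))

variable (π) in
/-- The counit. -/
abbrev eps (M : P.Modules) : (Scheme.Modules.pullback π).obj ((Scheme.Modules.pushforward π).obj M) ⟶ M :=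
  (Scheme.Modules.pullbackPushforwardAdjunction π).counit.app M

theorem eps_unit (M : P.Modules) (U : T.Opens) (t : Γ(M, π ⁻¹ᵁ U)) :
    (eps π M).app (π ⁻¹ᵁ U) (((Scheme.Modules.pullbackPushforwardAdjunction π).unit.app
      ((Scheme.Modules.pushforward π).obj M)).app U t) = t :=
  congrArg (fun φ : (Scheme.Modules.pushforward π).obj M ⟶ _ => φ.app U t)
    ((Scheme.Modules.pullbackPushforwardAdjunction π).right_triangle_components M)

variable (π W) in
/-- The next module of the resolution. -/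
abbrev next (M : P.Modules) : P.Modules := W.tw (kernel (eps π M)) 1

theorem ses_eps (h : IsPB π W n) (hM : Coh.IsQCoh M) (hr : Reg π W M) :
    (ShortComplex.mk (kernel.ι (eps π M)) (eps π M) (kernel.condition _)).ShortExact :=
  haveI := hr.epi_counit h hM
  ShortComplex.ShortExact.mk' (ShortComplex.exact_of_f_is_kernel _ (kernelIsKernel _)) inferInstance inferInstance

theorem vb_next (h : IsPB π W n) (hM : FlatMod.IsFinLocFree M) (hr : Reg π W M)
    (hN : FlatMod.IsFinLocFree ((Scheme.Modules.pushforward π).obj M)) :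
    FlatMod.IsFinLocFree (kernel (eps π M)) :=
  DPerf.isFinLocFree_kernel _ _ (kernel.condition _) (ses_eps h (M1.isFP_isQCoh (M1.isFP_of_isFinLocFree hM)) hr)
    (M2.isFinLocFree_pullback π hN) hM

/-- One step of the resolution: regularity moves on and the low vanishing grows. -/
theorem reg_next (h : IsPB π W n) (hM : FlatMod.IsFinLocFree M) (hr : Reg π W M)
    (hN : FlatMod.IsFinLocFree ((Scheme.Modules.pushforward π).obj M)) :
    Reg π W (next π W M) ∧ ∀ i, Low π W M i → Low π W (next π W M) (i + 1) := by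
  have hq : Coh.IsQCoh M := M1.isFP_isQCoh (M1.isFP_of_isFinLocFree hM)
  have hK := vb_next h hM hr hN
  have hKq : Coh.IsQCoh (kernel (eps π M)) := M1.isFP_isQCoh (M1.isFP_of_isFinLocFree hK)
  have hses := ses_eps h hq hr
  -- degree zero: the counit is bijective on sections over small charts
  have h0 : ∀ t : T, ∃ V : T.Opens, t ∈ V ∧ ∀ U ≤ V, ChartAt π W n U →
      Function.Bijective ((eps π M).app (π ⁻¹ᵁ U)) := fun t => by
    obtain ⟨V, htV, hV⟩ := IsPB.sections_pull (W := W) (n := n) hN t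
    refine ⟨V, htV, fun U hUV hc => ⟨fun s s' e => ?_, fun y => ⟨_, eps_unit M U y⟩⟩⟩
    obtain ⟨a, ha⟩ := hV U hUV hc s
    obtain ⟨a', ha'⟩ := hV U hUV hc s'
    rw [← ha, ← ha'] at e ⊢
    rw [eps_unit, eps_unit] at e
    rw [e]
  have hlong : ∀ (d : ℤ) (q : ℕ), ¬ (q + 1 = n ∧ d ≤ -((n : ℤ) + 1)) →
      IsZero ((Coh.RpushAb π q).obj (Coh.toAb (W.tw M d))) →
      IsZero ((Coh.RpushAb π (q + 1)).obj (Coh.toAb (W.tw (kernel (eps π M)) d))) := fun d q hd hz =>
    h.isZero_rpush (isQCoh_tw hKq d) _ fun t => ⟨⊤, trivial, fun U _ hc => by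
      letI := CBC10.overU π hc.affine
      exact van₁ Γ(T, U) ((shortExact_tw hses d).map_of_exact (Scheme.Modules.restrictFunctor (π ⁻¹ᵁ U).ι))
        (h.van (isQCoh_tw hq d) hz hc.affine)
        (h.van (isQCoh_tw (M1.isFP_isQCoh (M1.isFP_of_isFinLocFree (M2.isFinLocFree_pullback π hN))) d)
          (h.isZero_rpush_pull hN (by omega)) hc.affine)⟩
  have hH0 : IsZero ((Coh.RpushAb π 0).obj (Coh.toAb (kernel (eps π M)))) :=
    h.isZero_rpush hKq 0 fun t => by
      obtain ⟨V, htV, hV⟩ := h0 t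
      refine ⟨V, htV, fun U hUV hc => ?_⟩
      haveI hsub : Subsingleton Γ((kernel (eps π M)).restrict (π ⁻¹ᵁ U).ι, ⊤) := by
        refine subsingleton_of_forall_eq 0 fun z => ?_
        haveI := hses.mono_f
        have key : ∀ O : P.Opens, O = π ⁻¹ᵁ U → ∀ z : Γ(kernel (eps π M), O), z = 0 := by
          rintro O rfl z
          refine injective_app_of_mono (kernel.ι (eps π M)) _ ?_
          rw [map_zero]
          refine (hV U hUV hc).1 ?_
          rw [map_zero]
          exact ConcreteCategory.congr_hom (congrArg (fun φ => φ.app (π ⁻¹ᵁ U)) (kernel.condition (eps π M))) z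
        exact key _ (Scheme.Opens.ι_image_top _) z
      exact (CurveCoh17.hh0 _).toEquiv.subsingleton
  have hH1 : IsZero ((Coh.RpushAb π 1).obj (Coh.toAb (kernel (eps π M)))) :=
    h.isZero_rpush hKq 1 fun t => by
      obtain ⟨V, htV, hV⟩ := h0 t
      refine ⟨V, htV, fun U hUV hc => ?_⟩
      letI := CBC10.overU π hc.affine
      have hS := hses.map_of_exact (Scheme.Modules.restrictFunctor (π ⁻¹ᵁ U).ι)
      have hmid : Subsingleton (Coh.HH (π ⁻¹ᵁ U : P.Opens).toScheme
          (((Scheme.Modules.pullback π).obj ((Scheme.Modules.pushforward π).obj M)).restrict (π ⁻¹ᵁ U).ι) 1) :=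
        h.van (M1.isFP_isQCoh (M1.isFP_of_isFinLocFree (M2.isFinLocFree_pullback π hN)))
          (rpush_of_iso (W.twZero _) (h.isZero_rpush_pull hN (by omega))) hc.affine
      refine subsingleton_of_forall_eq 0 fun x => ?_
      obtain ⟨y, rfl⟩ := (CurveCoh17.exact_hdelta_hmap Γ(T, U) hS 0 x).1 (hmid.elim _ _)
      have key : ∀ O : P.Opens, O = π ⁻¹ᵁ U → ∀ y : Γ(M, O), ∃ z, (eps π M).app O z = y := by
        rintro O rfl y
        exact (hV U hUV hc).2 y
      obtain ⟨z, hz⟩ := key _ (Scheme.Opens.ι_image_top _)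
        (CurveCoh17.hh0 (M.restrict (π ⁻¹ᵁ U).ι) y)
      refine (CurveCoh17.exact_hmap_hdelta Γ(T, U) hS 0 y).2
        ⟨(CurveCoh17.hh0 _).symm z, (CurveCoh17.hh0 _).injective ?_⟩
      rw [CurveCoh17.hh0_hmap, AddEquiv.apply_symm_apply]
      exact hz
  refine ⟨fun i hi => ?_, fun i hlow q hq' => ?_⟩
  · refine rpush_of_iso (W.twTwist _ _ _).symm ?_
    obtain rfl | ⟨j, rfl⟩ : i = 1 ∨ ∃ j, i = j + 2 := by
      rcases Nat.lt_or_ge i 2 with hl | hl
      exacts [Or.inl (by omega), Or.inr ⟨i - 2, by omega⟩]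
    · exact rpush_of_iso (W.twIso _ (by omega) ≪≫ W.twZero _).symm hH1
    · exact hlong _ (j + 1) (by omega) (hr.van h hq (by omega) (by omega))
  · refine rpush_of_iso (W.twTwist _ _ _).symm ?_
    cases q with
    | zero => exact rpush_of_iso (W.twIso _ (by omega) ≪≫ W.twZero _).symm hH0
    | succ j =>
      exact hlong _ j (by omega) (rpush_of_iso (W.twIso _ (by push_cast; ring)) (hlow j (by omega)))

/-- Where all low vanishing holds there is nothing left. -/
theorem isZero_of_low (h : IsPB π W n) (hM : Coh.IsQCoh M) (hr : Reg π W M) (hl : Low π W M (n + 1)) :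
    IsZero M := by
  have hq := isQCoh_tw (W := W) hM (-1)
  have hr' : Reg π W (W.tw M (-1)) := fun i hi => by
    refine rpush_of_iso (W.twTwist M (-1) (-(i : ℤ))).symm ?_
    by_cases hin : i < n + 1
    · exact rpush_of_iso (W.twIso _ (show (-1 : ℤ) - (i : ℤ) = -1 + -(i : ℤ) by ring)) (hl i hin)
    · exact h.isZero_rpush (isQCoh_tw hM _) i fun t => ⟨⊤, trivial, fun U _ hc =>
        hc.cohDim _ (M1.isQCoh_restrict (isQCoh_tw hM _) _) i (by omega)⟩
  have hz0 : IsZero ((Coh.RpushAb π 0).obj (Coh.toAb (W.tw M (-1)))) :=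
    rpush_of_iso (W.twIso _ (by norm_num)) (hl 0 (by omega))
  haveI := hr'.epi_counit h hq
  have hN : IsZero ((Scheme.Modules.pushforward π).obj (W.tw M (-1))) := by
    rw [IsZero.iff_id_eq_zero]
    refine StQC14.hom_eq_zero_of_affine _ fun U hU m => ?_
    letI := CBC10.overU π hU
    have h0 := h.van hq hz0 hU
    haveI : Subsingleton Γ((W.tw M (-1)).restrict (π ⁻¹ᵁ U).ι, ⊤) := (CurveCoh17.hh0 _).symm.toEquiv.subsingleton
    have key : ∀ V : P.Opens, (π ⁻¹ᵁ U).ι ''ᵁ ⊤ = V → ∀ z : Γ(W.tw M (-1), V), z = 0 := by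
      rintro V rfl z
      exact Subsingleton.elim (α := Γ((W.tw M (-1)).restrict (π ⁻¹ᵁ U).ι, ⊤)) z 0
    exact key _ (by rw [Scheme.Hom.image_top_eq_opensRange, Scheme.Opens.opensRange_ι]) m
  have hz : IsZero (W.tw M (-1)) := IsZero.of_epi (eps π (W.tw M (-1))) ((Scheme.Modules.pullback π).map_isZero hN)
  exact ((M2.tensorR (W.O 1)).map_isZero hz).of_iso
    (W.twTwist M (-1) 1 ≪≫ W.twIso M (by norm_num) ≪≫ W.twZero M).symm

end Groth.Agent.PBK5
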