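import Groth.Agent.Lib.PBK5.Kos
import Groth.Agent.Lib.CMReg18.PullVb
import Groth.Agent.Lib.TensorMod.PullTensor

/-! The K-ring of a bundle of projective spaces is generated by the twists over the K-ring of the base. -/

set_option autoImplicit false
set_option linter.style.haveILetI false
set_option backward.isDefEq.respectTransparency false
set_option backward.isDefEq.respectTransparency.types false
set_option maxHeartbeats 800000

universe u

open CategoryTheory Limits AlgebraicGeometry TopologicalSpace Opposite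

noncomputable section

namespace Groth.Agent.PBK5

open Groth.Agent.CMReg18
open Groth.Agent.ExtFil4 (cl kvbRing)

attribute [local instance] ExtFil4.kvbRing

variable {T P : Scheme.{u}}

theorem cl_mul {X : Scheme.{u}} {A B : X.Modules} (hA : FlatMod.IsFinLocFree A) (hB : FlatMod.IsFinLocFree B) :
    cl A * cl B = cl (CohB1.tensorMod A B) :=
  ExtFil4.mul_cl hA hB

theorem cl_one {X : Scheme.{u}} : cl (Coh.structureModule X) = 1 := rfl

theorem cl_congr {X : Scheme.{u}} {A B : X.Modules} (e : A ≅ B) (hA : FlatMod.IsFinLocFree A) : cl A = cl B :=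
  ExtFil4.cl_iso e hA

theorem cl_ses {X : Scheme.{u}} (S : ShortComplex X.Modules) (hS : S.ShortExact) (h1 : FlatMod.IsFinLocFree S.X₁)
    (h2 : FlatMod.IsFinLocFree S.X₂) (h3 : FlatMod.IsFinLocFree S.X₃) : cl S.X₂ = cl S.X₁ + cl S.X₃ :=
  K0Cat.clSub_ses (P := ExtFil4.VB X) S hS h1 h2 h3

theorem cl_of_isZero {X : Scheme.{u}} {A : X.Modules} (hA : IsZero A) : cl A = 0 :=
  K0Cat.clSub_of_isZero (P := ExtFil4.VB X) hA (KFlat.Sch.isFinLocFree_of_isZero hA)

theorem isUnit_cl_inv {X : Scheme.{u}} {L : X.Modules} (hL : PicF.IsInvertible L) : IsUnit (cl L) := by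
  obtain ⟨D, hD, ⟨e⟩⟩ := M2.exists_inverse hL
  refine IsUnit.of_mul_eq_one (cl D) ?_
  rw [cl_mul (M2.isFinLocFree_of_isInvertible hL) (M2.isFinLocFree_of_isInvertible hD), ← cl_one]
  exact cl_congr e (M2.isFinLocFree_tensor (M2.isFinLocFree_of_isInvertible hL) (M2.isFinLocFree_of_isInvertible hD))

/-- The pull-back of classes as a ring map. -/
def pullHom (π : P ⟶ T) : SGA6.Kvb T →+* SGA6.Kvb P where
  toFun := CMReg18.kPull π
  map_zero' := map_zero _
  map_add' := map_add _
  map_one' := by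
    rw [← cl_one, ← cl_one]
    exact (CMReg18.kPull_cl π ExtFil4.isVB_one).trans
      (cl_congr (PicLoc.pullbackStructureIso π) (M2.isFinLocFree_pullback π ExtFil4.isVB_one))
  map_mul' := fun x y => by
    induction x using K0Cat.clSub_induction with
    | h0 => simp
    | hneg a ha => simp only [neg_mul, map_neg, ha]
    | hadd a b ha hb => simp only [add_mul, map_add, ha, hb]
    | hcl A hA =>
      induction y using K0Cat.clSub_induction with
      | h0 => simp
      | hneg a ha => simp only [mul_neg, map_neg, ha]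
      | hadd a b ha hb => simp only [mul_add, map_add, ha, hb]
      | hcl B hB =>
        show CMReg18.kPull π (cl A * cl B) = CMReg18.kPull π (cl A) * CMReg18.kPull π (cl B)
        rw [cl_mul hA hB]
        erw [CMReg18.kPull_cl π hA, CMReg18.kPull_cl π hB, CMReg18.kPull_cl π (M2.isFinLocFree_tensor hA hB)]
        exact (cl_congr (M2.pullTensorIso π A B) (M2.isFinLocFree_pullback π (M2.isFinLocFree_tensor hA hB))).trans
          (cl_mul (M2.isFinLocFree_pullback π hA) (M2.isFinLocFree_pullback π hB)).symm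

theorem pullHom_cl (π : P ⟶ T) {A : T.Modules} (hA : FlatMod.IsFinLocFree A) :
    pullHom π (cl A) = cl ((Scheme.Modules.pullback π).obj A) :=
  CMReg18.kPull_cl π hA

/-- The class of a twist. -/
def xi (W : Tw P) (a : ℤ) : SGA6.Kvb P := cl (W.O a)

variable {π : P ⟶ T} {W : Tw P} {n : ℕ}

theorem vb_O (a : ℤ) : FlatMod.IsFinLocFree (W.O a) := M2.isFinLocFree_of_isInvertible (W.inv a)

theorem xi_zero : xi W 0 = 1 := (cl_congr W.zero (vb_O 0)).trans cl_one

theorem xi_add (a b : ℤ) : xi W a * xi W b = xi W (a + b) :=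
  (cl_mul (vb_O a) (vb_O b)).trans (cl_congr (W.add a b) (M2.isFinLocFree_tensor (vb_O a) (vb_O b)))

theorem cl_tw {M : P.Modules} (hM : FlatMod.IsFinLocFree M) (a : ℤ) : cl (W.tw M a) = cl M * xi W a :=
  (cl_mul hM (vb_O a)).symm

/-- The relation of the twists. -/
theorem KosData.xi_rel (K : KosData π W n) :
    ∑ p ∈ Finset.range (n + 2), ((-1 : ℤ) ^ p) • (pullHom π (cl (K.L p)) * xi W (-(p : ℤ))) = 0 := by
  refine Eq.trans (Finset.sum_congr rfl fun p _ => ?_)
    (K.rel (Q := fun A => FlatMod.IsFinLocFree A) (a := fun A => cl A)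
      (fun e h => M2.isFinLocFree_of_iso e h) (fun h => KFlat.Sch.isFinLocFree_of_isZero h)
      (fun h h' => KFlat.Sch.isFinLocFree_biprod h h') cl_ses (Coh.structureModule P) ExtFil4.isVB_one
      (fun p => M2.isFinLocFree_tensor (K.vb_X p) ExtFil4.isVB_one)
      (fun j => M2.isFinLocFree_tensor (K.vb_bd j) ExtFil4.isVB_one))
  refine congrArg _ ?_
  rw [pullHom_cl π (K.hL p), ← cl_tw (M2.isFinLocFree_pullback π (K.hL p))]
  exact cl_congr ((K.term p).some.symm ≪≫ (M2.tensorRUnit _).symm)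
    (isVB_tw (M2.isFinLocFree_pullback π (K.hL p)) _)

variable (π W n) in
/-- The span of the first twists. -/
def spanTw : AddSubgroup (SGA6.Kvb P) where
  carrier := {x | ∃ a : Fin (n + 1) → SGA6.Kvb T, ∑ i : Fin (n + 1), pullHom π (a i) * xi W (-((i : ℕ) : ℤ)) = x}
  zero_mem' := ⟨0, by simp⟩
  add_mem' := by
    rintro _ _ ⟨a, rfl⟩ ⟨b, rfl⟩
    exact ⟨a + b, by simp only [Pi.add_apply, map_add, add_mul, Finset.sum_add_distrib]⟩
  neg_mem' := by
    rintro _ ⟨a, rfl⟩
    exact ⟨-a, by simp only [Pi.neg_apply, map_neg, neg_mul, Finset.sum_neg_distrib]⟩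

theorem mul_mem_spanTw (c : SGA6.Kvb T) {x : SGA6.Kvb P} (hx : x ∈ spanTw π W n) :
    pullHom π c * x ∈ spanTw π W n := by
  obtain ⟨a, rfl⟩ := hx
  exact ⟨fun i => c * a i, by simp only [map_mul, mul_assoc, Finset.mul_sum]⟩

theorem xi_mem_spanTw {p : ℕ} (hp : p ≤ n) : xi W (-(p : ℤ)) ∈ spanTw π W n := by
  classical
  refine ⟨Pi.single ⟨p, by omega⟩ 1, ?_⟩
  rw [Finset.sum_eq_single ⟨p, by omega⟩]
  · simp
  · intro b _ hb; simp [hb]
  · intro h; simp at h

theorem xi_succ_mem (K : KosData π W n) : xi W (-((n : ℤ) + 1)) ∈ spanTw π W n := by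
  have h := K.xi_rel
  rw [Finset.sum_range_succ] at h
  have hu : IsUnit (pullHom π (cl (K.L (n + 1)))) := (isUnit_cl_inv K.top).map (pullHom π)
  obtain ⟨c, hc⟩ := isUnit_cl_inv K.top
  have hmem : ((-1 : ℤ) ^ (n + 1)) • (pullHom π (cl (K.L (n + 1))) * xi W (-(((n + 1 : ℕ) : ℤ)))) ∈ spanTw π W n := by
    rw [← neg_eq_of_add_eq_zero_right h]
    refine AddSubgroup.neg_mem _ (AddSubgroup.sum_mem _ fun p hp => AddSubgroup.zsmul_mem _ ?_ _)
    exact mul_mem_spanTw _ (xi_mem_spanTw (by simp only [Finset.mem_range] at hp; omega))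
  have hmem2 : pullHom π (cl (K.L (n + 1))) * xi W (-(((n + 1 : ℕ) : ℤ))) ∈ spanTw π W n := by
    have := AddSubgroup.zsmul_mem _ hmem ((-1 : ℤ) ^ (n + 1))
    rwa [smul_smul, ← pow_add, ← two_mul, pow_mul, neg_one_sq, one_pow, one_smul] at this
  have := mul_mem_spanTw (↑c⁻¹) hmem2
  rw [← mul_assoc, ← map_mul, ← hc, Units.inv_mul, map_one, one_mul] at this
  exact_mod_cast this

theorem xi_one_mem (K : KosData π W n) : xi W 1 ∈ spanTw π W n := by
  have h := congrArg (fun x => x * xi W 1) K.xi_rel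
  simp only [zero_mul, Finset.sum_mul, smul_mul_assoc, mul_assoc, xi_add] at h
  rw [Finset.sum_range_succ'] at h
  have h0 : pullHom π (cl (K.L 0)) = 1 := by
    rw [show cl (K.L 0) = 1 from (cl_congr K.low.some (K.hL 0)).trans cl_one, map_one]
  simp only [pow_zero, one_smul, h0, one_mul, Nat.cast_zero, neg_zero, zero_add] at h
  rw [← neg_eq_of_add_eq_zero_right h]
  refine AddSubgroup.neg_mem _ (AddSubgroup.sum_mem _ fun p hp => AddSubgroup.zsmul_mem _ ?_ _)
  rw [show (-((p + 1 : ℕ) : ℤ) + 1) = -(p : ℤ) by push_cast; ring]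
  exact mul_mem_spanTw _ (xi_mem_spanTw (by simp only [Finset.mem_range] at hp; omega))

/-- The span is stable under all twists. -/
theorem xi_mul_mem (K : KosData π W n) (a : ℤ) {x : SGA6.Kvb P} (hx : x ∈ spanTw π W n) :
    xi W a * x ∈ spanTw π W n := by
  have hup : ∀ y ∈ spanTw π W n, xi W 1 * y ∈ spanTw π W n := by
    rintro _ ⟨b, rfl⟩
    rw [Finset.mul_sum]
    refine AddSubgroup.sum_mem _ fun i _ => ?_
    rw [mul_left_comm, xi_add]
    refine mul_mem_spanTw _ ?_
    obtain ⟨j, hj⟩ | hj : (∃ j, (i : ℕ) = j + 1) ∨ (i : ℕ) = 0 := by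
      rcases Nat.eq_zero_or_pos (i : ℕ) with h | h
      exacts [Or.inr h, Or.inl ⟨(i : ℕ) - 1, by omega⟩]
    · rw [show (1 : ℤ) + -((i : ℕ) : ℤ) = -(j : ℤ) by rw [hj]; push_cast; ring]
      exact xi_mem_spanTw (by omega)
    · rw [show (1 : ℤ) + -((i : ℕ) : ℤ) = 1 by rw [hj]; simp]
      exact xi_one_mem K
  have hdown : ∀ y ∈ spanTw π W n, xi W (-1) * y ∈ spanTw π W n := by
    rintro _ ⟨b, rfl⟩
    rw [Finset.mul_sum]
    refine AddSubgroup.sum_mem _ fun i _ => ?_
    rw [mul_left_comm, xi_add]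
    refine mul_mem_spanTw _ ?_
    by_cases hi : (i : ℕ) < n
    · rw [show (-1 : ℤ) + -((i : ℕ) : ℤ) = -(((i : ℕ) + 1 : ℕ) : ℤ) by push_cast; ring]
      exact xi_mem_spanTw (by omega)
    · rw [show (-1 : ℤ) + -((i : ℕ) : ℤ) = -((n : ℤ) + 1) by rw [show (i : ℕ) = n by omega]; ring]
      exact xi_succ_mem K
  induction a using Int.induction_on with
  | zero => rw [xi_zero, one_mul]; exact hx
  | succ m ih => rw [add_comm, ← xi_add, mul_assoc]; exact hup _ ih
  | pred m ih => rw [sub_eq_add_neg, add_comm, ← xi_add, mul_assoc]; exact hdown _ ih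

theorem one_mem_spanTw : (1 : SGA6.Kvb P) ∈ spanTw π W n := by
  simpa [xi_zero] using xi_mem_spanTw (π := π) (W := W) (p := 0) (Nat.zero_le n)

theorem pull_mem_spanTw (c : SGA6.Kvb T) : pullHom π c ∈ spanTw π W n := by
  simpa using mul_mem_spanTw c (one_mem_spanTw (π := π) (W := W) (n := n))

variable [CompactSpace T]

/-- Regular bundles push forward to bundles. -/
theorem KosData.vb_push (K : KosData π W n) (h : IsPB π W n) {M : P.Modules} (hM : FlatMod.IsFinLocFree M)
    {b : ℤ} (hA : ∀ x, b ≤ x → Acyc π (W.tw M x)) :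
    ∀ x, b ≤ x → Good π (W.tw M x) := by
  obtain ⟨N, hN⟩ := h.exists_large hM
  suffices H : ∀ (k : ℕ) (x : ℤ), b ≤ x → (N : ℤ) - x ≤ k → Good π (W.tw M x) from fun x hx =>
    H ((N : ℤ) - x).toNat x hx (Int.self_le_toNat _)
  intro k
  induction k with
  | zero => exact fun x hx hk => ⟨isVB_tw hM x, hA x hx, (hN x (by omega)).2⟩
  | succ k ih =>
    intro y hy hk
    exact K.good_down h hM y (fun x h1 _ => hA x (hy.trans h1)) fun x h1 _ => (ih x (by omega) (by omega)).2.2

/-- Regular bundles lie in the span. -/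
theorem mem_of_reg (K : KosData π W n) (h : IsPB π W n) : ∀ (k i : ℕ) (M : P.Modules), i + k = n + 1 →
    FlatMod.IsFinLocFree M → Reg π W M → Low π W M i → cl M ∈ spanTw π W n
  | 0, i, M, hik, hM, hr, hl => by
    obtain rfl : i = n + 1 := by omega
    rw [cl_of_isZero (isZero_of_low h (M1.isFP_isQCoh (M1.isFP_of_isFinLocFree hM)) hr hl)]
    exact AddSubgroup.zero_mem _
  | k + 1, i, M, hik, hM, hr, hl => by
    have hq := M1.isFP_isQCoh (M1.isFP_of_isFinLocFree hM)
    have hN : FlatMod.IsFinLocFree ((Scheme.Modules.pushforward π).obj M) :=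
      ((K.vb_push h hM (b := 0) fun x hx => hr.acyc_tw h hq (by omega)) 0 le_rfl |>.of_iso (W.twZero M)).2.2
    obtain ⟨hr', hl'⟩ := reg_next h hM hr hN
    have hk := vb_next h hM hr hN
    have hmem := mem_of_reg K h k (i + 1) (next π W M) (by omega) (isVB_tw hk 1) hr' (hl' i hl)
    rw [cl_tw hk] at hmem
    have hk' : cl (kernel (eps π M)) ∈ spanTw π W n := by
      have h1 := xi_mul_mem K (-1) hmem
      rwa [mul_left_comm, xi_add, neg_add_cancel, xi_zero, mul_one] at h1
    have he := cl_ses _ (ses_eps h hq hr) hk (M2.isFinLocFree_pullback π hN) hM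
    have he' : cl M = pullHom π (cl ((Scheme.Modules.pushforward π).obj M)) - cl (kernel (eps π M)) := by
      rw [pullHom_cl π hN]
      exact eq_sub_of_add_eq' he.symm
    rw [he']
    exact AddSubgroup.sub_mem _ (pull_mem_spanTw _) hk'

/-- Every class lies in the span. -/
theorem mem_spanTw (K : KosData π W n) (h : IsPB π W n) (x : SGA6.Kvb P) : x ∈ spanTw π W n := by
  induction x using K0Cat.clSub_induction with
  | h0 => exact AddSubgroup.zero_mem _
  | hneg a ha => exact AddSubgroup.neg_mem _ ha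
  | hadd a b ha hb => exact AddSubgroup.add_mem _ ha hb
  | hcl M hM =>
    obtain ⟨N, hN⟩ := h.exists_large (M := M) hM
    have hr := (hN N le_rfl).1
    have hmem := mem_of_reg K h (n + 1) 0 _ (by omega) (isVB_tw hM N) hr fun q hq => absurd hq (Nat.not_lt_zero q)
    rw [cl_tw hM] at hmem
    have h1 := xi_mul_mem K (-(N : ℤ)) hmem
    rwa [mul_left_comm, xi_add, neg_add_cancel, xi_zero, mul_one] at h1

end Groth.Agent.PBK5
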