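import Groth.Agent.Lib.PBK5.Ind
import Groth.Agent.Lib.Lambda.Split

/-! The K-ring of vector bundles is a special lambda-ring. -/

set_option autoImplicit false
set_option linter.style.haveILetI false
set_option backward.isDefEq.respectTransparency false
set_option backward.isDefEq.respectTransparency.types false

universe v u

open CategoryTheory Limits AlgebraicGeometry LambdaRing MvPolynomial

noncomputable section

namespace Groth.Agent.PBK5

open Groth.Agent.ExtFil4 (cl)
open Groth.Agent.RankLoc10 (rk rk_eq_of_isBas)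

attribute [local instance] ExtFil4.kvbRing

variable {S : Scheme.{u}} {K : Type v} [CommRing K] [LambdaOps K] {φ : SGA6.Kvb S →+ K}

/-- The structure hypotheses alone. -/
structure IsLamHom (S : Scheme.{u}) (K : Type v) [CommRing K] [LambdaOps K] (φ : SGA6.Kvb S →+* K) : Prop where
  map_lam : ∀ (i : ℕ) (E L : S.Modules), FlatMod.IsFinLocFree E → FlatMod.IsFinLocFree L →
    ExtPow.IsExtPow i E L → LambdaOps.lam i (φ (cl E)) = φ (cl L)

theorem lam_zero_elt {R : Type*} [CommRing R] [LambdaOps R] {i : ℕ} (hi : 0 < i) : LambdaOps.lam i (0 : R) = 0 := by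
  have h : ∀ j, LambdaOps.lam (j + 1) (0 : R) = 0 := by
    intro j
    induction j using Nat.strong_induction_on with
    | _ j ih =>
      have h0 := LambdaOps.lam_add (j + 1) (0 : R) 0
      rw [add_zero, Finset.sum_range_succ', Finset.sum_range_succ,
        Finset.sum_eq_zero fun k hk => by rw [ih k (Finset.mem_range.1 hk), zero_mul]] at h0
      simpa [LambdaOps.lam_zero] using h0
  obtain ⟨j, rfl⟩ : ∃ j, i = j + 1 := ⟨i - 1, by omega⟩
  exact h j

theorem lam_PL {φ : SGA6.Kvb S →+* K} (hφ : IsLamHom S K φ) {c : SGA6.Kvb S} (hc : c ∈ PL S) {i : ℕ}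
    (hi : 2 ≤ i) : LambdaOps.lam i (φ c) = 0 := by
  obtain ⟨M, hM, hr, rfl⟩ := hc
  obtain ⟨L, hL, hLM⟩ := KModel5.hasExt S i M hM
  rw [hφ.map_lam i M L hM hL hLM, cl_of_isZero ?_, map_zero]
  refine DeRhamH7.isZero_extPow hLM fun x => ?_
  obtain ⟨n, D, e, hxD, he⟩ := PushUnit3.exists_isBas_nhd' hM x
  refine ⟨n, D, e, hxD, ?_, he⟩
  have := rk_eq_of_isBas he hxD
  have := hr x
  omega

/-- Lambda compatibility of composites with a pull-back. -/
theorem map_lam_pull {X' : Scheme.{u}} (f : X' ⟶ S) {φ : SGA6.Kvb S →+* K} (hφ : IsLamHom S K φ)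
    (hb : Function.Bijective φ) {K' : Type (u + 1)} [CommRing K'] [LambdaOps K'] {ψ : SGA6.Kvb X' →+* K'}
    (hψ : IsLamHom X' K' ψ) (g : K →+* K') (hg : ∀ a, g (φ a) = ψ (pullHom f a)) (i : ℕ) (x : K) :
    g (LambdaOps.lam i x) = LambdaOps.lam i (g x) := by
  obtain ⟨a, rfl⟩ := hb.2 x
  revert i
  induction a using K0Cat.clSub_induction with
  | h0 =>
    intro i
    simp only [map_zero]
    rcases Nat.eq_zero_or_pos i with rfl | hi
    · rw [LambdaOps.lam_zero, LambdaOps.lam_zero, map_one]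
    · rw [lam_zero_elt hi, lam_zero_elt hi, map_zero]
  | hcl E hE =>
    intro i
    obtain ⟨L, hL, hLE⟩ := KModel5.hasExt S i E hE
    show g (LambdaOps.lam i (φ (cl E))) = LambdaOps.lam i (g (φ (cl E)))
    rw [hφ.map_lam i E L hE hL hLE, hg, hg, pullHom_cl f hE, pullHom_cl f hL,
      hψ.map_lam i _ _ (M2.isFinLocFree_pullback f hE) (M2.isFinLocFree_pullback f hL)
        (Wedge2.isExtPow_pullback' f (qcoh_of_vb hE) hLE)]
  | hadd a b ha hb =>
    intro i
    rw [map_add, map_add, LambdaOps.lam_add, LambdaOps.lam_add, map_sum]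
    exact Finset.sum_congr rfl fun j _ => by rw [map_mul, ha, hb]
  | hneg a ha =>
    intro i
    rw [map_neg]
    induction i using Nat.strong_induction_on with
    | _ i ih =>
      rcases Nat.eq_zero_or_pos i with rfl | hi
      · rw [LambdaOps.lam_zero, LambdaOps.lam_zero, map_one]
      have h1 : LambdaOps.lam i (φ a + -φ a) = 0 := by rw [add_neg_cancel, lam_zero_elt hi]
      have h2 : LambdaOps.lam i (g (φ a) + -g (φ a)) = 0 := by rw [add_neg_cancel, lam_zero_elt hi]
      rw [LambdaOps.lam_add, Finset.sum_range_succ', LambdaOps.lam_zero, one_mul, Nat.sub_zero] at h1 h2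
      rw [eq_neg_of_add_eq_zero_right h1, map_neg g (φ a), eq_neg_of_add_eq_zero_right h2, map_neg, map_sum]
      refine congrArg _ (Finset.sum_congr rfl fun j _ => ?_)
      rw [map_mul, ha, ih _ (by omega), map_neg]

/-- The K-ring of bundles is a special lambda-ring. -/
theorem isSpecial [CompactSpace S] (φ : SGA6.Kvb S →+* K) (hφ : IsLamHom S K φ) (hb : Function.Bijective φ) :
    IsSpecial K := by
  have hone : ∀ n : ℕ, 2 ≤ n → LambdaOps.lam n (1 : K) = 0 := fun n hn => by
    rw [← map_one φ]; exact lam_PL hφ one_mem_PL hn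
  -- any two elements become polynomials in classes of rank at most one
  have key : ∀ x y : K, ∃ (L : Type (u + 1)) (_ : CommRing L) (_ : LambdaOps L) (g : K →+* L) (σ : Type (u + 1))
      (θ : MvPolynomial σ ℤ →+* L), Function.Injective g ∧ (∀ i z, g (LambdaOps.lam i z) = LambdaOps.lam i (g z)) ∧
      (∀ j, 2 ≤ j → LambdaOps.lam j (1 : L) = 0) ∧
      (∀ (d : σ →₀ ℕ) (j : ℕ), 2 ≤ j → LambdaOps.lam j (θ (monomial d 1)) = 0) ∧
      (∃ z, θ z = g x) ∧ ∃ z, θ z = g y := by
    intro x y
    obtain ⟨a, rfl⟩ := hb.2 x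
    obtain ⟨b, rfl⟩ := hb.2 y
    have hdiff : ∀ a : SGA6.Kvb S, ∃ E F : S.Modules, FlatMod.IsFinLocFree E ∧ FlatMod.IsFinLocFree F ∧
        a = cl E - cl F := by
      intro a
      have hsum : ∀ {E F : S.Modules}, FlatMod.IsFinLocFree E → FlatMod.IsFinLocFree F →
          cl (E ⊞ F) = cl E + cl F := fun {E F} hE hF =>
        cl_ses _ (ShortComplex.Splitting.ofHasBinaryBiproduct E F).shortExact hE
          (KFlat.Sch.isFinLocFree_biprod hE hF) hF
      induction a using K0Cat.clSub_induction with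
      | h0 => exact ⟨_, _, ExtFil4.isVB_one, ExtFil4.isVB_one, (sub_self _).symm⟩
      | hcl E hE => exact ⟨E ⊞ Coh.structureModule S, _, KFlat.Sch.isFinLocFree_biprod hE ExtFil4.isVB_one,
          ExtFil4.isVB_one, by rw [hsum hE ExtFil4.isVB_one, add_sub_cancel_right]⟩
      | hneg a ha =>
        obtain ⟨E, F, hE, hF, rfl⟩ := ha
        exact ⟨F, E, hF, hE, neg_sub _ _⟩
      | hadd a b ha hb =>
        obtain ⟨E, F, hE, hF, rfl⟩ := ha
        obtain ⟨E', F', hE', hF', rfl⟩ := hb
        exact ⟨E ⊞ E', F ⊞ F', KFlat.Sch.isFinLocFree_biprod hE hE', KFlat.Sch.isFinLocFree_biprod hF hF',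
          by rw [hsum hE hE', hsum hF hF', sub_add_sub_comm]⟩
    obtain ⟨E₁, F₁, hE₁, hF₁, rfl⟩ := hdiff a
    obtain ⟨E₂, F₂, hE₂, hF₂, rfl⟩ := hdiff b
    obtain ⟨X', f, -, hf, hl⟩ := exists_split_list [E₁, F₁, E₂, F₂] (by
      intro E hE
      simp only [List.mem_cons, List.not_mem_nil, or_false] at hE
      rcases hE with rfl | rfl | rfl | rfl <;> assumption)
    obtain ⟨lam, hlam⟩ := ExtFil4.exists_lam (KModel5.hasExt X')
    obtain ⟨-, -, -, -, hmap, h0, h1, hadd⟩ := hlam
    let inst : LambdaOps (SGA6.Kvb X') := ⟨lam, h0, h1, hadd⟩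
    have hψ : IsLamHom X' (SGA6.Kvb X') (RingHom.id _) :=
      ⟨fun i E L hE hL hEL => (hmap i E L hE hEL :)⟩
    let φe := RingEquiv.ofBijective φ hb
    let g : K →+* SGA6.Kvb X' := (pullHom f).comp φe.symm.toRingHom
    have hg : ∀ a, g (φ a) = pullHom f a := fun a => congrArg (pullHom f) (φe.symm_apply_apply a)
    let θ : MvPolynomial (PL X') ℤ →+* SGA6.Kvb X' := eval₂Hom (Int.castRingHom _) Subtype.val
    have hclo : Subring.closure (PL X') ≤ θ.range :=
      Subring.closure_le.2 fun c hc => ⟨MvPolynomial.X ⟨c, hc⟩, by simp [θ]⟩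
    have hmon : ∀ d, θ (monomial d 1) ∈ PL X' := by
      intro d
      induction d using Finsupp.induction with
      | zero => simpa using one_mem_PL
      | single_add a k d hp hk ih =>
        rw [monomial_single_add, map_mul, map_pow]
        refine mul_mem_PL ?_ ih
        clear ih hk
        induction k with
        | zero => simpa using one_mem_PL
        | succ k ihk => rw [pow_succ]; exact mul_mem_PL ihk (by simpa [θ] using a.2)
    refine ⟨_, inferInstance, inst, g, _, θ, hf.comp φe.symm.injective, map_lam_pull f hφ hb hψ g hg,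
      fun j hj => lam_PL hψ one_mem_PL hj, fun d j hj => lam_PL hψ (hmon d) hj, ?_, ?_⟩
    · rw [hg, map_sub]
      exact hclo (Subring.sub_mem _ (hl _ (by simp)) (hl _ (by simp)))
    · rw [hg, map_sub]
      exact hclo (Subring.sub_mem _ (hl _ (by simp)) (hl _ (by simp)))
  constructor
  · exact hone
  · intro n Q hQ x y
    obtain ⟨L, _, _, g, σ, θ, hgi, hgl, h1, hθ, ⟨z, hz⟩, w, hw⟩ := key x y
    apply hgi
    rw [hgl, map_mul, ← hz, ← hw, Lambda.lam_mul_lines θ h1 hθ hQ, Lambda.aeval_int_comm]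
    refine Lambda.aeval_int_congr (fun k => ?_) Q
    rcases k with k | k <;> simp [hgl, hz, hw]
  · intro i j Q hQ x
    obtain ⟨L, _, _, g, σ, θ, hgi, hgl, h1, hθ, ⟨z, hz⟩, -⟩ := key x x
    apply hgi
    rw [hgl, hgl, ← hz, Lambda.lam_lam_lines θ h1 hθ hQ, Lambda.aeval_int_comm]
    exact Lambda.aeval_int_congr (fun k => by simp [hgl, hz]) Q

end Groth.Agent.PBK5
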