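import Groth.Agent.Lib.PBK5.Elem

/-! The splitting principle with filtrations. -/

set_option autoImplicit false
set_option linter.style.haveILetI false
set_option backward.isDefEq.respectTransparency false
set_option backward.isDefEq.respectTransparency.types false

universe v u

open CategoryTheory Limits AlgebraicGeometry LambdaRing

noncomputable section

namespace Groth.Agent.PBK5

attribute [local instance] ExtFil4.kvbRing

/-- Splitting, preserving the filtration, models in the large universe. -/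
theorem exists_split_fil : ∀ (m : ℕ) {X : Scheme.{u}} [ConnectedSpace X] [CompactSpace X] {E : X.Modules}
    {K : Type (u + 1)} [CommRing K] [LambdaOps K] {P : PosStructure K} {φ : SGA6.Kvb X →+ K},
    KRR.IsModel X K P φ → FlatMod.IsFinLocFreeOfRank m E →
    ∃ (X' : Scheme.{u}) (_ : ConnectedSpace X') (_ : CompactSpace X') (_ : IsNoetherian X → IsNoetherian X')
      (f : X' ⟶ X) (K' : Type (u + 1)) (_ : CommRing K') (_ : LambdaOps K') (P' : PosStructure K')
      (φ' : SGA6.Kvb X' →+ K') (_ : KRR.IsModel X' K' P' φ') (g : K →+ K') (_ : KRR.IsPull f φ φ' g),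
      Function.Injective g ∧ (∀ k x, g x ∈ gammaFiltration P' k → x ∈ gammaFiltration P k) ∧
      ∃ L : Fin m → X'.Modules, (∀ j, FlatMod.IsFinLocFreeOfRank 1 (L j)) ∧
        g (φ (KRR.cl X E)) = ∑ j, φ' (KRR.cl X' (L j))
  | 0, X, _, _, E, K, _, _, P, φ, hK, hE => by
    refine ⟨X, inferInstance, inferInstance, id, 𝟙 X, K, inferInstance, inferInstance, P, φ, hK,
      AddMonoidHom.id K, fun M hM => ?_, Function.injective_id, fun k x hx => hx, Fin.elim0, fun j => j.elim0, ?_⟩
    · exact congrArg φ ((pullHom_id X _).symm.trans (pullHom_cl _ hM))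
    · show φ (KRR.cl X E) = _
      rw [show KRR.cl X E = 0 from cl_of_isZero (AmpleElt5.isZero_of_rank_zero hE), map_zero]
      simp
  | m + 1, X, _, _, E, K, _, _, P, φ, hK, hE => by
    obtain ⟨Y, π, hYc, hYk, hYn, hπ, Q, O1, q, hPB, hQ, hO, hcl⟩ := exists_step hE
    obtain ⟨K₁, i1, i2, P₁, φ₁, hK₁⟩ := KModel5.exists_model Y
    obtain ⟨g₁, hg₁, hg₁i⟩ := exists_pull π hπ hK hK₁
    obtain ⟨X', hc, hk, hn, f, K', i1', i2', P', φ', hK', g, hg, hgi, hgf, L, hL, hLs⟩ :=
      exists_split_fil m hK₁ hQ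
    have hcomp : KRR.IsPull (f ≫ π) φ φ' (g.comp g₁) := fun M hM => by
      show g (g₁ _) = _
      rw [hg₁ M hM, hg _ (M2.isFinLocFree_pullback π hM)]
      exact congrArg φ' (cl_congr ((Scheme.Modules.pullbackComp f π).app M)
        (M2.isFinLocFree_pullback f (M2.isFinLocFree_pullback π hM)))
    refine ⟨X', hc, hk, fun h => hn (hYn h), f ≫ π, K', i1', i2', P', φ', hK', g.comp g₁, hcomp, hgi.comp hg₁i,
      fun k x hx => comap_filtration_step hPB hE hQ hcl hK hK₁ hg₁ k (hgf k _ hx),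
      Fin.snoc L ((Scheme.Modules.pullback f).obj O1), fun j => ?_, ?_⟩
    · refine Fin.lastCases ?_ (fun i => ?_) j
      · rw [Fin.snoc_last]; exact M2.isFinLocFreeOfRank_pullback f hO
      · rw [Fin.snoc_castSucc]; exact hL i
    · show g (g₁ (φ (KRR.cl X E))) = _
      rw [isPull_apply hg₁, hcl, map_add, map_add, hLs, hg O1 (M2.isFinLocFree_of_ofRank hO), Fin.sum_univ_castSucc]
      simp

/-- Splitting for models in any universe. -/
theorem exists_split_fil' {X : Scheme.{u}} [ConnectedSpace X] [CompactSpace X] {m : ℕ} {E : X.Modules}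
    {K : Type v} [CommRing K] [LambdaOps K] {P : PosStructure K} {φ : SGA6.Kvb X →+ K}
    (hK : KRR.IsModel X K P φ) (hE : FlatMod.IsFinLocFreeOfRank m E) :
    ∃ (X' : Scheme.{u}) (_ : ConnectedSpace X') (_ : CompactSpace X') (_ : IsNoetherian X → IsNoetherian X')
      (f : X' ⟶ X) (K' : Type (u + 1)) (_ : CommRing K') (_ : LambdaOps K') (P' : PosStructure K')
      (φ' : SGA6.Kvb X' →+ K') (_ : KRR.IsModel X' K' P' φ') (g : K →+ K') (_ : KRR.IsPull f φ φ' g),
      Function.Injective g ∧ (∀ k, (gammaFiltration P' k).comap g = gammaFiltration P k) ∧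
      ∃ L : Fin m → X'.Modules, (∀ j, FlatMod.IsFinLocFreeOfRank 1 (L j)) ∧
        g (φ (KRR.cl X E)) = ∑ j, φ' (KRR.cl X' (L j)) := by
  obtain ⟨K₁, i1, i2, P₁, φ₁, hK₁⟩ := KModel5.exists_model X
  have hid : Function.Injective (pullHom (𝟙 X)) := fun x y h => by rwa [pullHom_id, pullHom_id] at h
  obtain ⟨g₀, hg₀, hg₀i⟩ := exists_pull (𝟙 X) hid hK hK₁
  obtain ⟨g₀', hg₀', -⟩ := exists_pull (𝟙 X) hid hK₁ hK
  have hinv : ∀ y, g₀' (g₀ y) = y := fun y => by
    obtain ⟨a, rfl⟩ := hK.bijective.2 y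
    rw [isPull_apply hg₀, pullHom_id, isPull_apply hg₀', pullHom_id]
  obtain ⟨X', hc, hk, hn, f, K', i1', i2', P', φ', hK', g, hg, hgi, hgf, L, hL, hLs⟩ := exists_split_fil m hK₁ hE
  have hcomp : KRR.IsPull f φ φ' (g.comp g₀) := fun M hM => by
    show g (g₀ _) = _
    rw [isPull_apply hg₀, pullHom_id, hg M hM]
  refine ⟨X', hc, hk, hn, f, K', i1', i2', P', φ', hK', g.comp g₀, hcomp, hgi.comp hg₀i, fun k => ?_, L, hL, ?_⟩
  · ext x
    refine ⟨fun hx => ?_, fun hx => pull_filtration hK hK' hcomp k hx⟩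
    rw [← hinv x]
    exact pull_filtration hK₁ hK hg₀' k (hgf k _ hx)
  · show g (g₀ (φ (KRR.cl X E))) = _
    rw [isPull_apply hg₀, pullHom_id, hLs]

end Groth.Agent.PBK5
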