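import Groth.Agent.Lib.CI2.TorKoszul
import Groth.Agent.Lib.CI2.Regular
import Groth.Agent.Lib.KEuler6.Tor
import Groth.Agent.Lib.Conormal2.Incl
import Groth.Agent.Lib.CIReg6.Basic

/-! Tor-independence of a regular sequence that stays regular. -/

set_option autoImplicit false
set_option linter.style.haveILetI false
set_option backward.isDefEq.respectTransparency false
set_option backward.isDefEq.respectTransparency.types false

universe u

open CategoryTheory CategoryTheory.Limits MonoidalCategory RingTheory.Sequence IsLocalRing TensorProduct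

noncomputable section

namespace Groth.Agent.PBK5.TorAlg

variable {A : Type u} [CommRing A]

theorem isZero_tor_quot (B : Type u) [AddCommGroup B] [Module A B] (rs : List A) (hA : IsWeaklyRegular A rs)
    (hB : IsWeaklyRegular B rs) (i : ℕ) (hi : 1 ≤ i) :
    IsZero (((Tor (ModuleCat.{u} A) i).obj (ModuleCat.of A B)).obj (ModuleCat.of A (A ⧸ Ideal.ofList rs))) := by
  have h := (CI2.forall_isZero_tor_iff_ex (CI2.ex_of_isWeaklyRegular rs A hA) B).2
    (CI2.ex_of_isWeaklyRegular rs B hB) i hi
  obtain ⟨e⟩ := TorBal27.nonempty_tor_iso_flip (R := A) i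
  exact h.of_iso ((e.app (ModuleCat.of A (A ⧸ Ideal.ofList rs))).app (ModuleCat.of A B)).symm

theorem isZero_map_pi {C : Type*} [Category C] [Preadditive C] (G : ModuleCat.{u} A ⥤ C) [G.Additive]
    (Q : Type u) [AddCommGroup Q] [Module A Q] (h : IsZero (G.obj (ModuleCat.of A Q))) (k : ℕ) :
    IsZero (G.obj (ModuleCat.of A (Fin k → Q))) := by
  classical
  let p : Fin k → (ModuleCat.of A (Fin k → Q) ⟶ ModuleCat.of A Q) := fun j => ModuleCat.ofHom (LinearMap.proj j)
  let ι : Fin k → (ModuleCat.of A Q ⟶ ModuleCat.of A (Fin k → Q)) := fun j =>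
    ModuleCat.ofHom (LinearMap.single A (fun _ => Q) j)
  have hid : 𝟙 (ModuleCat.of A (Fin k → Q)) = ∑ j, p j ≫ ι j := by
    refine ModuleCat.hom_ext (LinearMap.ext fun v => ?_)
    rw [ModuleCat.hom_sum, LinearMap.sum_apply]
    exact (Finset.univ_sum_single v).symm
  rw [IsZero.iff_id_eq_zero, ← G.map_id, hid, G.map_sum]
  exact Finset.sum_eq_zero fun j _ => by rw [G.map_comp, h.eq_of_tgt (G.map (p j)) 0, zero_comp]

theorem additive_leftDerived (G : ModuleCat.{u} A ⥤ ModuleCat.{u} A) [G.Additive] (i : ℕ) : (G.leftDerived i).Additive where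
  map_add {X Y f g} := by
    let P := projectiveResolution X
    let Q := projectiveResolution Y
    have w : (ProjectiveResolution.lift f P Q + ProjectiveResolution.lift g P Q) ≫ Q.π =
        P.π ≫ (ChainComplex.single₀ (ModuleCat.{u} A)).map (f + g) := by
      rw [Preadditive.add_comp, ProjectiveResolution.lift_commutes, ProjectiveResolution.lift_commutes,
        Functor.map_add, Preadditive.comp_add]
    rw [G.leftDerived_map_eq i (f + g) _ w,
      G.leftDerived_map_eq i f _ (ProjectiveResolution.lift_commutes f P Q),
      G.leftDerived_map_eq i g _ (ProjectiveResolution.lift_commutes g P Q), Functor.map_add, Preadditive.add_comp,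
      Preadditive.comp_add]

/-- A resolution of a free module over the quotient stays a resolution. -/
theorem exactAt_tensor (B : Type u) [AddCommGroup B] [Module A B] (rs : List A) (hA : IsWeaklyRegular A rs)
    (hB : IsWeaklyRegular B rs) {N : ModuleCat.{u} A} (P : ProjectiveResolution N) {k : ℕ}
    (e : N ≅ ModuleCat.of A (Fin k → A ⧸ Ideal.ofList rs)) (i : ℕ) (hi : 1 ≤ i) :
    ((((tensoringLeft (ModuleCat.{u} A)).obj (ModuleCat.of A B)).mapHomologicalComplex
      (ComplexShape.down ℕ)).obj P.complex).ExactAt i := by
  let G := (tensoringLeft (ModuleCat.{u} A)).obj (ModuleCat.of A B)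
  haveI : G.Additive := inferInstanceAs (tensorLeft (ModuleCat.of A B)).Additive
  haveI : (G.leftDerived i).Additive := additive_leftDerived G i
  have h0 : IsZero ((G.leftDerived i).obj N) :=
    (isZero_map_pi (G.leftDerived i) (A ⧸ Ideal.ofList rs) (isZero_tor_quot B rs hA hB i hi) k).of_iso
      ((G.leftDerived i).mapIso e)
  rw [HomologicalComplex.exactAt_iff_isZero_homology]
  exact h0.of_iso (P.isoLeftDerivedObj G i).symm

variable [IsLocalRing A] [IsNoetherianRing A]

/-- The number of generators of an ideal with free conormal module. -/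
theorem spanFinrank_ker {B : Type u} [CommRing B] [Nontrivial B] [Algebra A B]
    (hsurj : Function.Surjective (algebraMap A B)) {b : ℕ}
    (e : B ⊗[A] (RingHom.ker (algebraMap A B)) ≃ₗ[B] (Fin b → B)) :
    (RingHom.ker (algebraMap A B)).spanFinrank = b := by
  classical
  set K := RingHom.ker (algebraMap A B) with hK
  haveI : Module.Finite A K := Module.Finite.of_fg (IsNoetherian.noetherian K)
  refine le_antisymm ?_ ?_
  · have hpre : ∀ j : Fin b, ∃ m : K, (1 : B) ⊗ₜ[A] m = e.symm (Pi.single j 1) := fun j =>
      TensorProduct.mk_surjective A K B hsurj _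
    choose m hm using hpre
    let S : Submodule A K := Submodule.span A (Set.range m)
    have htop : S = ⊤ := by
      refine top_le_iff.1 (Submodule.le_of_le_smul_of_le_jacobson_bot Module.Finite.fg_top
        ((le_maximalIdeal (RingHom.ker_ne_top (algebraMap A B))).trans (maximalIdeal_le_jacobson _)) ?_)
      intro z _
      obtain ⟨c, hc⟩ : ∃ c : Fin b → A, ∀ j, algebraMap A B (c j) = e ((1 : B) ⊗ₜ[A] z) j :=
        ⟨fun j => (hsurj _).choose, fun j => (hsurj _).choose_spec⟩
      have h0 : (1 : B) ⊗ₜ[A] (z - ∑ j, c j • m j) = 0 := by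
        refine e.injective ?_
        rw [map_zero, TensorProduct.tmul_sub, map_sub, TensorProduct.tmul_sum, map_sum, sub_eq_zero]
        have h1 : ∀ j, e ((1 : B) ⊗ₜ[A] (c j • m j)) = algebraMap A B (c j) • (Pi.single j 1 : Fin b → B) := fun j => by
          rw [TensorProduct.tmul_smul, hm, ← algebraMap_smul B, map_smul, LinearEquiv.apply_symm_apply]
        simp only [h1, hc]
        funext j
        simp [Pi.single_apply]
      rw [← add_sub_cancel (∑ j, c j • m j) z]
      exact Submodule.add_mem_sup (Submodule.sum_mem _ fun j _ => Submodule.smul_mem _ _ (Submodule.subset_span ⟨j, rfl⟩))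
        (Conormal2.mem_smul_top_of_one_tmul_eq_zero hsurj h0)
    have hmap := congrArg (Submodule.map K.subtype) htop
    rw [Submodule.map_top, Submodule.range_subtype, Submodule.map_span] at hmap
    rw [← hmap]
    refine (Submodule.spanFinrank_span_le_ncard_of_finite ((Set.finite_range m).image _)).trans ?_
    refine (Set.ncard_image_le (Set.finite_range m)).trans ?_
    rw [← Set.image_univ]
    exact (Set.ncard_image_le Set.finite_univ).trans_eq (by simp)
  · obtain ⟨l, hl, hlen⟩ := CI2.exists_generators K
    let v : Fin l.length → K := fun i => ⟨l.get i, hl ▸ Ideal.subset_span (l.get_mem i)⟩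
    have hv : Submodule.span A (Set.range v) = ⊤ := by
      apply Submodule.map_injective_of_injective K.injective_subtype
      rw [Submodule.map_span, Submodule.map_top, Submodule.range_subtype, ← Set.range_comp,
        show (K.subtype ∘ v) = l.get from rfl, Set.range_list_get]
      exact hl
    have hB : Submodule.span B (Set.range fun i => e ((1 : B) ⊗ₜ[A] v i)) = ⊤ := by
      rw [show (fun i => e ((1 : B) ⊗ₜ[A] v i)) = e ∘ (fun i => (1 : B) ⊗ₜ[A] v i) from rfl, Set.range_comp]
      have h1 : Submodule.span B (Set.range fun i => (1 : B) ⊗ₜ[A] v i) = ⊤ := by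
        have := Submodule.baseChange_span (R := A) (A := B) (Set.range v)
        rw [hv, Submodule.baseChange_top, ← Set.range_comp] at this
        exact this.symm
      have := congrArg (Submodule.map e.toLinearMap) h1
      rw [Submodule.map_span, Submodule.map_top, LinearEquiv.range] at this
      exact this
    have := finrank_range_le_card (R := B) (b := fun i => e ((1 : B) ⊗ₜ[A] v i))
    rw [Set.finrank, hB, finrank_top, Module.finrank_fin_fun, Fintype.card_fin, hlen] at this
    exact this

/-- Images of a regular sequence generating an ideal with enough generators form a regular sequence. -/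
theorem isRegular_map {A₀ : Type u} [CommRing A₀] (σ : A₀ →+* A) (rs : List A₀) {J : Ideal A}
    (hJ : CInt.IsRegularIdeal J) (hgen : Ideal.ofList (rs.map σ) = J) (hlen : rs.length ≤ J.spanFinrank) :
    IsRegular A (rs.map σ) :=
  CIReg6.isRegular_of_generators hJ _ hgen (by rwa [List.length_map])

end Groth.Agent.PBK5.TorAlg
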