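import Groth.Agent.Lib.PBK5.Kos
import Groth.Agent.Lib.PBK5.BaseChangeCl
import Groth.Agent.Lib.KoszShH13.Local
import Groth.Agent.Lib.EmbDef.Regular
import Groth.Agent.Lib.Bootst16.Slice
import Groth.Agent.Lib.CIReg6.Basic
import Groth.Agent.Lib.FGA3.FormalTriv

/-! The Koszul resolution of a regularly embedded zero scheme. -/

set_option autoImplicit false
set_option linter.style.haveILetI false
set_option backward.isDefEq.respectTransparency false
set_option backward.isDefEq.respectTransparency.types false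
set_option maxHeartbeats 800000

universe u

open CategoryTheory Limits AlgebraicGeometry TopologicalSpace Opposite RingTheory.Sequence exteriorPower

noncomputable section

namespace Groth.Agent.PBK5.ZeroSch

open KoszShH13

/-- A sequence weakly regular at a prime is weakly regular on a basic neighbourhood. -/
theorem exists_spread {C : Type u} [CommRing C] [IsNoetherianRing C] (P : Ideal C) [P.IsPrime] (A : Type u)
    [CommRing A] [Algebra C A] [IsLocalization.AtPrime A P] (L : List C)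
    (h : IsWeaklyRegular A (L.map (algebraMap C A))) :
    ∃ g ∉ P, ∀ (B : Type u) [CommRing B] [Algebra C B] [IsLocalization.Away g B],
      IsWeaklyRegular B (L.map (algebraMap C B)) := by
  choose g hg hkill using fun j : Fin L.length => Bootst16.exists_kill (Ideal.ofList (L.take j)) P
  have hgP : ∏ j, g j ∉ P := fun hp => by
    obtain ⟨j, -, hj⟩ := Ideal.IsPrime.prod_mem_iff.1 hp
    exact hg j hj
  refine ⟨∏ j, g j, hgP, fun B _ _ _ => ?_⟩
  rw [EmbDef.isWeaklyRegular_self_iff]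
  intro i hi b hb
  rw [List.length_map] at hi
  rw [List.getElem_map, ← List.map_take, ← Ideal.map_ofList] at hb
  rw [← List.map_take, ← Ideal.map_ofList]
  obtain ⟨⟨a, s⟩, hs⟩ := IsLocalization.surj (Submonoid.powers (∏ j, g j)) b
  have hunit := IsLocalization.map_units B s
  refine (Ideal.mul_unit_mem_iff_mem _ hunit).1 ?_
  rw [hs]
  have h1 : algebraMap C B (a * L[i]) ∈ (Ideal.ofList (L.take i)).map (algebraMap C B) := by
    rw [map_mul, ← hs, mul_right_comm]
    exact Ideal.mul_mem_right _ _ hb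
  obtain ⟨m, hm, hma⟩ := (IsLocalization.algebraMap_mem_map_algebraMap_iff (Submonoid.powers (∏ j, g j)) B _ _).1 h1
  have hmP : m ∈ P.primeCompl := (Submonoid.powers_le.2 (show ∏ j, g j ∈ P.primeCompl from hgP)) hm
  have h2 : algebraMap C A a ∈ (Ideal.ofList (L.take i)).map (algebraMap C A) := by
    have h3 := (EmbDef.isWeaklyRegular_self_iff _).1 h i (by simpa using hi) (algebraMap C A a)
    rw [List.getElem_map, ← List.map_take, ← Ideal.map_ofList, ← map_mul] at h3
    exact h3 ((IsLocalization.algebraMap_mem_map_algebraMap_iff P.primeCompl A _ _).2 ⟨m, hmP, hma⟩)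
  obtain ⟨v, hv, hva⟩ := (IsLocalization.algebraMap_mem_map_algebraMap_iff P.primeCompl A _ _).1 h2
  obtain ⟨c, hc⟩ : g ⟨i, hi⟩ ∣ ∏ j, g j := Finset.dvd_prod_of_mem g (Finset.mem_univ _)
  refine (IsLocalization.algebraMap_mem_map_algebraMap_iff (Submonoid.powers (∏ j, g j)) B _ _).2
    ⟨∏ j, g j, Submonoid.mem_powers _, ?_⟩
  show (∏ j, g j) * a ∈ _
  rw [show (∏ j, g j) * a = g ⟨i, hi⟩ * a * c by rw [hc, mul_right_comm]]
  exact Ideal.mul_mem_right _ _ (hkill ⟨i, hi⟩ a ⟨v, hv, hva⟩)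

variable {X Y : Scheme.{u}} {E : Y.Modules} {t : E ⟶ Coh.structureModule Y} {d : ℕ} {i : X ⟶ Y}

/-- The ideal of the zero scheme of a cosection. -/
abbrev IsZeroSch (i : X ⟶ Y) (t : E ⟶ Coh.structureModule Y) : Prop :=
  ∀ U : Y.affineOpens, i.ker.ideal U = Ideal.span {a : Γ(Y, U.1) | ∃ s : Γ(E, U.1), (t.app U.1) s = a}

theorem ker_eq_range [IsClosedImmersion i] (ht : IsZeroSch i t) (U : Y.affineOpens) :
    RingHom.ker (i.app U.1).hom = LinearMap.range (KoszSh.secForm t U.1) := by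
  rw [← Scheme.Hom.ker_apply i U, ht U]
  exact (congrArg Ideal.span (show {a : Γ(Y, U.1) | ∃ s : Γ(E, U.1), (t.app U.1) s = a} =
    (LinearMap.range (KoszSh.secForm t U.1) : Set Γ(Y, U.1)) from rfl)).trans (Submodule.span_eq _)

theorem exists_regBasis [IsNoetherian X] [IsNoetherian Y] [IsClosedImmersion i]
    (hE : FlatMod.IsFinLocFreeOfRank d E) (ht : IsZeroSch i t) (hi : Mor2.IsRegularClosedImmersion i)
    (hci : FlatMod.IsFinLocFreeOfRank d (Omega.conormal i)) (z : X) :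
    ∃ U : Y.affineOpens, i z ∈ U.1 ∧ HasRegBasis t d U := by
  obtain ⟨U, -, hzU, hU, ⟨b⟩⟩ := exists_basis_nhd hE (i z) ⊤ trivial
  let a : Fin d → Γ(Y, U) := fun k => KoszSh.secForm t U (b k)
  have hker : RingHom.ker (i.app U).hom = Ideal.ofList (List.ofFn a) := by
    rw [ker_eq_range ht ⟨U, hU⟩, EmbDef.ofList_ofFn, LinearMap.range_eq_map, ← b.span_eq, Submodule.map_span,
      ← Set.range_comp]
    rfl
  let A := Y.presheaf.stalk (i z)
  letI : Algebra Γ(Y, U) A := (Y.presheaf.germ U (i z) hzU).hom.toAlgebra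
  haveI : IsLocalization.AtPrime A (hU.primeIdealOf ⟨i z, hzU⟩).asIdeal := hU.isLocalization_stalk ⟨i z, hzU⟩
  haveI : IsNoetherianRing Γ(Y, U) := IsLocallyNoetherian.component_noetherian ⟨U, hU⟩
  obtain ⟨rs, hrs, hrsK, -, hsp⟩ := BCCl.exists_seq i hi d hci z
  have hA : IsRegular A ((List.ofFn a).map (algebraMap Γ(Y, U) A)) :=
    CIReg6.isRegular_of_generators ⟨rs, hrs, hrsK⟩ _
      (by rw [← Ideal.map_ofList, ← hker, RegImm26.ker_stalkMap_eq i z hU hzU]; rfl)
      (by rw [List.length_map, List.length_ofFn, hsp])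
  obtain ⟨g, hg, hB⟩ := exists_spread (hU.primeIdealOf ⟨i z, hzU⟩).asIdeal A _ hA.toIsWeaklyRegular
  have hzg : i z ∈ Y.basicOpen g :=
    (Y.mem_basicOpen g (i z) hzU).2 (IsLocalization.map_units A (⟨g, hg⟩ : (hU.primeIdealOf _).asIdeal.primeCompl))
  refine ⟨⟨Y.basicOpen g, hU.basicOpen g⟩, hzg, ?_⟩
  letI : Algebra Γ(Y, U) Γ(Y, Y.basicOpen g) := (M1.ores (Y.basicOpen_le g)).hom.toAlgebra
  haveI : IsLocalization.Away g Γ(Y, Y.basicOpen g) := hU.isLocalization_basicOpen g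
  letI : Module Γ(Y, U) Γ(E, Y.basicOpen g) := Module.compHom _ (M1.ores (Y.basicOpen_le g)).hom
  haveI : IsScalarTower Γ(Y, U) Γ(Y, Y.basicOpen g) Γ(E, Y.basicOpen g) :=
    IsScalarTower.of_algebraMap_smul fun _ _ => rfl
  have hbc := SymAlg11.isBaseChange_mres E (M2.isQCoh_of_isFinLocFree (M2.isFinLocFree_of_ofRank hE)) hU g
  refine ⟨hbc.basis b, ?_⟩
  have h2 := hB Γ(Y, Y.basicOpen g)
  rw [List.map_ofFn] at h2
  convert h2 using 2
  funext k
  show KoszSh.secForm t (Y.basicOpen g) (hbc.basis b k) = _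
  rw [IsBaseChange.basis_apply]
  exact secForm_mres t (Y.basicOpen_le g) (b k)

theorem exists_one [IsClosedImmersion i] (ht : IsZeroSch i t) (V : Y.affineOpens)
    (hV : i ⁻¹ᵁ V.1 = ⊥) : HitsOne (E := E) (s := t) V := by
  haveI : Subsingleton Γ(X, i ⁻¹ᵁ V.1) := by rw [hV]; infer_instance
  have h1 : (1 : Γ(Y, V.1)) ∈ RingHom.ker (i.app V.1).hom :=
    Subsingleton.elim (α := Γ(X, i ⁻¹ᵁ V.1)) _ _
  rw [ker_eq_range ht] at h1
  exact h1

/-- Where the Koszul complex is visibly exact. -/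
def GoodOpen (t : E ⟶ Coh.structureModule Y) (d : ℕ) (U : Y.affineOpens) : Prop :=
  HasRegBasis t d U ∨ HitsOne (E := E) (s := t) U

theorem isAffBasis_goodOpen [IsNoetherian X] [IsNoetherian Y] [IsClosedImmersion i]
    (hE : FlatMod.IsFinLocFreeOfRank d E) (ht : IsZeroSch i t) (hi : Mor2.IsRegularClosedImmersion i)
    (hci : FlatMod.IsFinLocFreeOfRank d (Omega.conormal i)) : IsAffBasis (GoodOpen t d) := by
  intro W y hy
  by_cases hyi : y ∈ Set.range i
  · obtain ⟨z, rfl⟩ := hyi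
    obtain ⟨U, hzU, hU⟩ := exists_regBasis hE ht hi hci z
    obtain ⟨g, hgW, hzg⟩ := U.2.exists_basicOpen_le ⟨i z, hy⟩ hzU
    exact ⟨⟨Y.basicOpen g, U.2.basicOpen g⟩, Or.inl (hasRegBasis_basicOpen t
      (M2.isQCoh_of_isFinLocFree (M2.isFinLocFree_of_ofRank hE)) U hU g), hzg, hgW⟩
  · let O : Y.Opens := ⟨(Set.range i)ᶜ, i.isClosedEmbedding.isClosed_range.isOpen_compl⟩
    obtain ⟨V, hV, hyV, hVW⟩ := exists_isAffineOpen_mem_and_subset (X := Y) (x := y) (U := W ⊓ O) ⟨hy, hyi⟩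
    refine ⟨⟨V, hV⟩, Or.inr (exists_one ht _ (Opens.ext (Set.eq_empty_iff_forall_notMem.2
      fun x hx => (hVW hx).2 ⟨x, rfl⟩))), hyV, fun x hx => (hVW hx).1⟩

theorem zeroEquiv_dGen {R : Type u} [CommRing R] {M : Type u} [AddCommGroup M] [Module R M] (φ : M →ₗ[R] R)
    (e : Fin 1 → M) : exteriorPower.zeroEquiv R M (KoszSh.dGen φ 0 e) = φ (e 0) := by
  simp [KoszSh.dGen, map_sum, map_smul, zeroEquiv_ιMulti]

/-- The degree zero term is the structure module, compatibly with the cosection. -/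
theorem exists_eps (C : KoszSh.Cx E t) : ∃ ε : C.K.X 0 ⟶ Coh.structureModule Y,
    ∀ (U : Y.affineOpens) (m : Γ(C.K.X 0, U.1)),
      OmegaSh.fnSect Y U.1 (ε.app U.1 m) = exteriorPower.zeroEquiv _ _ (C.loc 0 U m) := by
  let f : ∀ U : Y.affineOpens, Γ(C.K.X 0, U.1) →ₗ[Γ(Y, U.1)] Γ(Y, U.1) := fun U =>
    (exteriorPower.zeroEquiv _ _).toLinearMap.comp (C.loc 0 U).toLinearMap
  obtain ⟨ε, hε⟩ := exists_glue (isAffBasis_top (X := Y)) (M := C.K.X 0) (N := Coh.structureModule Y)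
    (fun U _ => (f U).toAddMonoidHom) (fun U _ r m => (f U).map_smul r m)
    (fun U _ V _ h m => by
      obtain ⟨x, rfl⟩ := (C.loc 0 U).symm.surjective m
      obtain ⟨c, rfl⟩ := (exteriorPower.zeroEquiv Γ(Y, U.1) Γ(E, U.1)).symm.surjective x
      have hx : (exteriorPower.zeroEquiv Γ(Y, U.1) Γ(E, U.1)).symm c = c • ιMulti Γ(Y, U.1) 0 (fun j => j.elim0) := by
        rw [LinearEquiv.symm_apply_eq, map_smul, zeroEquiv_ιMulti, smul_eq_mul, mul_one]
      show M1.ores h (f U _) = f V (M1.mres (C.K.X 0) h _)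
      rw [hx, LinearEquiv.map_smul, M1.mres_smul,
        show M1.mres (C.K.X 0) h ((C.loc 0 U).symm _) = _ from C.loc_res 0 U V h (fun j => j.elim0)]
      simp [f, zeroEquiv_ιMulti])
  exact ⟨ε, fun U m => hε U trivial m⟩

/-- The Koszul resolution of the structure module of a regularly embedded zero scheme. -/
theorem exists_isLFRes [IsNoetherian X] [IsNoetherian Y] [IsClosedImmersion i]
    (hE : FlatMod.IsFinLocFreeOfRank d E) (ht : IsZeroSch i t) (hi : Mor2.IsRegularClosedImmersion i)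
    (hci : FlatMod.IsFinLocFreeOfRank d (Omega.conormal i)) :
    ∃ (L : ChainComplex Y.Modules ℕ)
      (π : L ⟶ (ChainComplex.single₀ Y.Modules).obj ((Scheme.Modules.pushforward i).obj (Coh.structureModule X))),
      KRR.IsLFRes _ d L π ∧ ∀ p, ExtPow.IsExtPow p E (L.X p) := by
  have hEl := M2.isFinLocFree_of_ofRank hE
  obtain ⟨C⟩ := exists_cx hEl t
  obtain ⟨ε, hε⟩ := exists_eps C
  have hεb : ∀ (U : Y.affineOpens), Function.Bijective (ε.app U.1) := fun U => by
    have : ⇑(ε.app U.1).hom = fun m => exteriorPower.zeroEquiv _ _ (C.loc 0 U m) := funext (hε U)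
    exact this ▸ ((C.loc 0 U).trans (exteriorPower.zeroEquiv _ _)).bijective
  have hεd : ∀ (U : Y.affineOpens) (e : Fin 1 → Γ(E, U.1)),
      ε.app U.1 ((C.K.d 1 0).app U.1 ((C.loc 1 U).symm (ιMulti _ 1 e))) = t.app U.1 (e 0) := fun U e => by
    rw [C.rule 0 U e]
    refine (hε U _).trans ?_
    rw [LinearEquiv.apply_symm_apply, zeroEquiv_dGen]
    rfl
  have hker : ∀ (U : Y.affineOpens) (a : Γ(Coh.structureModule Y, U.1)),
      (ClSub.unitToPush i).app U.1 a = 0 ↔ ∃ e, t.app U.1 e = a := fun U a => by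
    have h : a ∈ RingHom.ker (i.app U.1).hom ↔ _ := SetLike.ext_iff.1 (ker_eq_range ht U) a
    exact h
  let q : C.K.X 0 ⟶ (Scheme.Modules.pushforward i).obj (Coh.structureModule X) := ε ≫ ClSub.unitToPush i
  have hw : C.K.d 1 0 ≫ q = 0 := KoszShH13.hom_ext_basis (isAffBasis_top (X := Y)) fun U _ m => by
    obtain ⟨x, rfl⟩ := (C.loc 1 U).symm.surjective m
    let A := appLin (C.K.d 1 0 ≫ q) U.1 ∘ₗ (C.loc 1 U).symm.toLinearMap
    have hA : A = 0 := exteriorPower.linearMap_ext (AlternatingMap.ext fun e => (hker U _).2 ⟨e 0, (hεd U e).symm⟩)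
    exact LinearMap.congr_fun hA x
  haveI : IsIso ε := (M1.isIso_iff_stalk ε).2 fun y =>
    bijective_stalk_of_basis (isAffBasis_top (X := Y)) ε y fun U _ _ => hεb U
  haveI := FGA3.epi_unitToPush i
  have hq : Epi q := epi_comp _ _
  have hex : (ShortComplex.mk _ q hw).Exact := exact_of_basis (isAffBasis_top (X := Y)) _ fun U _ m hm => by
    obtain ⟨e, he⟩ := (hker U _).1 hm
    exact ⟨(C.loc 1 U).symm (ιMulti _ 1 fun _ => e), (hεb U).1 ((hεd U _).trans he)⟩
  refine ⟨C.K, (ChainComplex.toSingle₀Equiv _ _).symm ⟨q, hw⟩,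
    ⟨fun p => DeRhamH7.isFinLocFree_extPow hEl (C.isExtPow p), fun p hp => ?_, ⟨fun p => ?_⟩⟩, C.isExtPow⟩
  · exact DeRhamH7.isZero_extPow (C.isExtPow p) fun x => by
      obtain ⟨D, e, hxD, he⟩ := P1Split.exists_isBas_nhd hE x
      exact ⟨d, D, e, hxD, hp, he⟩
  · rcases p with _ | p
    · rw [ChainComplex.quasiIsoAt₀_iff, ShortComplex.quasiIso_iff_of_zeros']
      · exact (ShortComplex.exact_and_epi_g_iff_of_iso
          (ShortComplex.isoMk (Iso.refl _) (Iso.refl _) (Iso.refl _) (by simp) (by simp))).2 ⟨hex, hq⟩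
      all_goals simp
    · rw [quasiIsoAt_iff_exactAt' _ (p + 1) (ChainComplex.exactAt_succ_single_obj _ _),
        HomologicalComplex.exactAt_iff_isZero_homology]
      exact isZero_homology_of_basis C (isAffBasis_goodOpen hE ht hi hci)
        (fun U hU => hU.elim (acyc_of_hasRegBasis t) fun ⟨e, he⟩ => acyc_of_one _ e he) _ (by omega)

end Groth.Agent.PBK5.ZeroSch
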